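import Mathlib

/-!
A computable field with four elements, by codes.
-/

set_option autoImplicit false

namespace Cfsg.Agent.Spor.Cos

/-- The field with four elements. -/
inductive F4 where
  | o | e | w | v
  deriving DecidableEq

namespace F4

instance : Fintype F4 where
  elems := {o, e, w, v}
  complete x := by cases x <;> decide

/-- The element with a given code. -/
def toF : ℕ → F4
  | 0 => o | 1 => e | 2 => w | _ => v

/-- The code of an element. -/
def code : F4 → ℕ
  | o => 0 | e => 1 | w => 2 | v => 3

theorem toF_code (x : F4) : toF x.code = x := by cases x <;> rfl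

theorem code_lt (x : F4) : x.code < 4 := by cases x <;> decide

instance : Zero F4 := ⟨o⟩
instance : One F4 := ⟨e⟩
instance : Neg F4 := ⟨fun x => x⟩
instance : Add F4 := ⟨fun x y => toF (x.code ^^^ y.code)⟩
instance : Mul F4 := ⟨fun x y => toF (([[0, 0, 0, 0], [0, 1, 2, 3], [0, 2, 3, 1], [0, 3, 1, 2]].getD x.code []).getD y.code 0)⟩
instance : Inv F4 := ⟨fun x => toF ([0, 1, 3, 2].getD x.code 0)⟩

instance : Field F4 :=
  Field.ofMinimalAxioms F4 (by decide) (by decide) (by decide) (by decide) (by decide) (by decide) (by decide)
    (by decide) (by decide) ⟨o, e, by decide⟩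

theorem card_eq : Fintype.card F4 = 4 := rfl

theorem card_sq : Fintype.card F4 = 2 ^ 2 := rfl

end F4

end Cfsg.Agent.Spor.Cos
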