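import Cfsg.Agent.Lib.Spor.Cos.Simple

/-!
Upper bounds of orders from representatives whose products with the generators sift.
-/

set_option autoImplicit false

namespace Cfsg.Agent.Spor.Cos

/-- The word from the root to a listed point. -/
noncomputable def Orb.tword (O : Orb) (ws : List (List ℕ)) (fuel : ℕ) : ℕ → List ℕ :=
  Nat.rec (motive := fun _ => ℕ → List ℕ) (fun _ => [])
    (fun _ r j => bif Nat.beq j 0 then [] else
      ws.getD (O.ent.at j >>> 32) [] ++ r ((O.ent.at j >>> 16) % 65536)) fuel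

theorem ev_getD_mem {G : Type*} [Group G] {g : ℕ → G} (ws : List (List ℕ)) (i : ℕ) :
    ev g (ws.getD i []) ∈ val g ws := by
  rcases Nat.lt_or_ge i ws.length with h | h
  · rw [List.getD_eq_getElem _ _ h]
    exact mem_val (List.getElem_mem _)
  · rw [List.getD_eq_default _ _ h]
    exact one_mem _

theorem Orb.tword_mem {G : Type*} [Group G] {g : ℕ → G} (O : Orb) (ws : List (List ℕ)) :
    ∀ fuel j : ℕ, ev g (O.tword ws fuel j) ∈ val g ws
  | 0, _ => one_mem _
  | fuel + 1, j => by
    show ev g (bif Nat.beq j 0 then [] else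
      ws.getD (O.ent.at j >>> 32) [] ++ O.tword ws fuel ((O.ent.at j >>> 16) % 65536)) ∈ _
    cases Nat.beq j 0
    · rw [Bool.cond_false, ev_append]
      exact mul_mem (ev_getD_mem ws _) (O.tword_mem ws fuel _)
    · exact one_mem _

theorem Orb.tword_zero (O : Orb) (ws : List (List ℕ)) : ∀ fuel : ℕ, O.tword ws fuel 0 = []
  | 0 => rfl
  | _ + 1 => rfl

theorem val_le_of_wordsIn {G : Type*} [Group G] [Finite G] {g : ℕ → G} {ws' ws : List (List ℕ)}
    (h : wordsIn ws' ws = true) : val g ws' ≤ val g ws :=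
  (Subgroup.closure_le _).2 fun _ ⟨_, hw, e⟩ => e ▸ mem_val_of_wordsIn h hw

/-- A level whose representatives are closed up to the next subgroup. -/
theorem card_val_le {G : Type*} [Group G] [Finite G] {g : ℕ → G} {X ws' : List (List ℕ)} {m k : ℕ}
    (hk : Nat.card (val g ws') ≤ k) (t : ℕ → G) (hm : 0 < m) (h0 : t 0 = 1)
    (h : ∀ j < m, ∀ w ∈ X, ∃ q < m, ∃ r ∈ val g ws', ev g w * t j = t q * r) :
    Nat.card (val g X) ≤ m * k := by
  have hs : (val g X : Set G) ⊆ Set.range fun p : Fin m × val g ws' => t p.1 * (p.2 : G) := by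
    intro y hy
    have key : ∀ z ∈ Set.range fun p : Fin m × val g ws' => t p.1 * (p.2 : G),
        y * z ∈ Set.range fun p : Fin m × val g ws' => t p.1 * (p.2 : G) := by
      replace hy : y ∈ Subgroup.closure {x | ∃ w ∈ X, ev g w = x} := hy
      rw [← Subgroup.mem_toSubmonoid, Subgroup.closure_toSubmonoid_of_finite] at hy
      induction hy using Submonoid.closure_induction with
      | mem y hy =>
        obtain ⟨w, hw, rfl⟩ := hy
        rintro _ ⟨⟨j, s⟩, rfl⟩
        obtain ⟨q, hq, r, hr, e⟩ := h j j.2 w hw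
        exact ⟨(⟨q, hq⟩, ⟨r, hr⟩ * s), by simp [← mul_assoc, e]⟩
      | one => simp
      | mul a b _ _ ha hb => intro z hz; rw [mul_assoc]; exact ha _ (hb z hz)
    have := key 1 ⟨(⟨0, hm⟩, 1), by simp [h0]⟩
    rwa [mul_one] at this
  rw [show Nat.card (val g X) = (val g X : Set G).ncard from Nat.card_coe_set_eq _]
  refine (Set.ncard_le_ncard hs).trans ?_
  rw [← Nat.card_coe_set_eq]
  refine (Finite.card_range_le _).trans ?_
  rw [Nat.card_prod, Nat.card_fin]
  exact Nat.mul_le_mul_left m hk

/-- Two words agree at the listed points. -/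
noncomputable def agree (A : Act) (pts : List ℕ) (v w : List ℕ) : Bool :=
  pts.all fun p => force (A.go v p) fun a => Nat.beq a (A.go w p)

/-- Words agreeing at points that force the identity are equal. -/
theorem ev_eq_of_agree {G : Type*} [Group G] {g : ℕ → G} {A : Act} {π : G →* Equiv.Perm (Fin A.N)}
    (hπ : A.Hom g π) {pts : List ℕ} (hdet : ∀ y : G, (∀ q : Fin A.N, (q : ℕ) ∈ pts → π y q = q) → y = 1)
    {v w : List ℕ} (hv : Act.lettersOk A.n [v] = true) (hw : Act.lettersOk A.n [w] = true)
    (h : agree A pts v w = true) : ev g v = ev g w := by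
  refine (inv_mul_eq_one.1 (hdet _ fun q hq => ?_)).symm
  rw [map_mul, map_inv, Equiv.Perm.mul_apply, Equiv.Perm.inv_eq_iff_eq]
  refine Fin.ext ?_
  rw [hπ.apply_ev w (Act.lt_of_lettersOk hw (List.mem_singleton_self _)),
    hπ.apply_ev v (Act.lt_of_lettersOk hv (List.mem_singleton_self _))]
  have := List.all_eq_true.1 h q hq
  rw [force_eq] at this
  exact Nat.eq_of_beq_eq_true this

/-- The data of one level of sifting: the orbit, its words, the generators, and the words of the rest. -/
structure SiftLev where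
  /-- the orbit giving the representatives -/
  orb : Orb
  /-- its words -/
  ws : List (List ℕ)
  /-- bound of the depth -/
  fuel : ℕ
  /-- the generators to check -/
  X : List (List ℕ)
  /-- the first orbit below -/
  orb1 : Orb
  /-- its words -/
  ws1 : List (List ℕ)
  /-- its depth -/
  fuel1 : ℕ
  /-- the second orbit below -/
  orb2 : Orb
  /-- its words -/
  ws2 : List (List ℕ)
  /-- its depth -/
  fuel2 : ℕ
  /-- the last subgroup's words -/
  bot : List (List ℕ)
  /-- the indices at `2 ^ 0`, `2 ^ 13`, `2 ^ 26`, `2 ^ 39`, for a representative and a generator -/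
  sift : Tab

/-- The word below. -/
noncomputable def SiftLev.rest (L : SiftLev) (E : ℕ) : List ℕ :=
  L.orb1.tword L.ws1 L.fuel1 ((E >>> 13) % 8192) ++ (L.orb2.tword L.ws2 L.fuel2 ((E >>> 26) % 8192) ++
    L.bot.getD (E >>> 39) [])

/-- The check of one representative and one generator. -/
noncomputable def SiftLev.chk (L : SiftLev) (A : Act) (pts : List ℕ) (i : ℕ) : Bool :=
  force (i / L.X.length) fun j => force (L.sift.at i) fun E => force (E % 8192) fun q =>
    Nat.blt q L.orb.m &&
      ((fun v w : List ℕ => (v.all fun s => Nat.blt s A.n) && (w.all fun s => Nat.blt s A.n) && agree A pts v w)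
        (L.X.getD (i % L.X.length) [] ++ L.orb.tword L.ws L.fuel j)
        (L.orb.tword L.ws L.fuel q ++ L.rest E))

/-- The bound given by one level. -/
theorem SiftLev.card_le (L : SiftLev) {G : Type*} [Group G] [Finite G] {g : ℕ → G} {A : Act}
    {π : G →* Equiv.Perm (Fin A.N)} (hπ : A.Hom g π) {pts : List ℕ}
    (hdet : ∀ y : G, (∀ q : Fin A.N, (q : ℕ) ∈ pts → π y q = q) → y = 1)
    {ws' : List (List ℕ)} {k : ℕ} (hk : Nat.card (val g ws') ≤ k)
    (h1 : val g L.ws1 ≤ val g ws') (h2 : val g L.ws2 ≤ val g ws') (h3 : val g L.bot ≤ val g ws')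
    (hpos : 0 < L.orb.m) (h : ∀ i < L.orb.m * L.X.length, L.chk A pts i = true) :
    Nat.card (val g L.X) ≤ L.orb.m * k := by
  refine card_val_le hk (fun j => ev g (L.orb.tword L.ws L.fuel j)) hpos (by rw [Orb.tword_zero]; rfl) ?_
  intro j hj w hw
  obtain ⟨n, hn, rfl⟩ := List.mem_iff_getElem.1 hw
  have hlen : 0 < L.X.length := by omega
  have hi : j * L.X.length + n < L.orb.m * L.X.length :=
    lt_of_lt_of_le (show j * L.X.length + n < (j + 1) * L.X.length by rw [Nat.succ_mul]; omega)
      (Nat.mul_le_mul_right _ hj)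
  have e1 : (j * L.X.length + n) / L.X.length = j := by
    rw [Nat.mul_comm, Nat.mul_add_div hlen, Nat.div_eq_of_lt hn, Nat.add_zero]
  have e2 : (j * L.X.length + n) % L.X.length = n := by
    rw [Nat.mul_comm, Nat.mul_add_mod, Nat.mod_eq_of_lt hn]
  have := h _ hi
  simp only [SiftLev.chk, force_eq, e1, e2, List.getD_eq_getElem _ _ hn, Bool.and_eq_true] at this
  obtain ⟨hq, ⟨hv, hw'⟩, ha⟩ := this
  refine ⟨_, Nat.le_of_ble_eq_true hq, ev g (L.rest (L.sift.at (j * L.X.length + n))), ?_, ?_⟩
  · rw [SiftLev.rest, ev_append, ev_append]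
    exact mul_mem (h1 (L.orb1.tword_mem _ _ _)) (mul_mem (h2 (L.orb2.tword_mem _ _ _)) (h3 (ev_getD_mem _ _)))
  · rw [← ev_append, ← ev_append]
    refine ev_eq_of_agree hπ hdet ?_ ?_ ha
    · simpa [Act.lettersOk] using hv
    · simpa [Act.lettersOk] using hw'

end Cfsg.Agent.Spor.Cos
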