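import Cfsg.Agent.Lib.Spor.Cos.Words
import Cfsg.Prelude.Def_SporCoxeter

/-!
Relators of Coxeter-type presentations as words in involutions.
-/

set_option autoImplicit false

namespace Cfsg.Agent.Spor.Cos

open Cfsg.Spor

variable {α : Type*} [DecidableEq α] {G : Type*} [Group G]

/-- The letters of a word of the free group, signs dropped. -/
def letters (idx : α → ℕ) (r : FreeGroup α) : List ℕ := r.toWord.map fun x => idx x.1

theorem map_ev (φ : FreeGroup α →* G) (g : ℕ → G) (idx : α → ℕ) (h : ∀ a, φ (FreeGroup.of a) = g (idx a))
    (hi : ∀ a, g (idx a) * g (idx a) = 1) (r : FreeGroup α) : φ r = ev g (letters idx r) := by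
  have key : ∀ L : List (α × Bool), φ (FreeGroup.mk L) = ev g (L.map fun x => idx x.1) := by
    intro L
    induction L with
    | nil => exact map_one φ
    | cons x L ih =>
      have e : FreeGroup.mk (x :: L) = FreeGroup.mk [x] * FreeGroup.mk L := by rw [FreeGroup.mul_mk]; rfl
      rw [e, map_mul, ih, List.map_cons, ev]
      congr 1
      obtain ⟨a, b⟩ := x
      cases b
      · have e2 : FreeGroup.mk [(a, false)] = (FreeGroup.of a)⁻¹ := by
          rw [FreeGroup.of, FreeGroup.inv_mk]; rfl
        rw [e2, map_inv, h]
        exact inv_eq_of_mul_eq_one_left (hi a)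
      · exact h a
  conv_lhs => rw [← FreeGroup.mk_toWord (x := r)]
  exact key r.toWord

/-- The relators as a list. -/
def relList (edges : List (α × ℕ × α)) (extra : List (FreeGroup α)) : List (FreeGroup α) :=
  ((coxNodes edges).flatMap fun x => (coxNodes edges).map fun y =>
    (FreeGroup.of x * FreeGroup.of y) ^ coxLabel edges x y) ++ extra

theorem mem_relList {edges : List (α × ℕ × α)} {extra : List (FreeGroup α)} {r : FreeGroup α} :
    r ∈ relList edges extra ↔ r ∈ coxRelators edges ∪ {r | r ∈ extra} := by
  simp only [relList, List.mem_append, List.mem_flatMap, List.mem_map, coxRelators, Set.mem_union,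
    Set.mem_setOf_eq, eq_comm (a := r)]

/-- The data of a presentation by letters. -/
structure Pres (edges : List (α × ℕ × α)) (extra : List (FreeGroup α)) (A : List α) (idx : α → ℕ)
    (base : List (List ℕ)) : Prop where
  index : ∀ a, A[idx a]? = some a
  node : ∀ a, a ∈ coxNodes edges
  order : A.map idx = List.range A.length
  fromRels : (base.all fun w => ((relList edges extra).map (letters idx)).contains w) = true
  toBase : (relList edges extra).all (fun r => derivedOk A.length base (letters idx r)) = true

variable {edges : List (α × ℕ × α)} {extra : List (FreeGroup α)} {A : List α} {idx : α → ℕ}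
  {base : List (List ℕ)}

variable (edges extra A) in
/-- The generator of a letter, 1 outside the list. -/
def gen (s : ℕ) : CoxPresented α edges extra :=
  (A.map fun a => (PresentedGroup.of a : CoxPresented α edges extra)).getD s 1

namespace Pres

variable (D : Pres edges extra A idx base)
include D

theorem gen_idx (a : α) : gen edges extra A (idx a) = PresentedGroup.of a := by
  simp [gen, List.getD_eq_getElem?_getD, D.index a]

omit D in
theorem gen_cases (s : ℕ) : gen edges extra A s = 1 ∨ ∃ a, A[s]? = some a ∧
    gen edges extra A s = PresentedGroup.of a := by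
  rcases h : A[s]? with _ | a
  · exact Or.inl (by simp [gen, List.getD_eq_getElem?_getD, h])
  · exact Or.inr ⟨a, rfl, by simp [gen, List.getD_eq_getElem?_getD, h]⟩

theorem inv (s : ℕ) : gen edges extra A s * gen edges extra A s = 1 := by
  rcases gen_cases (edges := edges) (extra := extra) (A := A) s with h | ⟨a, -, h⟩ <;> rw [h]
  · simp
  · refine PresentedGroup.one_of_mem (x := FreeGroup.of a * FreeGroup.of a) (Or.inl ⟨a, D.node a, a, D.node a, ?_⟩)
    simp [coxLabel]

theorem ev_rel {r : FreeGroup α} (hr : r ∈ coxRelators edges ∪ {r | r ∈ extra}) :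
    ev (gen edges extra A) (letters idx r) = 1 := by
  rw [← map_ev (PresentedGroup.mk _) (gen edges extra A) idx (fun a => (D.gen_idx a).symm) (fun a => D.inv _)]
  exact PresentedGroup.one_of_mem hr

theorem ev_base {w : List ℕ} (hw : w ∈ base) : ev (gen edges extra A) w = 1 := by
  have h := List.all_eq_true.1 D.fromRels w hw
  rw [List.contains_iff_mem, List.mem_map] at h
  obtain ⟨r, hr, rfl⟩ := h
  exact D.ev_rel (mem_relList.1 hr)

theorem closure_gen : Subgroup.closure {x | ∃ s < A.length, gen edges extra A s = x} = ⊤ := by
  refine eq_top_iff.2 ((PresentedGroup.closure_range_of _).ge.trans (Subgroup.closure_mono ?_))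
  rintro _ ⟨a, rfl⟩
  obtain ⟨h, -⟩ := List.getElem?_eq_some_iff.1 (D.index a)
  exact ⟨idx a, h, D.gen_idx a⟩

/-- A homomorphism from involutions satisfying the base words. -/
theorem exists_hom (σ : ℕ → G) (hi : ∀ s, σ s * σ s = 1) (hb : ∀ w ∈ base, ev σ w = 1)
    (hout : ∀ s, A.length ≤ s → σ s = 1) :
    ∃ π : CoxPresented α edges extra →* G, ∀ s, π (gen edges extra A s) = σ s := by
  have hrel : ∀ r ∈ coxRelators edges ∪ {r | r ∈ extra}, FreeGroup.lift (fun a => σ (idx a)) r = 1 := by
    intro r hr
    rw [map_ev (FreeGroup.lift fun a => σ (idx a)) σ idx (fun a => FreeGroup.lift_apply_of) (fun a => hi _)]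
    exact ev_derived (fun t _ => hi t) hb (List.all_eq_true.1 D.toBase r (mem_relList.2 hr))
  refine ⟨PresentedGroup.toGroup hrel, fun s => ?_⟩
  rcases Nat.lt_or_ge s A.length with hs | hs
  · have e : idx A[s] = s := by
      have h := List.getElem_of_eq D.order (i := s) (by simpa using hs)
      simpa using h
    simp [gen, List.getD_eq_getElem?_getD, List.getElem?_eq_getElem hs, e]
  · simp [gen, List.getD_eq_getElem?_getD, List.getElem?_eq_none hs, hout s hs]

/-- Images of subgroups generated by a list of words. -/
theorem map_closure_eq (S : Set (FreeGroup α)) (L : List (FreeGroup α)) (hS : S = {r | r ∈ L}) :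
    (Subgroup.closure S).map (PresentedGroup.mk (coxRelators edges ∪ {r | r ∈ extra})) =
      Subgroup.closure {y | ∃ w ∈ L.map (letters idx), ev (gen edges extra A) w = y} := by
  subst hS
  rw [MonoidHom.map_closure]
  congr 1
  ext y
  simp only [Set.mem_image, Set.mem_setOf_eq, List.mem_map, exists_exists_and_eq_and,
    ← map_ev (PresentedGroup.mk (coxRelators edges ∪ {r | r ∈ extra})) (gen edges extra A) idx
      (fun a => (D.gen_idx a).symm) (fun a => D.inv _)]

end Pres

end Cfsg.Agent.Spor.Cos
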