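import Cfsg.Agent.Lib.Spor.Cos.Simple
import Cfsg.Agent.Lib.Spor.Cos.Cox
import Cfsg.Prelude.Def_SporadicB

/-!
A double cover recognised by generators satisfying the relations of the quotient up to a central involution.
-/

set_option autoImplicit false

namespace Cfsg.Agent.Spor.Cos

open Cfsg.Spor
open scoped Pointwise

variable {α : Type*} [DecidableEq α] {edges : List (α × ℕ × α)} {extra : List (FreeGroup α)} {A : List α}
  {idx : α → ℕ} {base : List (List ℕ)} {H : Type*} [Group H]

/-- No subgroup of index 2 misses one of the involutions if connected pairs and an odd word force it. -/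
theorem all_mem_of_index_two {h : ℕ → H} {L : Subgroup H} (hL : L.index = 2) {x y : ℕ}
    (hw : ev h [x, y, x, y, x, y] = 1) : h x ∈ L ↔ h y ∈ L := by
  have := L.one_mem
  rw [← hw] at this
  simp only [ev, Subgroup.mul_mem_iff_of_index_two hL, L.one_mem, iff_true] at this
  tauto

theorem mem_of_index_two {h : ℕ → H} {L : Subgroup H} (hL : L.index = 2) {P : Prop} :
    ∀ w : List ℕ, (∀ s ∈ w, (h s ∈ L ↔ P)) → ¬ P → (ev h w ∈ L ↔ w.length % 2 = 0)
  | [], _, _ => by simp [ev]
  | s :: w, hs, hP => by
    rw [ev, Subgroup.mul_mem_iff_of_index_two hL, hs s (List.mem_cons_self ..),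
      mem_of_index_two hL w (fun t ht => hs t (List.mem_cons_of_mem _ ht)) hP]
    simp only [List.length_cons]
    constructor
    · intro hh
      have : ¬ w.length % 2 = 0 := fun e => hP (hh.2 e)
      omega
    · intro hh
      exact ⟨fun p => absurd p hP, fun e => absurd e (by omega)⟩

/-- The recognition. -/
theorem isNonsplitDoubleCover_of [Finite H] (D : Pres edges extra A idx base)
    (hcard : Nat.card H = 2 * Nat.card (CoxPresented α edges extra))
    (hcentre : Subgroup.center (CoxPresented α edges extra) = ⊥)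
    (h : ℕ → H) (hinv : ∀ s, h s * h s = 1) (hout : ∀ s, A.length ≤ s → h s = 1)
    (hgen : Subgroup.closure {x | ∃ s < A.length, h s = x} = ⊤)
    {z : H} (hz : z ≠ 1) (hz2 : z * z = 1) (hzc : ∀ s < A.length, z * h s = h s * z)
    (hb : ∀ w ∈ base, ev h w = 1 ∨ ev h w = z)
    (hperf : ∀ L : Subgroup H, L.index = 2 → ∀ s < A.length, h s ∈ L) :
    IsNonsplitDoubleCover H (CoxPresented α edges extra) := by
  have hc : z ∈ Subgroup.center H := by
    have hle : (⊤ : Subgroup H) ≤ Subgroup.centralizer {z} := by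
      rw [← hgen, Subgroup.closure_le]
      rintro _ ⟨s, hs, rfl⟩
      exact Subgroup.mem_centralizer_singleton_iff.2 (hzc s hs).symm
    exact Subgroup.mem_center_iff.2 fun y => Subgroup.mem_centralizer_singleton_iff.1 (hle (Subgroup.mem_top y))
  set Z := Subgroup.zpowers z
  have hZle : Z ≤ Subgroup.center H := (Subgroup.zpowers_le).2 hc
  have hZn : Z.Normal := ⟨fun a ha b => by
    rw [Subgroup.mem_center_iff.1 (hZle ha) b, mul_inv_cancel_right]; exact ha⟩
  have hZc : Nat.card Z = 2 := by
    rw [Nat.card_zpowers]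
    exact orderOf_eq_prime (by rw [pow_two, hz2]) hz
  -- the map from the presented group
  set σ : ℕ → H ⧸ Z := fun s => QuotientGroup.mk' Z (h s)
  have hbσ : ∀ w ∈ base, ev σ w = 1 := by
    intro w hw
    rw [show ev σ w = QuotientGroup.mk' Z (ev h w) from (ev_map _ h w).symm]
    rcases hb w hw with e | e
    · rw [e, map_one]
    · rw [e]; exact (QuotientGroup.eq_one_iff z).2 (Subgroup.mem_zpowers z)
  obtain ⟨φ, hφ⟩ := D.exists_hom σ (fun s => by simp only [σ, ← map_mul, hinv, map_one]) hbσ
    (fun s hs => by simp only [σ, hout s hs, map_one])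
  have hsurj : Function.Surjective φ := by
    rw [← MonoidHom.range_eq_top, eq_top_iff,
      ← Subgroup.map_top_of_surjective (QuotientGroup.mk' Z) (QuotientGroup.mk'_surjective Z), ← hgen,
      MonoidHom.map_closure, Subgroup.closure_le]
    rintro _ ⟨_, ⟨s, -, rfl⟩, rfl⟩
    exact ⟨gen edges extra A s, hφ s⟩
  have hq : Nat.card (H ⧸ Z) = Nat.card (CoxPresented α edges extra) := by
    have := Z.index_mul_card
    rw [hZc, hcard, Subgroup.index] at this
    omega
  have : Finite (CoxPresented α edges extra) := by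
    refine Nat.finite_of_card_ne_zero ?_
    rw [← hq]
    exact Nat.card_pos.ne'
  have hbij : Function.Bijective φ := (Nat.bijective_iff_surjective_and_card φ).2 ⟨hsurj, hq.symm⟩
  let e : CoxPresented α edges extra ≃* H ⧸ Z := MulEquiv.ofBijective φ hbij
  have hZ : Subgroup.center H = Z := by
    refine le_antisymm (fun y hy => ?_) hZle
    have h1 : e.symm (QuotientGroup.mk' Z y) ∈ Subgroup.center (CoxPresented α edges extra) := by
      refine Subgroup.mem_center_iff.2 fun u => e.injective ?_
      obtain ⟨v, hv⟩ := QuotientGroup.mk'_surjective Z (e u)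
      rw [map_mul, map_mul, e.apply_symm_apply, ← hv, ← map_mul, ← map_mul, Subgroup.mem_center_iff.1 hy v]
    rw [hcentre, Subgroup.mem_bot, MulEquiv.map_eq_one_iff] at h1
    exact (QuotientGroup.eq_one_iff y).1 h1
  refine ⟨hZ ▸ hZc, ?_, fun L hL => ?_⟩
  · exact ⟨(QuotientGroup.quotientMulEquivOfEq hZ).trans e.symm⟩
  · have hi : L.index = 2 := by rw [hL.index_eq_card, hZ, hZc]
    have : L = ⊤ := top_le_iff.1 (hgen ▸ (Subgroup.closure_le _).2 (by rintro _ ⟨s, hs, rfl⟩; exact hperf L hi s hs))
    rw [this, Subgroup.index_top] at hi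
    omega

/-- The notion transports along isomorphisms. -/
theorem isNonsplitDoubleCover_congr {H H' K : Type*} [Group H] [Group H'] [Group K] (e : H ≃* H')
    (h : IsNonsplitDoubleCover H K) : IsNonsplitDoubleCover H' K := by
  obtain ⟨h1, ⟨q⟩, h3⟩ := h
  have hc : (Subgroup.center H).map (e : H →* H') = Subgroup.center H' := by
    ext y
    rw [Subgroup.map_equiv_eq_comap_symm, Subgroup.mem_comap, Subgroup.mem_center_iff, Subgroup.mem_center_iff]
    refine ⟨fun hy u => ?_, fun hy u => ?_⟩
    · simpa using congrArg e (hy (e.symm u))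
    · simpa using congrArg e.symm (hy (e u))
  refine ⟨?_, ⟨(QuotientGroup.congr _ _ e hc).symm.trans q⟩, fun L hL => ?_⟩
  · rw [← hc, ← Nat.card_congr ((e.subgroupMap (Subgroup.center H)).toEquiv)]
    exact h1
  · refine h3 (L.map (e.symm : H' →* H)) ?_
    have hm : (Subgroup.center H).map (e : H →* H') = Subgroup.center H' := hc
    refine Subgroup.isComplement'_of_disjoint_and_mul_eq_univ ?_ ?_
    · rw [disjoint_iff, eq_bot_iff]
      rintro x ⟨hx, y, hy, rfl⟩
      have : y ∈ Subgroup.center H' := hm ▸ ⟨_, hx, e.apply_symm_apply y⟩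
      have := Subgroup.disjoint_def.1 hL.disjoint this hy
      simp [this]
    · refine Set.eq_univ_of_forall fun x => ?_
      have hx : e x ∈ (Subgroup.center H' : Set H') * (L : Set H') := hL.mul_eq ▸ Set.mem_univ _
      obtain ⟨c, hc', l, hl, he⟩ := Set.mem_mul.1 hx
      have hc'' : c ∈ (Subgroup.center H).map (e : H →* H') := hm.symm ▸ hc'
      obtain ⟨c', hc2, rfl⟩ := hc''
      refine Set.mem_mul.2 ⟨c', hc2, e.symm l, ⟨l, hl, rfl⟩, e.injective ?_⟩
      rw [map_mul, e.apply_symm_apply]
      exact he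

end Cfsg.Agent.Spor.Cos
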