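import Cfsg.Agent.Lib.Spor.Cos.Tree

/-!
Words in involutions.
-/

set_option autoImplicit false

namespace Cfsg.Agent.Spor.Cos

variable {G : Type*} [Group G]

/-- The value of a word. -/
def ev (g : ℕ → G) : List ℕ → G
  | [] => 1
  | s :: w => g s * ev g w

theorem ev_append (g : ℕ → G) : ∀ v w : List ℕ, ev g (v ++ w) = ev g v * ev g w
  | [], w => by simp [ev]
  | s :: v, w => by simp [ev, ev_append g v w, mul_assoc]

theorem ev_mem {g : ℕ → G} {H : Subgroup G} : ∀ w : List ℕ, (∀ s ∈ w, g s ∈ H) → ev g w ∈ H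
  | [], _ => H.one_mem
  | s :: w, h => H.mul_mem (h s (List.mem_cons_self ..)) (ev_mem w fun t ht => h t (List.mem_cons_of_mem _ ht))

theorem ev_map {K : Type*} [Group K] (f : G →* K) (g : ℕ → G) : ∀ w : List ℕ, f (ev g w) = ev (fun s => f (g s)) w
  | [] => by simp [ev]
  | s :: w => by simp [ev, ev_map f g w]

theorem ev_flatten (g : ℕ → G) : ∀ L : List (List ℕ), ev g L.flatten = (L.map (ev g)).prod
  | [] => by simp [ev]
  | w :: L => by simp [ev_append, ev_flatten g L]

theorem ev_power (g : ℕ → G) (w : List ℕ) (k : ℕ) : ev g (List.replicate k w).flatten = ev g w ^ k := by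
  rw [ev_flatten, List.map_replicate, List.prod_replicate]

theorem ev_reverse {g : ℕ → G} {n : ℕ} (hinv : ∀ s < n, g s * g s = 1) :
    ∀ w : List ℕ, (∀ s ∈ w, s < n) → ev g w.reverse = (ev g w)⁻¹
  | [], _ => by simp [ev]
  | s :: w, h => by
    rw [List.reverse_cons, ev_append, ev_reverse hinv w fun t ht => h t (List.mem_cons_of_mem _ ht)]
    have hi : (g s)⁻¹ = g s := inv_eq_of_mul_eq_one_left (hinv s (h s (List.mem_cons_self ..)))
    simp [ev, hi]

theorem ev_rotate (g : ℕ → G) (w : List ℕ) (k : ℕ) (h : ev g (w.drop k ++ w.take k) = 1) : ev g w = 1 := by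
  rw [ev_append] at h
  conv_lhs => rw [← List.take_append_drop k w, ev_append]
  rw [eq_inv_of_mul_eq_one_right h]
  simp

/-- Words known to be trivial from some base words: empty, a square of a letter, or obtained from a base word by
reversing and cutting. -/
def derivedOk (n : ℕ) (base : List (List ℕ)) (w : List ℕ) : Bool :=
  w.isEmpty || (List.range n).any (fun s => w == [s, s]) ||
    base.any fun r => r.all (fun s => Nat.blt s n) &&
      (List.range (w.length + 1)).any fun k => w.drop k ++ w.take k == r || w.drop k ++ w.take k == r.reverse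

theorem ev_derived {g : ℕ → G} {n : ℕ} (hinv : ∀ s < n, g s * g s = 1) {base : List (List ℕ)}
    (hb : ∀ r ∈ base, ev g r = 1) {w : List ℕ} (h : derivedOk n base w = true) : ev g w = 1 := by
  simp only [derivedOk, Bool.or_eq_true, List.isEmpty_iff, List.any_eq_true, List.mem_range, Bool.and_eq_true,
    List.all_eq_true, beq_iff_eq, Nat.blt_eq] at h
  rcases h with (rfl | ⟨s, hs, rfl⟩) | ⟨r, hr, hlt, k, -, e | e⟩
  · rfl
  · simp [ev, hinv s hs]
  · exact ev_rotate g w k (e ▸ hb r hr)
  · exact ev_rotate g w k (by rw [e, ev_reverse hinv r hlt, hb r hr, inv_one])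

end Cfsg.Agent.Spor.Cos
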