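import Cfsg.Agent.Lib.Spor.Cos.Bst
import Cfsg.Agent.Lib.Spor.Cos.Words

/-!
Actions given by tables of involutions: the row of a point holds its images, 16 bits each.
-/

set_option autoImplicit false

namespace Cfsg.Agent.Spor.Cos

/-- All points, checked block by block. -/
theorem of_blocks {p : ℕ → Bool} {n size b : ℕ} (hs : 0 < size) (hb : n ≤ b * size)
    (h : ∀ j < b, allBlock p n size j = true) : ∀ i < n, p i = true := fun _ hi =>
  of_allBlock hs (fun j hj => h j (Nat.lt_of_mul_lt_mul_right (lt_of_lt_of_le hj hb))) hi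

/-- The data of an action. -/
structure Act where
  /-- number of generators -/
  n : ℕ
  /-- number of points -/
  N : ℕ
  /-- rows of images -/
  T : Tab

namespace Act

variable (A : Act)

/-- The image of a point under a generator. -/
noncomputable def im (p s : ℕ) : ℕ := (A.T.at p >>> (16 * s)) % 65536

/-- Apply a word, its last letter first. -/
noncomputable def go (w : List ℕ) (p : ℕ) : ℕ :=
  List.rec (motive := fun _ => ℕ) p (fun s _ r => force r fun q => A.im q s) w

/-- The generators give involutions at a point. -/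
noncomputable def chkInv (p : ℕ) : Bool :=
  (List.range A.n).all fun s => force (A.im p s) fun q => Nat.blt q A.N && Nat.beq (A.im q s) p

/-- A point is fixed by some words. -/
noncomputable def chkFix (ws : List (List ℕ)) (p : ℕ) : Bool := ws.all fun w => Nat.beq (A.go w p) p

theorem go_nil (p : ℕ) : A.go [] p = p := rfl

theorem go_cons (s : ℕ) (w : List ℕ) (p : ℕ) : A.go (s :: w) p = A.im (A.go w p) s := by
  simp only [go, force_eq]

/-- The letters of some words are all below the number of generators. -/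
def lettersOk (n : ℕ) (ws : List (List ℕ)) : Bool := ws.all fun w => w.all fun s => Nat.blt s n

theorem lt_of_lettersOk {n : ℕ} {ws : List (List ℕ)} (h : lettersOk n ws = true) {w : List ℕ} (hw : w ∈ ws) :
    ∀ s ∈ w, s < n := fun s hs => Nat.le_of_ble_eq_true (List.all_eq_true.1 (List.all_eq_true.1 h w hw) s hs)

open Classical in
/-- The permutation of a generator. -/
noncomputable def perm (s : ℕ) : Equiv.Perm (Fin A.N) :=
  if h : s < A.n ∧ ∀ p < A.N, A.im p s < A.N ∧ A.im (A.im p s) s = p then
    { toFun := fun p => ⟨A.im p s, (h.2 p p.2).1⟩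
      invFun := fun p => ⟨A.im p s, (h.2 p p.2).1⟩
      left_inv := fun p => Fin.ext (h.2 p p.2).2
      right_inv := fun p => Fin.ext (h.2 p p.2).2 }
  else 1

theorem perm_sq (s : ℕ) : A.perm s * A.perm s = 1 := by
  unfold perm
  split_ifs with h
  · exact Equiv.ext fun p => Fin.ext (h.2 p p.2).2
  · exact one_mul _

theorem perm_out (s : ℕ) (h : A.n ≤ s) : A.perm s = 1 := by
  unfold perm
  rw [dif_neg fun h' => absurd h'.1 (by omega)]

theorem perm_apply (hA : ∀ p < A.N, A.chkInv p = true) {s : ℕ} (hs : s < A.n) (p : Fin A.N) :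
    (A.perm s p : ℕ) = A.im p s := by
  have h : ∀ q < A.N, A.im q s < A.N ∧ A.im (A.im q s) s = q := fun q hq => by
    have := List.all_eq_true.1 (hA q hq) s (List.mem_range.2 hs)
    rw [force_eq, Bool.and_eq_true] at this
    exact ⟨Nat.le_of_ble_eq_true this.1, Nat.eq_of_beq_eq_true this.2⟩
  unfold perm
  rw [dif_pos ⟨hs, h⟩]
  rfl

theorem ev_apply (hA : ∀ p < A.N, A.chkInv p = true) (w : List ℕ) (h : ∀ s ∈ w, s < A.n) (p : Fin A.N) :
    (ev A.perm w p : ℕ) = A.go w p := by
  induction w with
  | nil => rfl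
  | cons s w ih =>
    rw [ev, Equiv.Perm.mul_apply, go_cons, A.perm_apply hA (h s (List.mem_cons_self ..)),
      ih fun t ht => h t (List.mem_cons_of_mem _ ht)]

/-- The relations hold for the permutations. -/
theorem ev_rels (hA : ∀ p < A.N, A.chkInv p = true) {base : List (List ℕ)} (hl : lettersOk A.n base = true)
    (hB : ∀ p < A.N, A.chkFix base p = true) : ∀ w ∈ base, ev A.perm w = 1 := by
  intro w hw
  refine Equiv.ext fun p => Fin.ext ?_
  rw [A.ev_apply hA w (lt_of_lettersOk hl hw)]
  exact Nat.eq_of_beq_eq_true (List.all_eq_true.1 (hB p p.2) w hw)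

/-- The action of a group through the table. -/
structure Hom {G : Type*} [Group G] (g : ℕ → G) (π : G →* Equiv.Perm (Fin A.N)) : Prop where
  inv : ∀ p < A.N, A.chkInv p = true
  gen : ∀ s, π (g s) = A.perm s

theorem Hom.apply_ev {A : Act} {G : Type*} [Group G] {g : ℕ → G} {π : G →* Equiv.Perm (Fin A.N)} (h : A.Hom g π)
    (w : List ℕ) (hw : ∀ s ∈ w, s < A.n) (p : Fin A.N) : (π (ev g w) p : ℕ) = A.go w p := by
  rw [ev_map π g w, show (fun s => π (g s)) = A.perm from funext h.gen]
  exact A.ev_apply h.inv w hw p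

theorem Hom.apply_ev_eq {A : Act} {G : Type*} [Group G] {g : ℕ → G} {π : G →* Equiv.Perm (Fin A.N)}
    (h : A.Hom g π) {ws : List (List ℕ)} (hl : lettersOk A.n ws = true) {p : Fin A.N}
    (hf : A.chkFix ws p = true) {w : List ℕ} (hw : w ∈ ws) : π (ev g w) p = p :=
  Fin.ext ((h.apply_ev w (lt_of_lettersOk hl hw) p).trans
    (Nat.eq_of_beq_eq_true (List.all_eq_true.1 hf w hw)))

end Act

end Cfsg.Agent.Spor.Cos
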