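import Cfsg.Agent.Lib.Spor.Cos.OutTwo
import Cfsg.Agent.Lib.Spor.Cos.Sift

/-!
Outer automorphisms from standard triples: an involution, a second involution whose product with the first has
prime order, and a third involution commuting with the first.
-/

set_option autoImplicit false

namespace Cfsg.Agent.Spor.Cos.Triple

variable {G : Type*} [Group G]

theorem exists_pow_of_prime [Finite G] {u x : G} {p : ℕ} (hu : orderOf u = p) (hx : x ∈ Subgroup.zpowers u) :
    ∃ i : ℕ, i < p ∧ x = u ^ i := by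
  classical
  rw [mem_zpowers_iff_mem_range_orderOf, hu] at hx
  obtain ⟨i, hi, rfl⟩ := Finset.mem_image.1 hx
  exact ⟨i, Finset.mem_range.1 hi, rfl⟩

theorem conj_pow_of_inverts {z u : G} (hz : z * z = 1) (hinv : z * u * z = u⁻¹) (k : ℕ) :
    z * u ^ k * z = (u ^ k)⁻¹ := by
  have zi : z⁻¹ = z := inv_eq_of_mul_eq_one_right hz
  have h : (z * u * z) ^ k = (u⁻¹) ^ k := by rw [hinv]
  rw [inv_pow, show z * u * z = z * u * z⁻¹ by rw [zi], conj_pow, zi] at h
  exact h

/-- An involution whose product with the first has the prime order is conjugate, keeping the first, to a standard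
one. -/
theorem exists_y [Finite G] {z u : G} {p : ℕ} [Fact p.Prime] (hp : p % 2 = 1) (hu : orderOf u = p)
    (hval : (Nat.card G).factorization p = 1) (hz : z * z = 1) (hinv : z * u * z = u⁻¹)
    (hcomm : ∀ x : G, x * u = u * x → x ∈ Subgroup.zpowers u) {y : G} (hy : y * y = 1) (h : (z * y) ^ p = 1) :
    ∃ (c : G) (i : ℕ), i < p ∧ c * z = z * c ∧ y = c * (z * u ^ i) * c⁻¹ := by
  have zi : z⁻¹ = z := inv_eq_of_mul_eq_one_right hz
  have hu1 : u ^ p = 1 := hu ▸ pow_orderOf_eq_one u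
  obtain ⟨c, i, hi, e⟩ : ∃ (c : G) (i : ℕ), i < p ∧ z * y = c * u ^ i * c⁻¹ := by
    rcases eq_or_ne (z * y) 1 with h1 | hne
    · exact ⟨1, 0, (Fact.out : p.Prime).pos, by simp [h1]⟩
    have ox : orderOf (z * y) = p := orderOf_eq_prime h hne
    let S : Sylow p G := Sylow.ofCard (Subgroup.zpowers u) (by rw [Nat.card_zpowers, hu, hval, pow_one])
    let R : Sylow p G := Sylow.ofCard (Subgroup.zpowers (z * y)) (by rw [Nat.card_zpowers, ox, hval, pow_one])
    obtain ⟨c, hc⟩ := MulAction.exists_smul_eq G S R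
    have : z * y ∈ (c • S : Sylow p G) := by
      rw [hc]
      exact Subgroup.mem_zpowers (z * y)
    obtain ⟨w, hw, e⟩ := this
    obtain ⟨i, hi, rfl⟩ := exists_pow_of_prime hu hw
    exact ⟨c, i, hi, e.symm⟩
  rcases Nat.eq_zero_or_pos i with rfl | hpos
  · refine ⟨1, 0, hi, by simp, ?_⟩
    have e1 : z * y = 1 := by rw [e]; simp
    rw [← mul_right_inj z, e1]
    simp [hz]
  have hyi : y⁻¹ = y := inv_eq_of_mul_eq_one_right hy
  have hzy : z * (z * y) * z = (z * y)⁻¹ := by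
    rw [mul_inv_rev, hyi, zi, ← mul_assoc z z y, hz, one_mul]
  rw [e] at hzy
  set s := c⁻¹ * z * c with hs
  have hs2 : s * u ^ i * s = (u ^ i)⁻¹ := by
    calc s * u ^ i * s = c⁻¹ * (z * (c * u ^ i * c⁻¹) * z) * c := by rw [hs]; group
      _ = (u ^ i)⁻¹ := by rw [hzy]; group
  have hss : s * s = 1 := by
    rw [hs, show c⁻¹ * z * c * (c⁻¹ * z * c) = c⁻¹ * (z * z) * c by group, hz]
    group
  have hc1 : (s * z) * u ^ i = u ^ i * (s * z) := by
    have a : z * u ^ i = (u ^ i)⁻¹ * z := by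
      rw [← mul_left_inj z, conj_pow_of_inverts hz hinv, mul_assoc, hz, mul_one]
    have b : s * (u ^ i)⁻¹ = u ^ i * s := by
      rw [← hs2]
      calc s * (s * u ^ i * s) = (s * s) * (u ^ i * s) := by simp only [mul_assoc]
        _ = u ^ i * s := by rw [hss, one_mul]
    rw [mul_assoc, a, ← mul_assoc, b, mul_assoc]
  have hc2 : (s * z) * u = u * (s * z) := by
    have hcop : Nat.Coprime i (orderOf u) := by
      rw [hu]
      exact ((Nat.Prime.coprime_iff_not_dvd (Fact.out : p.Prime)).2 fun hd => by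
        have := Nat.le_of_dvd hpos hd; omega).symm
    obtain ⟨m, hm⟩ := exists_pow_eq_self_of_coprime hcop
    rw [← hm]
    exact (Commute.pow_right hc1 m).eq
  obtain ⟨j, -, hj⟩ := exists_pow_of_prime hu (hcomm _ hc2)
  set k := (p + 1) / 2 * j with hk
  have hst : s = u ^ k * z * (u ^ k)⁻¹ := by
    have h1 : z * (u ^ k)⁻¹ = u ^ k * z := by
      rw [← conj_pow_of_inverts hz hinv, ← mul_assoc, ← mul_assoc, hz, one_mul]
    have h2 : k + k = j + p * j := by
      rw [hk, ← add_mul, show (p + 1) / 2 + (p + 1) / 2 = 1 + p by omega, add_mul, one_mul]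
    rw [mul_assoc, h1, ← mul_assoc, ← pow_add,
      show u ^ (k + k) = u ^ j by rw [h2, pow_add, pow_mul, hu1, one_pow, mul_one],
      ← hj, mul_assoc, hz, mul_one]
  have hcz : c * u ^ k * z * (c * u ^ k)⁻¹ = z := by
    calc c * u ^ k * z * (c * u ^ k)⁻¹ = c * (u ^ k * z * (u ^ k)⁻¹) * c⁻¹ := by group
      _ = c * s * c⁻¹ := by rw [hst]
      _ = z := by rw [hs]; group
  refine ⟨c * u ^ k, i, hi, mul_inv_eq_iff_eq_mul.1 hcz, ?_⟩
  have h3 : y = z * (c * u ^ i * c⁻¹) := by rw [← e, ← mul_assoc, hz, one_mul]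
  rw [h3]
  calc z * (c * u ^ i * c⁻¹) = (c * u ^ k * z * (c * u ^ k)⁻¹) * (c * u ^ i * c⁻¹) := by rw [hcz]
    _ = c * u ^ k * z * ((u ^ k)⁻¹ * u ^ i) * c⁻¹ := by group
    _ = c * u ^ k * z * (u ^ i * (u ^ k)⁻¹) * c⁻¹ := by
      rw [(((Commute.refl u).pow_pow k i).inv_left).eq]
    _ = c * u ^ k * (z * u ^ i) * (c * u ^ k)⁻¹ := by group

/-- Three elements. -/
def tri (a b c : G) : ℕ → G := fun s => [a, b, c].getD s 1

theorem tri_map {K : Type*} [Group K] (f : G →* K) (a b c : G) (s : ℕ) : f (tri a b c s) = tri (f a) (f b) (f c) s := by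
  rcases s with _ | _ | _ | s <;> simp [tri]

/-- A pair of indices is refuted by a relation or is a conjugate of a standard triple. -/
def Settled (X : ℕ → ℕ → G) (K : ℕ) (Y : ℕ → G) : Prop :=
  (∃ w : List ℕ, ev (X 0) w = 1 ∧ ev Y w ≠ 1) ∨ ∃ (c : G) (k : ℕ), k < K ∧ ∀ s < 3, Y s = c * X k s * c⁻¹

/-- The data of standard triples. -/
structure Data (z u : G) (p : ℕ) (X : ℕ → ℕ → G) (K : ℕ) (inv : ℕ → G) (m : ℕ) : Prop where
  prime : p.Prime
  odd : p % 2 = 1
  order : orderOf u = p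
  val : (Nat.card G).factorization p = 1
  z_sq : z * z = 1
  inverts : z * u * z = u⁻¹
  comm : ∀ x : G, x * u = u * x → x ∈ Subgroup.zpowers u
  cls : ∀ φ : MulAut G, IsConj z (φ z)
  first : X 0 0 = z
  second : X 0 1 = z * u
  third_sq : X 0 2 * X 0 2 = 1
  third_ne : X 0 2 ≠ 1
  third_comm : X 0 2 * z = z * X 0 2
  out : ∀ s, 3 ≤ s → X 0 s = 1
  list : ∀ x : G, x * x = 1 → x ≠ 1 → x * z = z * x → ∃ j < m, x = inv j
  settled : ∀ i < p, ∀ j < m, Settled X K (tri z (z * u ^ i) (inv j))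

theorem Data.exists_normal [Finite G] {z u : G} {p : ℕ} {X : ℕ → ℕ → G} {K : ℕ} {inv : ℕ → G} {m : ℕ}
    (D : Data z u p X K inv m) (φ : MulAut G) :
    ∃ (c : G) (k : ℕ), k < K ∧ ∀ s < 3, φ (X 0 s) = c * X k s * c⁻¹ := by
  haveI : Fact p.Prime := ⟨D.prime⟩
  have hu1 : u ^ p = 1 := D.order ▸ pow_orderOf_eq_one u
  obtain ⟨g₁, hg₁⟩ := isConj_iff.1 (D.cls φ)
  set φ₁ : MulAut G := MulAut.conj g₁⁻¹ * φ with hφ₁
  have f1 : φ₁ z = z := by
    simp only [hφ₁, MulAut.mul_apply, MulAut.conj_apply, ← hg₁]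
    group
  have hy2 : (z * u) * (z * u) = 1 := by
    rw [← mul_assoc, D.inverts, inv_mul_cancel]
  obtain ⟨c₁, i, hi, hc₁, hy⟩ := exists_y D.odd D.order D.val D.z_sq D.inverts D.comm (y := φ₁ (z * u))
    (by rw [← map_mul, hy2, map_one]) (by
      rw [show z * φ₁ (z * u) = φ₁ (z * (z * u)) by rw [map_mul φ₁ z (z * u), f1], ← map_pow, ← mul_assoc, D.z_sq,
        one_mul, hu1, map_one])
  set φ₂ : MulAut G := MulAut.conj c₁⁻¹ * φ₁ with hφ₂
  have f2 : φ₂ z = z := by
    simp only [hφ₂, MulAut.mul_apply, f1, MulAut.conj_apply, inv_inv]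
    rw [mul_assoc, ← hc₁, inv_mul_cancel_left]
  have f3 : φ₂ (z * u) = z * u ^ i := by
    simp only [hφ₂, MulAut.mul_apply, hy, MulAut.conj_apply]
    group
  obtain ⟨j, hj, hz⟩ := D.list (φ₂ (X 0 2)) (by rw [← map_mul, D.third_sq, map_one])
    (fun e => D.third_ne (φ₂.injective (e.trans (map_one φ₂).symm)))
    (by rw [← f2, ← map_mul, D.third_comm, map_mul, f2])
  have him : ∀ s, φ₂ (X 0 s) = tri z (z * u ^ i) (inv j) s := by
    intro s
    rcases s with _ | _ | _ | s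
    · rw [D.first, f2]; rfl
    · rw [D.second, f3]; rfl
    · exact hz
    · rw [D.out _ (by omega), map_one]; simp [tri]
  rcases D.settled i hi j hj with ⟨w, h1, h2⟩ | ⟨c, k, hk, hc⟩
  · refine absurd ?_ h2
    rw [show tri z (z * u ^ i) (inv j) = fun s => φ₂.toMonoidHom (X 0 s) from funext fun s => (him s).symm, ← ev_map]
    show φ₂ (ev (X 0) w) = 1
    rw [h1, map_one]
  · refine ⟨g₁ * c₁ * c, k, hk, fun s hs => ?_⟩
    have h4 := hc s hs
    rw [← him s] at h4
    have hφ : φ (X 0 s) = g₁ * c₁ * φ₂ (X 0 s) * (g₁ * c₁)⁻¹ := by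
      simp only [hφ₂, hφ₁, MulAut.mul_apply, MulAut.conj_apply]
      group
    rw [hφ, h4]
    group

theorem ext_aut {X : ℕ → G} (hgen : Subgroup.closure {x | ∃ s < 3, X s = x} = ⊤) {φ ψ : MulAut G}
    (h : ∀ s < 3, φ (X s) = ψ (X s)) : φ = ψ := by
  refine MulEquiv.toMonoidHom_injective (MonoidHom.eq_of_eqOn_dense hgen ?_)
  rintro _ ⟨s, hs, rfl⟩
  exact h s hs

theorem Data.card_out_one [Finite G] {z u : G} {p : ℕ} {X : ℕ → ℕ → G} {inv : ℕ → G} {m : ℕ}
    (D : Data z u p X 1 inv m) (hgen : Subgroup.closure {x | ∃ s < 3, X 0 s = x} = ⊤) :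
    Nat.card (Cfsg.Out G) = 1 := by
  refine Nat.card_eq_one_iff_unique.2 ⟨⟨fun a b => ?_⟩, ⟨1⟩⟩
  suffices key : ∀ x : Cfsg.Out G, x = 1 by rw [key a, key b]
  intro x
  obtain ⟨φ, rfl⟩ := QuotientGroup.mk_surjective x
  obtain ⟨c, k, hk, hφ⟩ := D.exists_normal φ
  obtain rfl : k = 0 := by omega
  exact (QuotientGroup.eq_one_iff _).2 ⟨c, ext_aut hgen fun s hs => (hφ s hs).symm⟩

theorem Data.card_out_two [Finite G] {z u : G} {p : ℕ} {X : ℕ → ℕ → G} {inv : ℕ → G} {m : ℕ}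
    (D : Data z u p X 2 inv m) (hgen : Subgroup.closure {x | ∃ s < 3, X 0 s = x} = ⊤) (ψ : MulAut G)
    (hψ : ∀ s < 3, ψ (X 0 s) = X 1 s) (hout : ∀ c : G, ¬ ∀ s < 3, c * X 0 s * c⁻¹ = X 1 s) :
    Nat.card (Cfsg.Out G) = 2 := by
  refine card_out_eq_two ψ ?_ fun φ => ?_
  · rintro ⟨c, hc⟩
    exact hout c fun s hs => by rw [← hψ s hs, ← hc]; rfl
  · obtain ⟨c, k, hk, hφ⟩ := D.exists_normal φ
    interval_cases k
    · exact Or.inl ⟨c, ext_aut hgen fun s hs => (hφ s hs).symm⟩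
    · refine Or.inr ⟨c, ?_⟩
      rw [eq_mul_inv_iff_mul_eq]
      exact ext_aut hgen fun s hs => by rw [MulAut.mul_apply, hψ s hs, hφ s hs]; rfl

section Words

variable {g : ℕ → G} {A : Act} {π : G →* Equiv.Perm (Fin A.N)}

/-- Two words give the same element. -/
noncomputable def sameW (A : Act) (pts : List ℕ) (v w : List ℕ) : Bool :=
  (v.all fun s => Nat.blt s A.n) && (w.all fun s => Nat.blt s A.n) && agree A pts v w

theorem eq_of_sameW (hπ : A.Hom g π) {pts : List ℕ}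
    (hdet : ∀ y : G, (∀ q : Fin A.N, (q : ℕ) ∈ pts → π y q = q) → y = 1) {v w : List ℕ} (h : sameW A pts v w = true) :
    ev g v = ev g w := by
  simp only [sameW, Bool.and_eq_true] at h
  exact ev_eq_of_agree hπ hdet (by simpa [Act.lettersOk] using h.1.1) (by simpa [Act.lettersOk] using h.1.2) h.2

theorem agree_of_eq (hπ : A.Hom g π) {pts : List ℕ} (hpts : ∀ p ∈ pts, p < A.N) {v w : List ℕ}
    (hv : ∀ s ∈ v, s < A.n) (hw : ∀ s ∈ w, s < A.n) (e : ev g v = ev g w) : agree A pts v w = true := by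
  rw [agree, List.all_eq_true]
  intro p hp
  rw [force_eq]
  have := congrArg (fun y : G => (π y ⟨p, hpts p hp⟩ : ℕ)) e
  simp only [hπ.apply_ev v hv, hπ.apply_ev w hw] at this
  rw [this]
  exact Nat.beq_refl _

/-- A word in some generators. -/
def subW (Y : List (List ℕ)) (w : List ℕ) : List ℕ := (w.map fun s => Y.getD s []).flatten

theorem ev_subW (Y : List (List ℕ)) (w : List ℕ) : ev g (subW Y w) = ev (fun s => ev g (Y.getD s [])) w :=
  ev_subst g _ w

/-- The elements of three words. -/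
theorem tri_eq (a b c : List ℕ) : (fun s => ev g ([a, b, c].getD s [])) = tri (ev g a) (ev g b) (ev g c) :=
  funext fun s => by rcases s with _ | _ | _ | s <;> simp [tri, ev]

/-- The check of a pair. -/
noncomputable def chkTri (A : Act) (pts : List ℕ) (base : List (List (List ℕ))) (rels : List (List ℕ × ℕ))
    (conjs : List (List ℕ × ℕ)) (Y : List (List ℕ)) : Bool :=
  Nat.beq Y.length 3 && Y.all (fun w => w.all fun s => Nat.blt s A.n) &&
  ((rels.any fun r => (fun R : List ℕ => sameW A pts (subW (base.getD 0 []) R) [] && !(agree A pts (subW Y R) []))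
      (List.replicate r.2 r.1).flatten) ||
    conjs.any fun o => Nat.blt o.2 base.length && (o.1.all fun s => Nat.blt s A.n) &&
      ((List.range 3).all fun s => sameW A pts (o.1 ++ ((base.getD o.2 []).getD s [] ++ o.1.reverse)) (Y.getD s [])))

theorem settled_of_chk (hπ : A.Hom g π) {pts : List ℕ} (hpts : ∀ p ∈ pts, p < A.N)
    (hdet : ∀ y : G, (∀ q : Fin A.N, (q : ℕ) ∈ pts → π y q = q) → y = 1) (hinv : ∀ s < A.n, g s * g s = 1)
    {base : List (List (List ℕ))} {rels : List (List ℕ × ℕ)} {conjs : List (List ℕ × ℕ)} {a b c : List ℕ}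
    (h : chkTri A pts base rels conjs [a, b, c] = true) :
    Settled (fun k s => ev g ((base.getD k []).getD s [])) base.length (tri (ev g a) (ev g b) (ev g c)) := by
  simp only [chkTri, Bool.and_eq_true, Bool.or_eq_true] at h
  obtain ⟨⟨-, hl⟩, h | h⟩ := h
  · obtain ⟨r, -, hr⟩ := List.any_eq_true.1 h
    simp only [Bool.and_eq_true, Bool.not_eq_true'] at hr
    refine Or.inl ⟨(List.replicate r.2 r.1).flatten, ?_, fun e => ?_⟩
    · exact (ev_subW _ _).symm.trans (eq_of_sameW hπ hdet hr.1)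
    · rw [← tri_eq, ← ev_subW] at e
      refine Bool.eq_false_iff.1 hr.2 (agree_of_eq hπ hpts ?_ (by simp) e)
      intro s hs
      obtain ⟨_, hl', hsl⟩ := List.mem_flatten.1 hs
      obtain ⟨i, -, rfl⟩ := List.mem_map.1 hl'
      rcases Nat.lt_or_ge i [a, b, c].length with hi | hi
      · rw [List.getD_eq_getElem _ _ hi] at hsl
        exact Nat.le_of_ble_eq_true (List.all_eq_true.1 (List.all_eq_true.1 hl _ (List.getElem_mem _)) s hsl)
      · rw [List.getD_eq_default _ _ hi] at hsl; simp at hsl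
  · obtain ⟨o, -, ho⟩ := List.any_eq_true.1 h
    simp only [Bool.and_eq_true] at ho
    obtain ⟨⟨hk, hc⟩, hs⟩ := ho
    refine Or.inr ⟨ev g o.1, o.2, Nat.le_of_ble_eq_true hk, fun s hs3 => ?_⟩
    have := eq_of_sameW hπ hdet (List.all_eq_true.1 hs s (List.mem_range.2 hs3))
    rw [ev_append, ev_append, ev_reverse hinv _ (fun t ht => Nat.le_of_ble_eq_true (List.all_eq_true.1 hc t ht)),
      ← mul_assoc] at this
    rw [← tri_eq]
    exact this.symm

theorem gen_of_expr (hπ : A.Hom g π) {pts : List ℕ} (hdet : ∀ y : G, (∀ q : Fin A.N, (q : ℕ) ∈ pts → π y q = q) → y = 1)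
    (hgen : Subgroup.closure {x | ∃ s < A.n, g s = x} = ⊤) {X : List (List ℕ)} (hX : X.length = 3)
    {E : List (List ℕ)} (h : ((List.range A.n).all fun s => sameW A pts (subW X (E.getD s [])) [s]) = true) :
    Subgroup.closure {x | ∃ s < 3, ev g (X.getD s []) = x} = ⊤ := by
  refine top_le_iff.1 (hgen ▸ (Subgroup.closure_le _).2 ?_)
  rintro _ ⟨s, hs, rfl⟩
  have e := eq_of_sameW hπ hdet (List.all_eq_true.1 h s (List.mem_range.2 hs))
  rw [ev_subW, show ev g [s] = g s by simp [ev]] at e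
  rw [SetLike.mem_coe, ← e]
  refine ev_mem _ fun t _ => ?_
  rcases Nat.lt_or_ge t 3 with ht | ht
  · exact Subgroup.subset_closure ⟨t, ht, rfl⟩
  · rw [List.getD_eq_default _ _ (hX ▸ ht)]
    exact one_mem _

end Words

end Cfsg.Agent.Spor.Cos.Triple
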