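import Cfsg.Agent.Lib.Spor.Cos.Orb

/-!
Point stabilisers, orbits on cosets, and simplicity of transitive groups given by tables.
-/

set_option autoImplicit false

namespace Cfsg.Agent.Spor.Cos

variable {G : Type*} [Group G] {g : ℕ → G} {A : Act} {π : G →* Equiv.Perm (Fin A.N)}

/-- Transitivity from an orbit holding all points. -/
theorem exists_apply_eq (hπ : A.Hom g π) {ws : List (List ℕ)} {O : Orb} {x : ℕ} (hO : O.Ok A ws x)
    (hm : O.m = A.N) (p : Fin A.N) : ∃ y : G, π y ⟨x, hO.root_lt⟩ = p := by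
  have h : {p : Fin A.N | O.mem p = true} = Set.univ := by
    refine Set.eq_of_subset_of_ncard_le (Set.subset_univ _) ?_
    rw [hO.ncard_mem, Set.ncard_univ, Nat.card_fin, hm]
  have hp : p ∈ {p : Fin A.N | O.mem p = true} := h ▸ Set.mem_univ p
  obtain ⟨y, -, e⟩ := hO.mem_orbit hπ ⟨x, hO.root_lt⟩ rfl hp
  exact ⟨y, e⟩

/-- The stabiliser of a point. -/
def stab (π : G →* Equiv.Perm (Fin A.N)) (x : Fin A.N) : Subgroup G :=
  (MulAction.stabilizer (Equiv.Perm (Fin A.N)) x).comap π

theorem mem_stab {x : Fin A.N} {y : G} : y ∈ stab π x ↔ π y x = x := Iff.rfl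

theorem exists_apply_eq_iff {x : Fin A.N} {y z : G} : π y x = π z x ↔ y⁻¹ * z ∈ stab π x := by
  rw [mem_stab, map_mul, map_inv, Equiv.Perm.mul_apply, Equiv.Perm.inv_eq_iff_eq]
  exact eq_comm

/-- The map from cosets of a stabiliser to points. -/
def cosetPt (π : G →* Equiv.Perm (Fin A.N)) (x : Fin A.N) : G ⧸ stab π x → Fin A.N :=
  Quotient.lift (fun y => π y x) fun _ _ h => exists_apply_eq_iff.2 (QuotientGroup.leftRel_apply.1 h)

theorem cosetPt_mk (x : Fin A.N) (y : G) : cosetPt π x (QuotientGroup.mk y) = π y x := rfl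

theorem cosetPt_injective (x : Fin A.N) : Function.Injective (cosetPt π x) := by
  intro a b
  induction a using QuotientGroup.induction_on
  induction b using QuotientGroup.induction_on
  intro h
  exact QuotientGroup.eq.2 (exists_apply_eq_iff.1 h)

theorem index_stab {x : Fin A.N} (htr : ∀ p, ∃ y : G, π y x = p) : (stab π x).index = A.N := by
  have h : Function.Bijective (cosetPt π x) :=
    ⟨cosetPt_injective x, fun p => (htr p).elim fun y e => ⟨QuotientGroup.mk y, e⟩⟩
  rw [Subgroup.index, Nat.card_eq_of_bijective _ h, Nat.card_fin]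

/-- A subgroup large enough is the stabiliser of a point it fixes. -/
theorem val_eq_stab [Finite G] (hπ : A.Hom g π) {x : Fin A.N} (htr : ∀ p, ∃ y : G, π y x = p)
    {ws : List (List ℕ)} {k : ℕ} (hl : Act.lettersOk A.n ws = true) (hfix : A.chkFix ws x = true)
    (hk : k ≤ Nat.card (val g ws)) (hG : Nat.card G ≤ A.N * k) : val g ws = stab π x := by
  have hle : val g ws ≤ stab π x := by
    refine (Subgroup.closure_le _).2 ?_
    rintro _ ⟨w, hw, rfl⟩
    exact hπ.apply_ev_eq hl hfix hw
  refine SetLike.coe_injective (Set.eq_of_subset_of_ncard_le hle ?_)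
  rw [← Nat.card_coe_set_eq, ← Nat.card_coe_set_eq]
  refine le_trans ?_ hk
  have h := (stab π x).index_mul_card
  rw [index_stab htr] at h
  exact Nat.le_of_mul_le_mul_left (h.trans_le hG) x.pos

/-- An orbit of a point stabiliser on its cosets. -/
theorem exists_coset_orbit (hπ : A.Hom g π) {x : Fin A.N} (htr : ∀ p, ∃ y : G, π y x = p)
    {ws : List (List ℕ)} (hK : val g ws = stab π x) {O : Orb} {r : ℕ} (hO : O.Ok A ws r)
    (hc : ∀ j < O.m, O.chkClosed A ws j = true) :
    ∃ q : G ⧸ stab π x, (MulAction.orbit (stab π x) q).ncard = O.m ∧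
      cosetPt π x '' MulAction.orbit (stab π x) q = {p : Fin A.N | O.mem p = true} := by
  obtain ⟨z, hz⟩ := htr ⟨r, hO.root_lt⟩
  refine ⟨QuotientGroup.mk z, ?_⟩
  have e : cosetPt π x '' MulAction.orbit (stab π x) (QuotientGroup.mk z : G ⧸ stab π x) =
      {p : Fin A.N | O.mem p = true} := by
    rw [← hO.orbit_eq hc hπ ⟨r, hO.root_lt⟩ rfl]
    ext p
    constructor
    · rintro ⟨_, ⟨⟨y, hy⟩, rfl⟩, rfl⟩
      exact ⟨y, hK ▸ hy, by rw [← hz]; show _ = π (y * z) x; rw [map_mul, Equiv.Perm.mul_apply]⟩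
    · rintro ⟨y, hy, rfl⟩
      refine ⟨_, ⟨⟨y, hK ▸ hy⟩, rfl⟩, ?_⟩
      show π (y * z) x = _
      rw [map_mul, Equiv.Perm.mul_apply, hz]
  refine ⟨?_, e⟩
  rw [← Set.ncard_image_of_injective _ (cosetPt_injective (π := π) x), e, hO.ncard_mem]

/-- The conditions giving orbits that differ. -/
theorem orbit_ne {x : Fin A.N} {S : Subgroup G} {q q' : G ⧸ stab π x} {O O' : Orb}
    (e : cosetPt π x '' MulAction.orbit S q = {p : Fin A.N | O.mem p = true})
    (e' : cosetPt π x '' MulAction.orbit S q' = {p : Fin A.N | O'.mem p = true}) {r : ℕ} (hr : r < A.N)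
    (h : O.mem r = true) (h' : O'.mem r = false) : MulAction.orbit S q ≠ MulAction.orbit S q' := by
  intro hq
  rw [hq, e'] at e
  have : (⟨r, hr⟩ : Fin A.N) ∈ {p : Fin A.N | O.mem p = true} := h
  rw [← e] at this
  exact absurd (show O'.mem r = true from this) (by simp [h'])

/-- The order is determined, and a condition that forces the identity. -/
theorem Lev.top [Finite G] {n k : ℕ} {P : G → Prop} (h : Lev g (singles (List.range n)) k P)
    (hgen : Subgroup.closure {x | ∃ s < n, g s = x} = ⊤) (hle : Nat.card G ≤ k) :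
    Nat.card G = k ∧ ∀ y, P y → y = 1 := by
  have e : val g (singles (List.range n)) = ⊤ := by
    refine top_le_iff.1 (hgen ▸ (Subgroup.closure_le _).2 ?_)
    rintro _ ⟨s, hs, rfl⟩
    exact mem_single (List.mem_range.2 hs)
  have hc : Nat.card (val g (singles (List.range n))) = Nat.card G := by
    rw [e]; exact Nat.card_congr Subgroup.topEquiv.toEquiv
  exact ⟨le_antisymm hle (hc ▸ h.le), fun y hy => h.fix (hc ▸ hle) y (e ▸ Subgroup.mem_top y) hy⟩

/-- A chain whose conditions are fixed points in one action. -/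
def LevR (g : ℕ → G) (A : Act) (π : G →* Equiv.Perm (Fin A.N)) (ws : List (List ℕ)) (k : ℕ) (roots : List ℕ) : Prop :=
  Lev g ws k fun y => ∀ q : Fin A.N, (q : ℕ) ∈ roots → π y q = q

theorem LevR.nil [Finite G] : LevR g A π [] 1 [] :=
  ⟨one_pos, Nat.card_pos, fun _ y hy _ => by rw [val_nil, Subgroup.mem_bot] at hy; exact hy⟩

theorem LevR.step [Finite G] (hπ : A.Hom g π) {ws ws' : List (List ℕ)} {k x : ℕ} {roots : List ℕ}
    (h' : LevR g A π ws' k roots) {O : Orb} (hO : O.Ok A ws x) (hin : wordsIn ws' ws = true)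
    (hl : Act.lettersOk A.n ws' = true) (hfix : A.chkFix ws' x = true) :
    LevR g A π ws (O.m * k) (x :: roots) := by
  have h := Lev.step hπ h' hO hin hl hfix
  exact ⟨h.pos, h.le, fun hc y hy hq => h.fix hc y hy
    ⟨hq _ (List.mem_cons_self ..), fun q hqm => hq q (List.mem_cons_of_mem _ hqm)⟩⟩

theorem card_stab {x : Fin A.N} (htr : ∀ p, ∃ y : G, π y x = p) {k : ℕ} (hG : Nat.card G = A.N * k) :
    Nat.card (stab π x) = k := by
  have h := (stab π x).index_mul_card
  rw [index_stab htr, hG] at h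
  exact Nat.eq_of_mul_eq_mul_left x.pos h

/-- A point other than the base lies in exactly one listed orbit, the base in none. -/
noncomputable def chkPartition (Os : List (Orb × ℕ)) (x p : ℕ) : Bool :=
  Nat.beq (Os.countP fun o => o.1.mem p) (bif Nat.beq p x then 0 else 1)

/-- No proper sum of some of the sizes and one divides the degree. -/
def sumsOk (N : ℕ) (sizes : List ℕ) : Bool :=
  sizes.sublists.all fun l => l.isEmpty || Nat.beq (1 + l.sum) N || !Nat.beq (N % (1 + l.sum)) 0

theorem sum_countP {α β : Type*} (f : α → β → Bool) (L : List α) (s : Finset β) :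
    ∑ p ∈ s, L.countP (fun o => f o p) = (L.map fun o => (s.filter fun p => f o p = true).card).sum := by
  induction L with
  | nil => simp
  | cons o L ih =>
    simp only [List.countP_cons, Finset.sum_add_distrib, ih, List.map_cons, List.sum_cons, add_comm,
      Finset.card_filter]

theorem sum_map_ite {α : Type*} (f : α → ℕ) (P : α → Bool) (L : List α) :
    (L.map fun o => if P o then f o else 0).sum = ((L.filter P).map f).sum := by
  induction L with
  | nil => rfl
  | cons o L ih => by_cases h : P o <;> simp [h, ih]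

/-- A word applied a number of times. -/
noncomputable def powGo (A : Act) (w : List ℕ) (r p : ℕ) : ℕ :=
  Nat.rec (motive := fun _ => ℕ) r (fun _ q => force q fun q' => A.go w q') p

/-- An element of a prime order given by a word, checked on some points. -/
noncomputable def chkPow (A : Act) (roots : List ℕ) (p : ℕ) (w : List ℕ) : Bool :=
  roots.all fun r => Nat.beq (powGo A w r p) r

theorem powGo_eq (hπ : A.Hom g π) {w : List ℕ} (hw : ∀ s ∈ w, s < A.n) (q : Fin A.N) :
    ∀ p : ℕ, powGo A w q p = (π (ev g w ^ p) q : ℕ)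
  | 0 => by simp [powGo]
  | p + 1 => by
    rw [show powGo A w q (p + 1) = force (powGo A w q p) fun q' => A.go w q' from rfl, force_eq,
      powGo_eq hπ hw q p, pow_succ', map_mul, Equiv.Perm.mul_apply, hπ.apply_ev w hw]

/-- For each generator a word, so that the word and its product with the generator have the prime order. -/
noncomputable def chkPairs (A : Act) (roots : List ℕ) (p : ℕ) (W : List (List ℕ)) : Bool :=
  (List.range A.n).all fun s => Act.lettersOk A.n [W.getD s []] &&
    chkPow A roots p (W.getD s []) && chkPow A roots p (s :: W.getD s [])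

theorem pow_eq_one (hπ : A.Hom g π) {roots : List ℕ} (hdet : ∀ y : G, (∀ q : Fin A.N, (q : ℕ) ∈ roots → π y q = q) → y = 1)
    {p : ℕ} {w : List ℕ} (hw : ∀ s ∈ w, s < A.n) (h : chkPow A roots p w = true) : ev g w ^ p = 1 := by
  refine hdet _ fun q hq => Fin.ext ?_
  rw [← powGo_eq hπ hw]
  exact Nat.eq_of_beq_eq_true (List.all_eq_true.1 h _ hq)

/-- The data for simplicity. -/
theorem isSimpleGroup_of [Finite G] (hπ : A.Hom g π) (hgen : Subgroup.closure {x | ∃ s < A.n, g s = x} = ⊤)
    {roots : List ℕ} (hdet : ∀ y : G, (∀ q : Fin A.N, (q : ℕ) ∈ roots → π y q = q) → y = 1)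
    {x : Fin A.N} (htr : ∀ p, ∃ y : G, π y x = p) (hN : 1 < A.N)
    {ws : List (List ℕ)} (hK : val g ws = stab π x) {Os : List (Orb × ℕ)}
    (hOs : ∀ o ∈ Os, o.1.Ok A ws o.2 ∧ ∀ j < o.1.m, o.1.chkClosed A ws j = true)
    (hpart : ∀ q < A.N, chkPartition Os x q = true) (hsum : sumsOk A.N (Os.map fun o => o.1.m) = true)
    {p : ℕ} (hp : p.Prime) (hpk : ¬ p ∣ Nat.card (stab π x)) {W : List (List ℕ)}
    (hW : chkPairs A roots p W = true) : IsSimpleGroup G := by
  classical
  have : Nontrivial G := by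
    obtain ⟨y, hy⟩ := htr ⟨if (x : ℕ) = 0 then 1 else 0, by split_ifs <;> omega⟩
    refine ⟨⟨y, 1, fun e => ?_⟩⟩
    rw [e, map_one, Equiv.Perm.one_apply] at hy
    have := congrArg Fin.val hy
    simp only at this
    split_ifs at this <;> omega
  refine ⟨fun M hM => or_iff_not_imp_left.2 fun hne => ?_⟩
  -- the orbit of the base point under the normal subgroup
  set B : Finset (Fin A.N) := Finset.univ.filter fun q => ∃ y ∈ M, π y x = q with hBdef
  have hxB : x ∈ B := by simp [hBdef]; exact ⟨1, one_mem _, by simp⟩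
  have hinv : ∀ k ∈ stab π x, ∀ q, q ∈ B → π k q ∈ B := by
    intro k hk q hq
    simp only [hBdef, Finset.mem_filter, Finset.mem_univ, true_and] at hq ⊢
    obtain ⟨y, hy, rfl⟩ := hq
    refine ⟨k * y * k⁻¹, hM.conj_mem y hy k, ?_⟩
    have e : π k⁻¹ x = x := inv_mem hk
    rw [map_mul, map_mul, Equiv.Perm.mul_apply, e, Equiv.Perm.mul_apply]
  -- every element moving nothing is trivial, so the orbit is not a point
  have hB2 : (B.erase x).Nonempty := by
    by_contra hcon
    refine hne (eq_bot_iff.2 fun y hy => Subgroup.mem_bot.2 (hdet y fun q _ => ?_))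
    obtain ⟨z, rfl⟩ := htr q
    have hz : π (z⁻¹ * y * z) x = x := by
      by_contra hne'
      refine hcon ⟨_, Finset.mem_erase.2 ⟨hne', ?_⟩⟩
      simp only [hBdef, Finset.mem_filter, Finset.mem_univ, true_and]
      exact ⟨_, by simpa using hM.conj_mem y hy z⁻¹, rfl⟩
    rw [map_mul, map_mul, map_inv, Equiv.Perm.mul_apply, Equiv.Perm.mul_apply, Equiv.Perm.inv_eq_iff_eq] at hz
    exact hz
  -- its size
  have hsub : ∀ o ∈ Os, ((B.erase x).filter fun q : Fin A.N => o.1.mem q = true).card =
      if (decide (∃ q ∈ B, o.1.mem (q : ℕ) = true)) then o.1.m else 0 := by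
    intro o ho
    obtain ⟨hO, hc⟩ := hOs o ho
    by_cases hex : ∃ q ∈ B, o.1.mem (q : ℕ) = true
    · rw [if_pos (decide_eq_true hex), ← hO.ncard_mem, ← Set.ncard_coe_finset]
      congr 1
      ext q
      simp only [Finset.coe_filter, Finset.mem_erase, Set.mem_setOf_eq]
      refine ⟨fun h => h.2, fun hq => ⟨⟨fun e => ?_, ?_⟩, hq⟩⟩
      · have h0 := hpart x x.2
        simp only [chkPartition, show Nat.beq x x = true from Nat.beq_refl _, Bool.cond_true] at h0
        have h1 := Nat.eq_of_beq_eq_true h0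
        rw [List.countP_eq_zero] at h1
        exact h1 o ho (e ▸ hq)
      · obtain ⟨q0, hq0, hm0⟩ := hex
        obtain ⟨a, ha, ea⟩ := hO.mem_orbit hπ ⟨o.2, hO.root_lt⟩ rfl hm0
        obtain ⟨b, hb, eb⟩ := hO.mem_orbit hπ ⟨o.2, hO.root_lt⟩ rfl hq
        have := hinv (b * a⁻¹) (hK ▸ mul_mem hb (inv_mem ha)) q0 hq0
        rwa [← ea, ← Equiv.Perm.mul_apply, ← map_mul, inv_mul_cancel_right, eb] at this
    · rw [if_neg (by simpa using hex), Finset.card_eq_zero, Finset.filter_eq_empty_iff]
      exact fun q hq hm => hex ⟨q, (Finset.mem_erase.1 hq).2, hm⟩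
  have hcard : (B.erase x).card =
      ((Os.filter fun o => decide (∃ q ∈ B, o.1.mem (q : ℕ) = true)).map fun o => o.1.m).sum := by
    rw [← sum_map_ite, ← List.map_congr_left hsub, ← sum_countP (fun (o : Orb × ℕ) (q : Fin A.N) => o.1.mem q)]
    rw [Finset.card_eq_sum_ones]
    refine Finset.sum_congr rfl fun q hq => ?_
    have h0 := hpart q q.2
    simp only [chkPartition, show Nat.beq (q : ℕ) x = false from Bool.eq_false_iff.2 fun e =>
      (Finset.mem_erase.1 hq).1 (Fin.ext (Nat.eq_of_beq_eq_true e)), Bool.cond_false] at h0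
    exact (Nat.eq_of_beq_eq_true h0).symm
  -- the block of imprimitivity
  set S := stab π x
  have hrel : S.relIndex M = B.card := by
    have e : (B : Set (Fin A.N)) = Set.range fun q : M ⧸ S.subgroupOf M =>
        Quotient.liftOn' q (fun y : M => π y x) fun a b h => exists_apply_eq_iff.2 (by
          simpa [Subgroup.mem_subgroupOf] using QuotientGroup.leftRel_apply.1 h) := by
      ext q
      simp only [hBdef, Finset.coe_filter, Finset.mem_univ, true_and, Set.mem_setOf_eq, Set.mem_range]
      constructor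
      · rintro ⟨y, hy, rfl⟩; exact ⟨QuotientGroup.mk (⟨y, hy⟩ : M), rfl⟩
      · rintro ⟨c, rfl⟩
        induction c using QuotientGroup.induction_on with
        | _ y => exact ⟨y, y.2, rfl⟩
    rw [Subgroup.relIndex, Subgroup.index, ← Set.ncard_coe_finset, e, Set.ncard_range_of_injective]
    intro a b
    induction a using QuotientGroup.induction_on
    induction b using QuotientGroup.induction_on
    intro h
    refine QuotientGroup.eq.2 ?_
    simpa [Subgroup.mem_subgroupOf] using exists_apply_eq_iff.1 h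
  have hSi : S.index = A.N := index_stab htr
  have hSM : S.relIndex (S ⊔ M) = S.relIndex M := by
    have h1 := Subgroup.relIndex_mul_relIndex (S ⊓ M) S (S ⊔ M) inf_le_left le_sup_left
    have h2 := Subgroup.relIndex_mul_relIndex (S ⊓ M) M (S ⊔ M) inf_le_right le_sup_right
    rw [Subgroup.inf_relIndex_left] at h1
    rw [Subgroup.inf_relIndex_right, Subgroup.relIndex_sup_right, ← h1, mul_comm _ (M.relIndex S)] at h2
    exact (Nat.eq_of_mul_eq_mul_left (Nat.pos_of_ne_zero Subgroup.index_ne_zero_of_finite) h2).symm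
  have hdvd : B.card ∣ A.N := by
    rw [← hrel, ← hSi, ← Subgroup.relIndex_mul_index (le_sup_left : S ≤ S ⊔ M), hSM]
    exact Dvd.intro _ rfl
  have hall : B.card = A.N := by
    set l := (Os.filter fun o => decide (∃ q ∈ B, o.1.mem (q : ℕ) = true)).map fun o => o.1.m
    have hl : l ∈ (Os.map fun o => o.1.m).sublists :=
      List.mem_sublists.2 (List.filter_sublist.map _)
    have hc : B.card = 1 + l.sum := by
      rw [← hcard, ← Finset.card_erase_add_one hxB, add_comm]
    have := List.all_eq_true.1 hsum l hl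
    simp only [Bool.or_eq_true, List.isEmpty_iff, Nat.beq_eq, Bool.not_eq_true'] at this
    rcases this with (h | h) | h
    · rw [h] at hcard
      exact absurd hcard (Finset.card_ne_zero.2 hB2)
    · exact hc.trans h
    · rw [Bool.eq_false_iff] at h
      exact absurd (Nat.beq_eq ▸ Nat.mod_eq_zero_of_dvd (hc ▸ hdvd)) h
  -- the index of the normal subgroup divides the order of the stabiliser
  have hsup : S ⊔ M = ⊤ := by
    have h := Subgroup.relIndex_mul_index (le_sup_left : S ≤ S ⊔ M)
    rw [hSM, hrel, hall, hSi] at h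
    exact Subgroup.index_eq_one.1 (Nat.eq_of_mul_eq_mul_left (by omega) (h.trans (Nat.mul_one _).symm))
  have hMi : M.index ∣ Nat.card S := by
    have h := Subgroup.relIndex_dvd_card M S
    rwa [← Subgroup.relIndex_sup_right (H := S) (K := M), hsup, Subgroup.relIndex_top_right] at h
  have key : ∀ y : G, y ^ p = 1 → y ∈ M := by
    intro y hy
    rw [← QuotientGroup.eq_one_iff, ← orderOf_eq_one_iff]
    refine (Nat.coprime_of_dvd' fun q hq h1 h2 => ?_).eq_one_of_dvd (dvd_refl _)
    have hqp : q = p := (Nat.prime_dvd_prime_iff_eq hq hp).1 (h1.trans (orderOf_dvd_of_pow_eq_one (by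
      rw [← QuotientGroup.mk_pow, hy]; rfl)))
    have hqi : q ∣ Nat.card S := (h2.trans (orderOf_dvd_natCard _)).trans hMi
    exact absurd (hqp ▸ hqi) hpk
  -- generators
  refine top_le_iff.1 (hgen ▸ (Subgroup.closure_le _).2 ?_)
  rintro _ ⟨s, hs, rfl⟩
  have := List.all_eq_true.1 hW s (List.mem_range.2 hs)
  simp only [Bool.and_eq_true] at this
  obtain ⟨⟨hl, h1⟩, h2⟩ := this
  have hw : ∀ t ∈ W.getD s [], t < A.n := Act.lt_of_lettersOk hl (List.mem_singleton_self _)
  have e1 := key _ (pow_eq_one hπ hdet hw h1)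
  have e2 := key _ (pow_eq_one hπ hdet (List.forall_mem_cons.2 ⟨hs, hw⟩) h2)
  have := mul_mem e2 (inv_mem e1)
  simpa [ev] using this

end Cfsg.Agent.Spor.Cos
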