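import Mathlib

/-!
Packed tables for the kernel: trees with several fields in each leaf.
-/

set_option autoImplicit false

namespace Cfsg.Agent.Spor.Cos

/-- Trees with numbers at the leaves. -/
inductive Tree where
  | leaf (E : ℕ)
  | node (l r : Tree)

/-- The leaf at index `k` of a tree of height `h`. -/
def Tree.get : Tree → ℕ → ℕ → ℕ
  | .leaf E, _, _ => E
  | .node _ _, 0, _ => 0
  | .node l r, h + 1, k => bif Nat.beq ((k >>> h) % 2) 1 then r.get h k else l.get h k

/-- Evaluate a number to a numeral before passing it on. -/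
def force {α : Type} (n : ℕ) (k : ℕ → α) : α :=
  Nat.rec (motive := fun _ => α) (k 0) (fun i _ => k (Nat.add i 1)) n

theorem force_eq {α : Type} (n : ℕ) (k : ℕ → α) : force n k = k n := by
  cases n <;> rfl

/-- A table of fields of `w` bits, `2 ^ c` of them in each leaf. -/
structure Table where
  /-- the tree -/
  tree : Tree
  /-- its height -/
  ht : ℕ
  /-- bits of a field -/
  w : ℕ
  /-- logarithm of the fields in a leaf -/
  c : ℕ

/-- The field at index `k`. -/
def Table.at (T : Table) (k : ℕ) : ℕ :=
  (T.tree.get T.ht (k >>> T.c) >>> (T.w * (k % 2 ^ T.c))) % 2 ^ T.w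

/-- All numbers below `n`, checked in blocks. -/
def allBlock (p : ℕ → Bool) (n size j : ℕ) : Bool :=
  (List.range size).all fun d => force (j * size + d) fun i => Nat.ble n i || p i

theorem of_allBlock {p : ℕ → Bool} {n size : ℕ} (hs : 0 < size)
    (h : ∀ j, j * size < n → allBlock p n size j = true) {i : ℕ} (hi : i < n) : p i = true := by
  have h0 := h (i / size) (lt_of_le_of_lt (Nat.div_mul_le_self i size) hi)
  rw [allBlock, List.all_eq_true] at h0
  have h1 := h0 (i % size) (List.mem_range.2 (Nat.mod_lt i hs))
  rw [force_eq, Nat.mul_comm, Nat.div_add_mod] at h1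
  rw [Bool.or_eq_true] at h1
  rcases h1 with h2 | h2
  · exact absurd (Nat.le_of_ble_eq_true h2) (by omega)
  · exact h2

end Cfsg.Agent.Spor.Cos
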