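import Cfsg.Agent.Lib.Spor.Cos.Sift

/-!
Centralisers from conjugates under a point stabiliser, and two actions side by side.
-/

set_option autoImplicit false

namespace Cfsg.Agent.Spor.Cos

theorem card_centralizer_mul_le {G X : Type*} [Group G] [Finite G] [Finite X] (π : G →* Equiv.Perm X) {z : G}
    {x : X} (S : Subgroup G) (hS : ∀ y : G, y ∈ S ↔ π y x = x) (hz : π z x = x) {m : ℕ} (u : Fin m → G)
    (hu : ∀ j, u j ∈ S) (inj : Function.Injective fun j => u j * z * (u j)⁻¹) (M : Set X)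
    (hM : ∀ p, π z p = p → p ∈ M) :
    Nat.card (Subgroup.centralizer ({z} : Set G)) * m ≤ M.ncard * Nat.card S := by
  set C := Subgroup.centralizer ({z} : Set G) with hC
  have hcomm : ∀ c ∈ C, c * z = z * c := fun c hc => Subgroup.mem_centralizer_singleton_iff.1 hc
  have h1 : Nat.card ↥(C ⊓ S) * m ≤ Nat.card S := by
    let f : ↥(C ⊓ S) × Fin m → S := fun p => ⟨u p.2 * p.1.1, mul_mem (hu _) p.1.2.2⟩
    have hf : Function.Injective f := by
      rintro ⟨⟨a, ha⟩, i⟩ ⟨⟨b, hb⟩, j⟩ e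
      have e1 : u i * a = u j * b := congrArg Subtype.val e
      have conj : ∀ k : Fin m, ∀ c ∈ C, u k * c * z * (u k * c)⁻¹ = u k * z * (u k)⁻¹ := fun k c hc => by
        rw [mul_assoc (u k) c z, hcomm c hc]
        group
      obtain rfl : i = j := inj (show u i * z * (u i)⁻¹ = u j * z * (u j)⁻¹ by
        rw [← conj i a ha.1, e1, conj j b hb.1])
      obtain rfl := mul_left_cancel e1
      rfl
    have := Nat.card_le_card_of_injective f hf
    rwa [Nat.card_prod, Nat.card_fin] at this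
  have h2 : Nat.card C ≤ M.ncard * Nat.card ↥(C ⊓ S) := by
    have key : ∀ c : C, π c.1 x ∈ M := fun c => hM _ (by
      rw [← Equiv.Perm.mul_apply, ← map_mul, ← hcomm c c.2, map_mul, Equiv.Perm.mul_apply, hz])
    classical
    let r : M → C := fun p => if h : ∃ c : C, π c.1 x = p then h.choose else 1
    have hr : ∀ c : C, π (r ⟨_, key c⟩).1 x = π c.1 x := fun c => by
      have h : ∃ c' : C, π c'.1 x = (⟨π c.1 x, key c⟩ : M) := ⟨c, rfl⟩
      simp only [r, dif_pos h]
      exact h.choose_spec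
    let f : C → M × ↥(C ⊓ S) := fun c =>
      (⟨_, key c⟩, ⟨(r ⟨_, key c⟩).1⁻¹ * c.1, Subgroup.mem_inf.2 ⟨mul_mem (inv_mem (r ⟨_, key c⟩).2) c.2, by
        rw [hS, map_mul, map_inv, Equiv.Perm.mul_apply, Equiv.Perm.inv_eq_iff_eq, hr]⟩⟩)
    have hf : Function.Injective f := by
      intro a b e
      have e1 := congrArg Prod.fst e
      have e2 := congrArg (fun p : M × ↥(C ⊓ S) => (p.2 : G)) e
      simp only [f] at e1 e2
      rw [e1] at e2
      exact Subtype.ext (mul_left_cancel e2)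
    have := Nat.card_le_card_of_injective f hf
    rwa [Nat.card_prod, Nat.card_coe_set_eq] at this
  calc Nat.card C * m ≤ M.ncard * Nat.card ↥(C ⊓ S) * m := Nat.mul_le_mul_right _ h2
    _ ≤ M.ncard * Nat.card S := by rw [Nat.mul_assoc]; exact Nat.mul_le_mul_left _ h1

/-- A word packed three bits a letter. -/
noncomputable def decWord (fuel E : ℕ) : List ℕ :=
  Nat.rec (motive := fun _ => ℕ → List ℕ) (fun _ => [])
    (fun _ r E => bif Nat.beq E 0 then [] else (E % 8 - 1) :: r (E >>> 3)) fuel E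

/-- The images of some points, packed. -/
noncomputable def imKey (A : Act) (w : List ℕ) (pts : List ℕ) : ℕ :=
  List.rec (motive := fun _ => ℕ) 0 (fun p _ r => A.go w p + 65536 * r) pts

theorem imKey_congr {A : Act} {v w : List ℕ} : ∀ {pts : List ℕ}, (∀ p ∈ pts, A.go v p = A.go w p) →
    imKey A v pts = imKey A w pts
  | [], _ => rfl
  | p :: pts, h => by
    show A.go v p + 65536 * imKey A v pts = A.go w p + 65536 * imKey A w pts
    rw [h p (List.mem_cons_self ..), imKey_congr fun q hq => h q (List.mem_cons_of_mem _ hq)]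

/-- The check of one conjugate. -/
noncomputable def chkConj (A : Act) (pts : List ℕ) (x : ℕ) (zw : List ℕ) (fuel : ℕ) (U K : Tab) (m j : ℕ) : Bool :=
  (fun u : List ℕ => force (K.at j) fun k =>
    (u.all fun s => Nat.blt s A.n) && Nat.beq (A.go u x) x && Nat.beq (imKey A (u ++ (zw ++ u.reverse)) pts) k &&
      (Nat.ble m (j + 1) || Nat.blt k (K.at (j + 1)))) (decWord fuel (U.at j))

theorem card_centralizer_le {G : Type*} [Group G] [Finite G] {g : ℕ → G} {A : Act} (hinv : ∀ s < A.n, g s * g s = 1)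
    {π : G →* Equiv.Perm (Fin A.N)} (hπ : A.Hom g π) {pts : List ℕ} (hpts : ∀ p ∈ pts, p < A.N) {x : Fin A.N}
    {zw : List ℕ} (hl : Act.lettersOk A.n [zw] = true) (hz : A.chkFix [zw] x = true) {fuel : ℕ} {U K : Tab}
    {m : ℕ} (h : ∀ j < m, chkConj A pts x zw fuel U K m j = true) {L : List ℕ}
    (hL : ∀ p < A.N, (!(Nat.beq (A.go zw p) p) || L.any (Nat.beq p)) = true) (S : Subgroup G)
    (hS : ∀ y : G, y ∈ S ↔ π y x = x) :
    Nat.card (Subgroup.centralizer ({ev g zw} : Set G)) * m ≤ L.length * Nat.card S := by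
  have hzl : ∀ s ∈ zw, s < A.n := Act.lt_of_lettersOk hl (List.mem_singleton_self _)
  let w : ℕ → List ℕ := fun j => decWord fuel (U.at j)
  have hw : ∀ j < m, (∀ s ∈ w j, s < A.n) ∧ A.go (w j) x = x ∧
      imKey A (w j ++ (zw ++ (w j).reverse)) pts = K.at j ∧ (j + 1 < m → K.at j < K.at (j + 1)) := fun j hj => by
    have := h j hj
    simp only [chkConj, force_eq, Bool.and_eq_true, Bool.or_eq_true, List.all_eq_true] at this
    refine ⟨fun s hs => Nat.le_of_ble_eq_true (this.1.1.1 s hs), Nat.eq_of_beq_eq_true this.1.1.2,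
      Nat.eq_of_beq_eq_true this.1.2, fun hlt => ?_⟩
    rcases this.2 with h' | h'
    · exact absurd (Nat.le_of_ble_eq_true h') (by omega)
    · exact Nat.le_of_ble_eq_true h'
  have mono : ∀ j, j < m → ∀ i < j, K.at i < K.at j := by
    intro j
    induction j with
    | zero => intro _ i hi; omega
    | succ j ih =>
      intro hj i hi
      have hstep := (hw j (by omega)).2.2.2 hj
      rcases Nat.lt_or_ge i j with h' | h'
      · exact (ih (by omega) i h').trans hstep
      · rwa [show i = j by omega]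
  have hfix := hπ.apply_ev_eq hl hz (List.mem_singleton_self _)
  refine (card_centralizer_mul_le π S hS hfix (fun j : Fin m => ev g (w j)) (fun j => ?_) ?_
    {p | π (ev g zw) p = p} fun p hp => hp).trans (Nat.mul_le_mul_right _ ?_)
  · refine (hS _).2 (Fin.ext ?_)
    rw [hπ.apply_ev _ (hw j j.2).1]
    exact (hw j j.2).2.1
  · intro i j e
    have e' : ev g (w i ++ (zw ++ (w i).reverse)) = ev g (w j ++ (zw ++ (w j).reverse)) := by
      simp only [ev_append, ev_reverse hinv _ (hw i i.2).1, ev_reverse hinv _ (hw j j.2).1, ← mul_assoc]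
      exact e
    have hk : K.at i = K.at j := by
      rw [← (hw i i.2).2.2.1, ← (hw j j.2).2.2.1]
      refine imKey_congr fun p hp => ?_
      have ll : ∀ k : Fin m, ∀ s ∈ w k ++ (zw ++ (w k).reverse), s < A.n := fun k s hs => by
        simp only [List.mem_append, List.mem_reverse] at hs
        rcases hs with hs | hs | hs
        exacts [(hw k k.2).1 s hs, hzl s hs, (hw k k.2).1 s hs]
      have := congrArg (fun y : G => (π y ⟨p, hpts p hp⟩ : ℕ)) e'
      simpa only [hπ.apply_ev _ (ll i), hπ.apply_ev _ (ll j)] using this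
    rcases Nat.lt_trichotomy i j with h' | h' | h'
    · exact absurd hk (mono j j.2 i h').ne
    · exact Fin.ext h'
    · exact absurd hk (mono i i.2 j h').ne'
  · classical
    rw [Set.ncard_eq_toFinset_card']
    refine le_trans ?_ (List.toFinset_card_le L)
    rw [← Finset.card_map Fin.valEmbedding]
    refine Finset.card_le_card fun p hp => ?_
    simp only [Finset.mem_map, Set.mem_toFinset, Fin.valEmbedding_apply] at hp
    obtain ⟨q, hq, rfl⟩ := hp
    have := hL q q.2
    rw [← hπ.apply_ev zw hzl] at this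
    rw [show π (ev g zw) q = q from hq, Nat.beq_refl] at this
    obtain ⟨a, ha, e⟩ := List.any_eq_true.1 (show L.any (Nat.beq (q : ℕ)) = true by simpa using this)
    rw [List.mem_toFinset, Nat.eq_of_beq_eq_true e]
    exact ha

section Sum

variable {G₁ G₂ : Type*} [Group G₁] [Group G₂] {a b : ℕ}

/-- Two actions on disjoint sets of points. -/
noncomputable def sumHom (π₁ : G₁ →* Equiv.Perm (Fin a)) (π₂ : G₂ →* Equiv.Perm (Fin b)) :
    G₁ × G₂ →* Equiv.Perm (Fin (a + b)) where
  toFun y := finSumFinEquiv.permCongr (Equiv.Perm.sumCongr (π₁ y.1) (π₂ y.2))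
  map_one' := by
    refine Equiv.ext fun p => ?_
    obtain ⟨q | q, rfl⟩ := finSumFinEquiv.surjective p <;> simp
  map_mul' y z := by
    refine Equiv.ext fun p => ?_
    obtain ⟨q | q, rfl⟩ := finSumFinEquiv.surjective p <;> simp [Equiv.Perm.mul_apply]

theorem sumHom_left (π₁ : G₁ →* Equiv.Perm (Fin a)) (π₂ : G₂ →* Equiv.Perm (Fin b)) (y : G₁ × G₂) (p : Fin a) :
    sumHom π₁ π₂ y (p.castAdd b) = (π₁ y.1 p).castAdd b := by
  show finSumFinEquiv.permCongr (Equiv.Perm.sumCongr (π₁ y.1) (π₂ y.2)) _ = _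
  rw [← finSumFinEquiv_apply_left]
  simp

theorem sumHom_right (π₁ : G₁ →* Equiv.Perm (Fin a)) (π₂ : G₂ →* Equiv.Perm (Fin b)) (y : G₁ × G₂) (p : Fin b) :
    sumHom π₁ π₂ y (p.natAdd a) = (π₂ y.2 p).natAdd a := by
  show finSumFinEquiv.permCongr (Equiv.Perm.sumCongr (π₁ y.1) (π₂ y.2)) _ = _
  rw [← finSumFinEquiv_apply_right]
  simp

/-- Isomorphism of two images of a subgroup of a product. -/
theorem nonempty_mulEquiv_of_subdirect [Finite G₁] [Finite G₂] (R : Subgroup (G₁ × G₂)) (C₁ : Subgroup G₁)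
    (C₂ : Subgroup G₂) {k : ℕ} (h₁ : ∀ y ∈ R, y.1 ∈ C₁) (h₂ : ∀ y ∈ R, y.2 ∈ C₂)
    (i₁ : ∀ y ∈ R, y.1 = 1 → y = 1) (i₂ : ∀ y ∈ R, y.2 = 1 → y = 1) (hR : k ≤ Nat.card R)
    (hC₁ : Nat.card C₁ ≤ k) (hC₂ : Nat.card C₂ ≤ k) : Nonempty (C₁ ≃* C₂) := by
  let f₁ : R →* C₁ := ((MonoidHom.fst G₁ G₂).comp R.subtype).codRestrict C₁ fun y => h₁ y.1 y.2
  let f₂ : R →* C₂ := ((MonoidHom.snd G₁ G₂).comp R.subtype).codRestrict C₂ fun y => h₂ y.1 y.2
  have b₁ : Function.Bijective f₁ := by
    refine (injective_iff_map_eq_one f₁).2 (fun y hy => Subtype.ext (i₁ y.1 y.2 (congrArg Subtype.val hy)))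
      |>.bijective_of_nat_card_le (hC₁.trans hR)
  have b₂ : Function.Bijective f₂ := by
    refine (injective_iff_map_eq_one f₂).2 (fun y hy => Subtype.ext (i₂ y.1 y.2 (congrArg Subtype.val hy)))
      |>.bijective_of_nat_card_le (hC₂.trans hR)
  exact ⟨(MulEquiv.ofBijective f₁ b₁).symm.trans (MulEquiv.ofBijective f₂ b₂)⟩

end Sum

end Cfsg.Agent.Spor.Cos
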