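import Cfsg.Agent.Lib.Spor.Cos.Words
import Cfsg.Prelude.Def_KGroupFacts

/-!
Outer automorphism groups of order two.
-/

set_option autoImplicit false

namespace Cfsg.Agent.Spor.Cos

theorem card_out_eq_two {G : Type*} [Group G] (ψ : MulAut G) (hψ : ψ ∉ Cfsg.Inn G)
    (h : ∀ φ : MulAut G, φ ∈ Cfsg.Inn G ∨ φ * ψ⁻¹ ∈ Cfsg.Inn G) : Nat.card (Cfsg.Out G) = 2 := by
  have hne : (QuotientGroup.mk ψ : Cfsg.Out G) ≠ 1 := fun e => hψ ((QuotientGroup.eq_one_iff _).1 e)
  have key : ∀ x : Cfsg.Out G, x = 1 ∨ x = QuotientGroup.mk ψ := fun x => by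
    obtain ⟨φ, rfl⟩ := QuotientGroup.mk_surjective x
    rcases h φ with h | h
    · exact Or.inl ((QuotientGroup.eq_one_iff _).2 h)
    · refine Or.inr (QuotientGroup.eq.2 ?_)
      have h' := (innNormal G).conj_mem _ (inv_mem h) φ⁻¹
      rwa [mul_inv_rev, inv_inv, inv_inv, show φ⁻¹ * (ψ * φ⁻¹) * φ = φ⁻¹ * ψ by group] at h'
  have : (Set.univ : Set (Cfsg.Out G)) = {1, QuotientGroup.mk ψ} := Set.ext fun x => by
    simpa using key x
  rw [← Set.ncard_univ, this, Set.ncard_pair hne.symm]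

theorem card_out_congr {G H : Type*} [Group G] [Group H] (e : G ≃* H) :
    Nat.card (Cfsg.Out G) = Nat.card (Cfsg.Out H) := by
  have hmap : (Cfsg.Inn G).map (MulAut.congr e).toMonoidHom = Cfsg.Inn H := by
    ext x
    constructor
    · rintro ⟨_, ⟨g, rfl⟩, rfl⟩
      exact ⟨e g, MulEquiv.ext fun y => by simp [MulAut.congr]⟩
    · rintro ⟨y, rfl⟩
      exact ⟨MulAut.conj (e.symm y), ⟨_, rfl⟩, MulEquiv.ext fun z => by simp [MulAut.congr]⟩
  exact Nat.card_congr (QuotientGroup.congr _ _ (MulAut.congr e) hmap).toEquiv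

theorem ev_subst {G : Type*} [Group G] (g : ℕ → G) (X : ℕ → List ℕ) (w : List ℕ) :
    ev g (w.map X).flatten = ev (fun i => ev g (X i)) w := by
  induction w with
  | nil => rfl
  | cons i w ih => rw [List.map_cons, List.flatten_cons, ev_append, ih]; rfl

end Cfsg.Agent.Spor.Cos
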