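import Cfsg.Agent.Lib.Spor.Cos.Words

/-!
Certificates for coset enumerations: a list of justified facts about representatives.

The nodes are numbered from 0, the node 0 standing for the subgroup, and a fact `(a, s, b)` says that
`rep a * g s * (rep b)⁻¹` lies in the subgroup, where the letter `n` stands for the identity.  The first facts
define the representatives; each later one follows by scanning a word that is trivial, or that lies in the
subgroup and is scanned from node 0, along earlier facts.
-/

set_option autoImplicit false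

namespace Cfsg.Agent.Spor.Cos

/-- The content of a certificate. -/
structure Log where
  /-- number of generators -/
  n : ℕ
  /-- number of cosets -/
  N : ℕ
  /-- number of nodes -/
  M : ℕ
  /-- number of facts -/
  nF : ℕ
  /-- the facts, as `a + 2 ^ 20 * b + 2 ^ 40 * s` -/
  facts : Table
  /-- for a coset and a letter, the index at `a * n + s` of twice a fact, plus one if read backwards -/
  final : Table
  /-- trivial words -/
  rels : List (List ℕ)
  /-- words in the subgroup -/
  sub : List (List ℕ)

namespace Log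

variable (C : Log)

/-- Read a word along earlier facts. -/
def walk (i tgt : ℕ) : ℕ → ℕ → ℕ → List ℕ → Bool
  | 0, _, c, w => Nat.beq c tgt && w.isEmpty
  | cnt + 1, R, c, w =>
    force (R % 2097152) fun r => Nat.blt (r / 2) i && force (C.facts.at (r / 2)) fun F =>
      bif Nat.beq (bif Nat.beq (r % 2) 0 then F % 1048576 else (F >>> 20) % 1048576) c then
        force (bif Nat.beq (r % 2) 0 then (F >>> 20) % 1048576 else F % 1048576) fun y =>
        bif Nat.beq (F >>> 40) C.n then force (R >>> 21) fun R' => walk i tgt cnt R' y w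
        else match w with
          | [] => false
          | t :: w' => Nat.beq t (F >>> 40) && force (R >>> 21) fun R' => walk i tgt cnt R' y w'
      else false

/-- A definition. -/
def chkDef (i : ℕ) : Bool :=
  force (C.facts.at i) fun F =>
    Nat.ble (F % 1048576) i && Nat.beq ((F >>> 20) % 1048576) (i + 1) && Nat.blt (F >>> 40) C.n

/-- A fact obtained by a scan. -/
def chkFact (i J : ℕ) : Bool :=
  force (C.facts.at i) fun F => force (J % 1024) fun j => force ((J >>> 10) % 512) fun k =>
  force ((J >>> 19) % 1048576) fun a0 => force ((J >>> 39) % 512) fun c1 => force ((J >>> 48) % 512) fun c2 =>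
    Nat.ble (F >>> 40) C.n && (Nat.blt j C.rels.length || (Nat.blt j (C.rels.length + C.sub.length) && Nat.beq a0 0)) &&
      (fun w : List ℕ =>
        (Nat.beq (F >>> 40) C.n || (Nat.blt k w.length && Nat.beq (w.getD k C.n) (F >>> 40))) &&
        force (J >>> 57) fun R => force (F % 1048576) fun a => force ((F >>> 20) % 1048576) fun b =>
        force (R >>> (21 * c1)) fun R2 =>
          C.walk i a c1 R a0 (w.take k) &&
          C.walk i a0 c2 R2 b (w.drop (bif Nat.beq (F >>> 40) C.n then k else k + 1)))
        ((C.rels ++ C.sub).getD j [])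

/-- Some facts in a row with their scans in one number. -/
def chkFacts : ℕ → ℕ → ℕ → Bool
  | 0, _, _ => true
  | cnt + 1, i, J => force i fun i => force J fun J =>
      C.chkFact i J &&
        chkFacts cnt (i + 1) (J >>> (57 + 21 * ((J >>> 39) % 512 + (J >>> 48) % 512)))

/-- The entry of a coset and a letter. -/
def chkFinal (k : ℕ) : Bool :=
  force (C.final.at k) fun r => Nat.blt (r / 2) C.nF && force (C.facts.at (r / 2)) fun F =>
    Nat.beq (bif Nat.beq (r % 2) 0 then F % 1048576 else (F >>> 20) % 1048576) (k / C.n) &&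
      Nat.beq (F >>> 40) (k % C.n) &&
      Nat.blt (bif Nat.beq (r % 2) 0 then (F >>> 20) % 1048576 else F % 1048576) C.N

variable {G : Type*} [Group G] (g : ℕ → G)

/-- The value of a letter, `n` standing for the identity. -/
def gl (s : ℕ) : G := if s = C.n then 1 else g s

/-- Representatives, with fuel. -/
def repAux : ℕ → ℕ → G
  | 0, _ => 1
  | f + 1, b => if b = 0 then 1 else repAux f (C.facts.at (b - 1) % 1048576) * g (C.facts.at (b - 1) >>> 40)

/-- The representative of a node. -/
def rep (b : ℕ) : G := C.repAux g b b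

theorem rep_zero : C.rep g 0 = 1 := rfl

theorem repAux_eq (hd : ∀ i, i + 1 < C.M → C.chkDef i = true) :
    ∀ f b, b < C.M → b ≤ f → C.repAux g f b = C.repAux g b b := by
  intro f
  induction f using Nat.strong_induction_on with
  | _ f ih =>
    intro b hb hbf
    rcases f with _ | f
    · rw [Nat.le_zero.mp hbf]
    rcases b with _ | b
    · simp [repAux]
    have h := hd b hb
    simp only [chkDef, force_eq, Bool.and_eq_true, Nat.ble_eq, Nat.beq_eq] at h
    simp only [repAux, Nat.add_one_ne_zero, if_false, Nat.add_sub_cancel]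
    rw [ih f (Nat.lt_succ_self f) _ (by omega) (by omega)]
    rcases Nat.lt_or_ge b f with hlt | hge
    · rw [ih b (by omega) _ (by omega) (by omega)]
    · obtain rfl : b = f := by omega
      rw [ih b (Nat.lt_succ_self b) _ (by omega) (by omega)]

/-- The meaning of a fact. -/
def Holds (H : Subgroup G) (a s b : ℕ) : Prop := C.rep g a * C.gl g s * (C.rep g b)⁻¹ ∈ H

/-- The meaning of the fact with a given index. -/
def Good (H : Subgroup G) (i : ℕ) : Prop :=
  C.Holds g H (C.facts.at i % 1048576) (C.facts.at i >>> 40) ((C.facts.at i >>> 20) % 1048576)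

variable {g}

theorem gl_inv (hinv : ∀ s < C.n, g s * g s = 1) (s : ℕ) (hs : s ≤ C.n) : (C.gl g s)⁻¹ = C.gl g s := by
  unfold gl
  split_ifs with h
  · exact inv_one
  · exact inv_eq_of_mul_eq_one_left (hinv s (by omega))

theorem walk_sound {H : Subgroup G} (hinv : ∀ s < C.n, g s * g s = 1) {i tgt : ℕ}
    (hgood : ∀ j < i, C.Good g H j) (hsmall : ∀ j < i, C.facts.at j >>> 40 ≤ C.n) :
    ∀ (cnt R c : ℕ) (w : List ℕ), C.walk i tgt cnt R c w = true →
      C.rep g c * ev g w * (C.rep g tgt)⁻¹ ∈ H
  | 0, R, c, w, h => by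
    simp only [walk, Bool.and_eq_true, Nat.beq_eq, List.isEmpty_iff] at h
    obtain ⟨rfl, rfl⟩ := h
    simp [ev]
  | cnt + 1, R, c, w, h => by
    simp only [walk, force_eq, Bool.and_eq_true, Nat.blt_eq] at h
    obtain ⟨hlt, h⟩ := h
    set F := C.facts.at (R % 2097152 / 2) with hF
    cases hx : Nat.beq (bif Nat.beq (R % 2097152 % 2) 0 then F % 1048576 else (F >>> 20) % 1048576) c
    · rw [hx] at h; exact absurd h (by simp)
    rw [hx, Bool.cond_true] at h
    rw [Nat.beq_eq] at hx
    have hg := hgood _ hlt
    unfold Good at hg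
    rw [← hF] at hg
    have hle : F >>> 40 ≤ C.n := hsmall _ hlt
    generalize hy : (bif Nat.beq (R % 2097152 % 2) 0 then (F >>> 20) % 1048576 else F % 1048576) = y at h
    have hstep : C.Holds g H c (F >>> 40) y := by
      cases hb : Nat.beq (R % 2097152 % 2) 0 <;> rw [hb] at hx hy
      · simp only [Bool.cond_false] at hx hy
        subst hx hy
        have := H.inv_mem hg
        unfold Holds at hg ⊢
        simpa [mul_assoc, C.gl_inv hinv _ hle] using this
      · simp only [Bool.cond_true] at hx hy
        subst hx hy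
        exact hg
    unfold Holds at hstep
    cases hn : Nat.beq (F >>> 40) C.n <;> rw [hn] at h
    · simp only [Bool.cond_false] at h
      have hne : F >>> 40 ≠ C.n := fun e => by rw [Nat.beq_eq.mpr e] at hn; exact absurd hn (by simp)
      rcases w with _ | ⟨t, w⟩
      · exact absurd h (by simp)
      simp only [force_eq, Bool.and_eq_true, Nat.beq_eq] at h
      obtain ⟨rfl, h⟩ := h
      have h2 := walk_sound hinv hgood hsmall cnt _ _ _ h
      have := H.mul_mem hstep h2
      simp only [ev]
      simpa [gl, hne, mul_assoc] using this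
    · simp only [Bool.cond_true, force_eq] at h
      have h2 := walk_sound hinv hgood hsmall cnt _ _ _ h
      have := H.mul_mem hstep h2
      simpa [gl, Nat.beq_eq.mp hn, mul_assoc] using this

/-- All checks. -/
structure Checks : Prop where
  pos : 0 < C.N ∧ C.M ≤ C.nF + 1
  defs : ∀ i, i + 1 < C.M → C.chkDef i = true
  facts : ∀ i, C.M ≤ i + 1 → i < C.nF → ∃ J, C.chkFact i J = true
  final : ∀ k < C.N * C.n, C.chkFinal k = true

theorem exists_scan : ∀ (cnt i J k : ℕ), C.chkFacts cnt i J = true → i ≤ k → k < i + cnt →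
    ∃ J', C.chkFact k J' = true
  | 0, i, J, k, _, h1, h2 => by omega
  | cnt + 1, i, J, k, h, h1, h2 => by
    simp only [chkFacts, force_eq, Bool.and_eq_true] at h
    rcases Nat.lt_or_ge i k with hlt | hge
    · exact exists_scan cnt _ _ k h.2 (by omega) (by omega)
    · obtain rfl : i = k := by omega
      exact ⟨J, h.1⟩

/-- Several runs of facts, each with its count and its scans. -/
def chkPart : ℕ → ℕ → List (ℕ × ℕ) → Bool
  | i, stop, [] => Nat.beq i stop
  | i, stop, (cnt, J) :: L => C.chkFacts cnt i J && force (i + cnt) fun i' => chkPart i' stop L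

/-- All facts in a range have scans. -/
def Covers (a b : ℕ) : Prop := ∀ i, a ≤ i → i < b → ∃ J, C.chkFact i J = true

theorem covers_of_part : ∀ (L : List (ℕ × ℕ)) (a b : ℕ), C.chkPart a b L = true → C.Covers a b
  | [], a, b, h, i, h1, h2 => by
    simp only [chkPart, Nat.beq_eq] at h
    omega
  | (cnt, J) :: L, a, b, h, i, h1, h2 => by
    simp only [chkPart, force_eq, Bool.and_eq_true] at h
    rcases Nat.lt_or_ge i (a + cnt) with hlt | hge
    · exact C.exists_scan _ _ _ i h.1 h1 hlt
    · exact covers_of_part L _ _ h.2 i hge h2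

theorem Covers.trans {a b c : ℕ} (h : C.Covers a b) (h' : C.Covers b c) : C.Covers a c := fun i h1 h2 =>
  (Nat.lt_or_ge i b).elim (h i h1) fun hb => h' i hb h2

theorem facts_of_covers {first stop : ℕ} (h : C.Covers first stop) (hf : first + 1 = C.M) (hs : stop = C.nF) :
    ∀ i, C.M ≤ i + 1 → i < C.nF → ∃ J, C.chkFact i J = true :=
  fun i h1 h2 => h i (by omega) (by omega)

theorem good_all (hinv : ∀ s < C.n, g s * g s = 1) (hd : ∀ i, i + 1 < C.M → C.chkDef i = true)
    {nF : ℕ} (hf : ∀ i, C.M ≤ i + 1 → i < nF → ∃ J, C.chkFact i J = true) {H : Subgroup G}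
    (hrels : ∀ w ∈ C.rels, ev g w = 1) (hsub : ∀ w ∈ C.sub, ev g w ∈ H) :
    ∀ i < nF, C.Good g H i ∧ C.facts.at i >>> 40 ≤ C.n := by
  intro i
  induction i using Nat.strong_induction_on with
  | _ i ih =>
    intro hi
    rcases Nat.lt_or_ge (i + 1) C.M with hdef | hscan
    · have h := hd i hdef
      simp only [chkDef, force_eq, Bool.and_eq_true, Nat.ble_eq, Nat.beq_eq, Nat.blt_eq] at h
      obtain ⟨⟨ha, hb⟩, hs⟩ := h
      refine ⟨?_, hs.le⟩
      unfold Good Holds
      rw [hb]
      have e : C.rep g (i + 1) = C.rep g (C.facts.at i % 1048576) * g (C.facts.at i >>> 40) := by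
        show C.repAux g (i + 1) (i + 1) = _
        rw [repAux, if_neg (Nat.add_one_ne_zero i), Nat.add_sub_cancel,
          C.repAux_eq g hd i _ (by omega) ha]
        rfl
      rw [e, gl, if_neg hs.ne, mul_inv_cancel]
      exact H.one_mem
    · obtain ⟨J, h⟩ := hf i hscan hi
      have hgood : ∀ j < i, C.Good g H j := fun j hj => (ih j hj (by omega)).1
      have hsmall : ∀ j < i, C.facts.at j >>> 40 ≤ C.n := fun j hj => (ih j hj (by omega)).2
      simp only [chkFact, force_eq, Bool.and_eq_true, Bool.or_eq_true, Nat.beq_eq, Nat.blt_eq, Nat.ble_eq] at h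
      obtain ⟨⟨hle, hj⟩, hs, hw1, hw2⟩ := h
      refine ⟨?_, hle⟩
      generalize hw : (C.rels ++ C.sub).getD (J % 1024) [] = w at hs hw1 hw2
      generalize (J >>> 10) % 512 = k at hs hw1 hw2
      generalize (J >>> 19) % 1048576 = a0 at hj hw1 hw2
      have e1 := C.walk_sound hinv hgood hsmall _ _ _ _ hw1
      have e2 := C.walk_sound hinv hgood hsmall _ _ _ _ hw2
      have hev : C.rep g a0 * ev g w * (C.rep g a0)⁻¹ ∈ H := by
        by_cases hjr : J % 1024 < C.rels.length
        · have : ev g w = 1 := hrels _ (by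
            rw [← hw, List.getD_eq_getElem?_getD, List.getElem?_append_left hjr, List.getElem?_eq_getElem hjr]
            exact List.getElem_mem hjr)
          rw [this]; simp
        · obtain ⟨hj', rfl⟩ := hj.resolve_left hjr
          rw [C.rep_zero g, one_mul, inv_one, mul_one]
          refine hsub _ ?_
          rw [← hw, List.getD_eq_getElem?_getD, List.getElem?_append_right (by omega),
            List.getElem?_eq_getElem (by omega)]
          exact List.getElem_mem _
      unfold Good Holds
      generalize C.facts.at i % 1048576 = a at e1 ⊢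
      generalize (C.facts.at i >>> 20) % 1048576 = b at e2 ⊢
      generalize C.facts.at i >>> 40 = s at hs e2 hle ⊢
      rcases hs with rfl | ⟨hk, hks⟩
      · simp only [show Nat.beq C.n C.n = true from Nat.beq_eq.mpr rfl, Bool.cond_true] at e2
        rw [← List.take_append_drop k w, ev_append] at hev
        have := H.mul_mem (H.mul_mem (H.inv_mem e1) hev) (H.inv_mem e2)
        simpa [gl, mul_assoc] using this
      · by_cases hsn : s = C.n
        · subst hsn
          simp only [show Nat.beq C.n C.n = true from Nat.beq_eq.mpr rfl, Bool.cond_true] at e2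
          rw [← List.take_append_drop k w, ev_append] at hev
          have := H.mul_mem (H.mul_mem (H.inv_mem e1) hev) (H.inv_mem e2)
          simpa [gl, mul_assoc] using this
        · rw [show Nat.beq s C.n = false from Bool.eq_false_iff.mpr fun e => hsn (Nat.beq_eq.mp e),
            Bool.cond_false] at e2
          have hdec : w = w.take k ++ s :: w.drop (k + 1) := by
            rw [List.getD_eq_getElem _ _ hk] at hks
            rw [← hks, List.getElem_cons_drop, List.take_append_drop]
          rw [hdec, ev_append] at hev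
          simp only [ev] at hev
          have := H.mul_mem (H.mul_mem (H.inv_mem e1) hev) (H.inv_mem e2)
          simpa [gl, hsn, mul_assoc] using this

/-- A word read along facts from node 0 back to node 0 gives a member of the subgroup. -/
theorem loop_mem (hinv : ∀ s < C.n, g s * g s = 1) (hd : ∀ i, i + 1 < C.M → C.chkDef i = true)
    (hf : ∀ i, C.M ≤ i + 1 → i < C.nF → ∃ J, C.chkFact i J = true) {H : Subgroup G}
    (hrels : ∀ w ∈ C.rels, ev g w = 1) (hsub : ∀ w ∈ C.sub, ev g w ∈ H) {cnt R : ℕ} {w : List ℕ}
    (h : C.walk C.nF 0 cnt R 0 w = true) : ev g w ∈ H := by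
  have hall := C.good_all hinv hd hf hrels hsub
  have := C.walk_sound hinv (fun j hj => (hall j hj).1) (fun j hj => (hall j hj).2) _ _ _ _ h
  simpa [C.rep_zero g] using this

/-- Every element lies in one of the cosets. -/
theorem exists_rep (hc : C.Checks) {H : Subgroup G} (hinv : ∀ s < C.n, g s * g s = 1)
    (hgen : Subgroup.closure {x | ∃ s < C.n, g s = x} = ⊤)
    (hrels : ∀ w ∈ C.rels, ev g w = 1) (hsub : ∀ w ∈ C.sub, ev g w ∈ H) (x : G) :
    ∃ b < C.N, x * (C.rep g b)⁻¹ ∈ H := by
  have hall := C.good_all hinv hc.defs hc.facts hrels hsub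
  have step : ∀ y s, s < C.n → (∃ b < C.N, y * (C.rep g b)⁻¹ ∈ H) →
      ∃ b < C.N, y * g s * (C.rep g b)⁻¹ ∈ H := by
    rintro y s hs ⟨a, ha, hy⟩
    have hk : a * C.n + s < C.N * C.n :=
      calc a * C.n + s < (a + 1) * C.n := by rw [Nat.add_mul, Nat.one_mul]; omega
        _ ≤ C.N * C.n := Nat.mul_le_mul_right _ ha
    have h := hc.final _ hk
    have ea : (a * C.n + s) / C.n = a := by
      rw [Nat.mul_comm, Nat.mul_add_div (by omega), Nat.div_eq_of_lt hs, Nat.add_zero]
    have es : (a * C.n + s) % C.n = s := by
      rw [Nat.mul_comm, Nat.mul_add_mod, Nat.mod_eq_of_lt hs]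
    simp only [chkFinal, force_eq, Bool.and_eq_true, Nat.blt_eq, Nat.beq_eq, ea, es] at h
    obtain ⟨hr, ⟨hea, hes⟩, hb⟩ := h
    refine ⟨_, hb, ?_⟩
    have hg := (hall _ hr).1
    unfold Good Holds at hg
    rw [hes] at hg
    simp only [gl, if_neg hs.ne] at hg
    generalize C.facts.at (C.final.at (a * C.n + s) / 2) = F at hea hb hg ⊢
    cases hd' : Nat.beq (C.final.at (a * C.n + s) % 2) 0 <;> rw [hd'] at hea hb <;>
      simp only [Bool.cond_false, Bool.cond_true] at hea hb ⊢ <;> rw [hea] at hg
    · have := H.mul_mem hy (H.inv_mem hg)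
      have hi : (g s)⁻¹ = g s := inv_eq_of_mul_eq_one_left (hinv s hs)
      simpa [mul_assoc, hi] using this
    · simpa [mul_assoc] using H.mul_mem hy hg
  have hx : x ∈ Subgroup.closure {x | ∃ s < C.n, g s = x} := hgen ▸ Subgroup.mem_top x
  induction hx using Subgroup.closure_induction_right with
  | one => exact ⟨0, hc.pos.1, by simp [C.rep_zero g]⟩
  | mul_right y _ z hz ih =>
    obtain ⟨s, hs, rfl⟩ := hz
    exact step y s hs ih
  | mul_inv_cancel y _ z hz ih =>
    obtain ⟨s, hs, rfl⟩ := hz
    rw [inv_eq_of_mul_eq_one_left (hinv s hs)]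
    exact step y s hs ih

/-- The index is positive and at most the number of cosets. -/
theorem index_le (hc : C.Checks) {H : Subgroup G} (hinv : ∀ s < C.n, g s * g s = 1)
    (hgen : Subgroup.closure {x | ∃ s < C.n, g s = x} = ⊤)
    (hrels : ∀ w ∈ C.rels, ev g w = 1) (hsub : ∀ w ∈ C.sub, ev g w ∈ H) :
    H.FiniteIndex ∧ H.index ≤ C.N := by
  let f : Fin C.N → G ⧸ H := fun b => QuotientGroup.mk (C.rep g b)⁻¹
  have hf : Function.Surjective f := by
    intro q
    induction q using QuotientGroup.induction_on with
    | _ x =>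
      obtain ⟨b, hb, h⟩ := C.exists_rep hc hinv hgen hrels hsub x⁻¹
      refine ⟨⟨b, hb⟩, (QuotientGroup.eq).mpr ?_⟩
      have := H.inv_mem h
      simpa using this
  haveI : Finite (G ⧸ H) := Finite.of_surjective f hf
  refine ⟨Subgroup.finiteIndex_of_finite_quotient, ?_⟩
  rw [Subgroup.index]
  exact (Nat.card_le_card_of_surjective f hf).trans_eq (by simp)

end Log

end Cfsg.Agent.Spor.Cos
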