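import Cfsg.Agent.Lib.Spor.Cos.Log

/-!
Upper bounds of orders from chains of coset enumerations.
-/

set_option autoImplicit false

namespace Cfsg.Agent.Spor.Cos

variable {G : Type*} [Group G] (g : ℕ → G)

/-- The subgroup generated by some words. -/
def val (ws : List (List ℕ)) : Subgroup G := Subgroup.closure {y | ∃ w ∈ ws, ev g w = y}

/-- Words of one letter. -/
def singles (L : List ℕ) : List (List ℕ) := L.map fun s => [s]

/-- The subgroup generated by some generators is finite of at most the given order. -/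
def Bound (L : List ℕ) (k : ℕ) : Prop :=
  Finite (val g (singles L)) ∧ Nat.card (val g (singles L)) ≤ k

variable {g}

theorem mem_val {ws : List (List ℕ)} {w : List ℕ} (h : w ∈ ws) : ev g w ∈ val g ws :=
  Subgroup.subset_closure ⟨w, h, rfl⟩

theorem mem_single {L : List ℕ} {s : ℕ} (h : s ∈ L) : g s ∈ val g (singles L) := by
  have := mem_val (g := g) (List.mem_map_of_mem (f := fun t => [t]) h)
  simpa [ev, singles] using this

theorem ev_reletter (L : List ℕ) (d : ℕ) : ∀ w : List ℕ, ev (fun i => g (L.getD i d)) w = ev g (w.map fun i => L.getD i d)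
  | [] => rfl
  | s :: w => by simp only [ev, List.map_cons, ev_reletter L d w]

theorem val_nil : val g [] = ⊥ := by simp [val]

theorem Bound.nil : Bound g [] 1 := by
  rw [Bound, singles, List.map_nil, val_nil]
  exact ⟨inferInstance, by simp⟩

/-- One coset enumeration. -/
theorem Bound.step (hinv : ∀ s, g s * g s = 1) {L L' : List ℕ} {k d : ℕ} (h' : Bound g L' k) (C : Log)
    (hc : C.Checks) (hn : C.n = L.length) (hsub : C.sub.all (fun w => w.all fun i => L'.contains (L.getD i d)) = true)
    {base : List (List ℕ)} (hbase : ∀ w ∈ base, ev g (w.map fun i => L.getD i d) = 1)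
    (hder : C.rels.all (derivedOk C.n base) = true) : Bound g L (C.N * k) := by
  obtain ⟨hfin, hk⟩ := h'
  set K := val g (singles L) with hK
  have hmem : ∀ i, L.getD i d ∈ L ∨ L.length ≤ i := by
    intro i
    rcases Nat.lt_or_ge i L.length with h | h
    · left; rw [List.getD_eq_getElem _ _ h]; exact List.getElem_mem h
    · exact Or.inr h
  classical
  let g' : ℕ → K := fun i => if h : i < L.length then
    ⟨g (L.getD i d), mem_single ((hmem i).resolve_right (Nat.not_le.2 h))⟩ else 1
  have hg' : ∀ i < L.length, (g' i : G) = g (L.getD i d) := fun i hi => by simp [g', hi]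
  have hinv' : ∀ i < C.n, g' i * g' i = 1 := fun i hi => Subtype.ext (by simp [hg' i (hn ▸ hi), hinv])
  have hgen : Subgroup.closure {x | ∃ i < C.n, g' i = x} = ⊤ := by
    rw [← (Subgroup.map_injective K.subtype_injective).eq_iff, ← MonoidHom.range_eq_map, K.range_subtype,
      MonoidHom.map_closure]
    show _ = Subgroup.closure {y | ∃ w ∈ singles L, ev g w = y}
    congr 1
    ext y
    simp only [Set.mem_image, Set.mem_setOf_eq, Subgroup.coe_subtype, singles, List.mem_map]
    constructor
    · rintro ⟨x, ⟨i, hi, rfl⟩, rfl⟩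
      exact ⟨_, ⟨_, (hmem i).resolve_right (by omega), rfl⟩, by simp [ev, hg' i (hn ▸ hi)]⟩
    · rintro ⟨w, ⟨t, ht, rfl⟩, rfl⟩
      obtain ⟨i, hi, rfl⟩ := List.getElem_of_mem ht
      exact ⟨_, ⟨i, hn ▸ hi, rfl⟩, by simp [ev, hg' i hi, List.getD_eq_getElem?_getD, List.getElem?_eq_getElem hi]⟩
  set H := (val g (singles L')).subgroupOf K
  have hlift : ∀ w : List ℕ, (∀ i ∈ w, i < L.length) → ((ev g' w : K) : G) = ev g (w.map fun i => L.getD i d) := by
    intro w
    induction w with
    | nil => intro; rfl
    | cons s w ih =>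
      intro h
      simp [ev, hg' s (h s (by simp)), ih fun i hi => h i (List.mem_cons_of_mem _ hi)]
  have hrels : ∀ w ∈ C.rels, ev g' w = 1 := by
    intro w hw
    refine ev_derived (base := base.filter fun r => r.all (fun s => Nat.blt s C.n)) hinv' ?_ ?_
    · intro r hr
      obtain ⟨hr, hlt⟩ := List.mem_filter.1 hr
      refine Subtype.ext ?_
      rw [hlift r fun i hi => hn ▸ Nat.le_of_ble_eq_true (List.all_eq_true.1 hlt i hi)]
      exact hbase r hr
    · have := List.all_eq_true.1 hder w hw
      simp only [derivedOk, Bool.or_eq_true, List.any_eq_true, Bool.and_eq_true, List.mem_filter] at this ⊢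
      rcases this with h | ⟨r, hr, hlt, h⟩
      · exact Or.inl h
      · exact Or.inr ⟨r, ⟨hr, hlt⟩, hlt, h⟩
  have hsub' : ∀ w ∈ C.sub, ev g' w ∈ H := by
    intro w hw
    have hw' := List.all_eq_true.1 hsub w hw
    refine ev_mem w fun i hi => Subgroup.mem_subgroupOf.2 ?_
    have := List.contains_iff_mem.1 (List.all_eq_true.1 hw' i hi)
    rcases Nat.lt_or_ge i L.length with h | h
    · rw [hg' i h]; exact mem_single this
    · simp [g', Nat.not_lt.2 h]
  obtain ⟨hfi, hle⟩ := C.index_le hc hinv' hgen hrels hsub'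
  let f : H → val g (singles L') := fun x => ⟨_, Subgroup.mem_subgroupOf.1 x.2⟩
  have hf : Function.Injective f := fun x y h => by
    exact Subtype.ext (Subtype.ext (congrArg (fun z : val g (singles L') => (z : G)) h))
  have : Finite H := Finite.of_injective f hf
  have : Finite K := (Subgroup.finite_iff_finite_and_finiteIndex (H := H)).2 ⟨inferInstance, hfi⟩
  refine ⟨‹_›, ?_⟩
  rw [← H.index_mul_card]
  exact Nat.mul_le_mul hle ((Nat.card_le_card_of_injective f hf).trans hk)

/-- A chain reaching all generators. -/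
theorem Bound.top {n k : ℕ} (h : Bound g (List.range n) k)
    (hgen : Subgroup.closure {x | ∃ s < n, g s = x} = ⊤) : Finite G ∧ Nat.card G ≤ k := by
  have e : val g (singles (List.range n)) = ⊤ := by
    refine top_le_iff.1 (hgen ▸ (Subgroup.closure_le _).2 ?_)
    rintro _ ⟨s, hs, rfl⟩
    exact mem_single (List.mem_range.2 hs)
  rw [Bound, e] at h
  obtain ⟨hf, hc⟩ := h
  have := hf
  exact ⟨Finite.of_equiv _ Subgroup.topEquiv.toEquiv, (Nat.card_congr Subgroup.topEquiv.toEquiv).symm.trans_le hc⟩

/-- A word trivial by a goal certificate. -/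
theorem ev_eq_one_of_loop (C : Log) (hd : ∀ i, i + 1 < C.M → C.chkDef i = true)
    (hf : ∀ i, C.M ≤ i + 1 → i < C.nF → ∃ J, C.chkFact i J = true) (hinv : ∀ s, g s * g s = 1)
    (L : List ℕ) (d : ℕ) {base : List (List ℕ)} (hbase : ∀ w ∈ base, ev g (w.map fun i => L.getD i d) = 1)
    (hder : C.rels.all (derivedOk C.n base) = true) (hsub : C.sub = []) {cnt R : ℕ} {w : List ℕ}
    (h : C.walk C.nF 0 cnt R 0 w = true) : ev g (w.map fun i => L.getD i d) = 1 := by
  have hi : ∀ s < C.n, g (L.getD s d) * g (L.getD s d) = 1 := fun s _ => hinv _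
  have := C.loop_mem (g := fun i => g (L.getD i d)) (H := ⊥) hi hd hf
    (fun r hr => ev_derived hi (fun x hx => (ev_reletter L d x).trans (hbase x hx)) (List.all_eq_true.1 hder r hr))
    (by simp [hsub]) h
  rw [Subgroup.mem_bot, ev_reletter] at this
  exact this

/-- Translated relations from known ones. -/
theorem hbase_of (hinv : ∀ s, g s * g s = 1) {known : List (List ℕ)} (hk : ∀ w ∈ known, ev g w = 1) {n : ℕ}
    {base : List (List ℕ)} {L : List ℕ} {d : ℕ}
    (h : (base.all fun w => derivedOk n known (w.map fun i => L.getD i d)) = true) :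
    ∀ w ∈ base, ev g (w.map fun i => L.getD i d) = 1 :=
  fun w hw => ev_derived (fun s _ => hinv s) hk (List.all_eq_true.1 h w hw)

end Cfsg.Agent.Spor.Cos
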