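import Cfsg.Agent.Lib.Spor.Cos.Act
import Cfsg.Agent.Lib.Spor.Cos.Bound

/-!
Orbits given by search trees, and lower bounds of orders from chains of stabilisers.
-/

set_option autoImplicit false

namespace Cfsg.Agent.Spor.Cos

/-- An orbit as a list of points, each with an earlier one and a word taking that one to it. -/
structure Orb where
  /-- number of points -/
  m : ℕ
  /-- point, earlier index and word index at `2 ^ 0`, `2 ^ 16`, `2 ^ 32` -/
  ent : Tab
  /-- index of a point -/
  pos : Tab

namespace Orb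

variable (O : Orb) (A : Act)

/-- The point at an index. -/
noncomputable def pt (j : ℕ) : ℕ := O.ent.at j % 65536

/-- A point is listed. -/
noncomputable def mem (p : ℕ) : Bool := force (O.pos.at p) fun j => Nat.blt j O.m && Nat.beq (O.pt j) p

/-- An entry. -/
noncomputable def chkEnt (ws : List (List ℕ)) (x j : ℕ) : Bool :=
  force (O.ent.at j) fun E => force (E % 65536) fun q =>
    Nat.blt q A.N && Nat.beq (O.pos.at q) j &&
      bif Nat.beq j 0 then Nat.beq q x
      else force ((E >>> 16) % 65536) fun par => Nat.blt par j && Nat.blt (E >>> 32) ws.length &&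
        Nat.beq (A.go (ws.getD (E >>> 32) []) (O.pt par)) q

/-- The image of a listed point is listed. -/
noncomputable def chkClosed (ws : List (List ℕ)) (j : ℕ) : Bool :=
  force (O.pt j) fun q => ws.all fun w => force (A.go w q) O.mem

/-- The checks of an orbit. -/
structure Ok (ws : List (List ℕ)) (x : ℕ) : Prop where
  letters : Act.lettersOk A.n ws = true
  pos : 0 < O.m
  ents : ∀ j < O.m, O.chkEnt A ws x j = true

variable {O A} {ws : List (List ℕ)} {x : ℕ}

theorem Ok.pt_lt (h : O.Ok A ws x) {j : ℕ} (hj : j < O.m) : O.pt j < A.N ∧ O.pos.at (O.pt j) = j := by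
  have := h.ents j hj
  simp only [chkEnt, force_eq, Bool.and_eq_true] at this
  exact ⟨Nat.le_of_ble_eq_true this.1.1, Nat.eq_of_beq_eq_true this.1.2⟩

theorem Ok.root_lt (h : O.Ok A ws x) : x < A.N := by
  have := h.ents 0 h.pos
  simp only [chkEnt, force_eq, Bool.and_eq_true] at this
  have e : O.ent.at 0 % 65536 = x := Nat.eq_of_beq_eq_true this.2
  exact e ▸ Nat.le_of_ble_eq_true this.1.1

theorem Ok.pt_zero (h : O.Ok A ws x) : O.pt 0 = x := by
  have := h.ents 0 h.pos
  simp only [chkEnt, force_eq, Bool.and_eq_true] at this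
  exact Nat.eq_of_beq_eq_true this.2

variable {G : Type*} [Group G] {g : ℕ → G} {π : G →* Equiv.Perm (Fin A.N)}

theorem Ok.reach (h : O.Ok A ws x) (hπ : A.Hom g π) (x' : Fin A.N) (hx : (x' : ℕ) = x) :
    ∀ j, j < O.m → ∃ y ∈ val g ws, (π y x' : ℕ) = O.pt j := by
  intro j
  induction j using Nat.strong_induction_on with
  | _ j ih =>
    intro hj
    rcases Nat.eq_zero_or_pos j with rfl | hpos
    · exact ⟨1, one_mem _, by simp [h.pt_zero, hx]⟩
    have := h.ents j hj
    simp only [chkEnt, force_eq, Bool.and_eq_true, show Nat.beq j 0 = false from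
      Bool.eq_false_iff.2 fun e => absurd (Nat.eq_of_beq_eq_true e) (by omega), Bool.cond_false] at this
    obtain ⟨-, ⟨hpar, hlen⟩, he⟩ := this
    obtain ⟨y, hy, hyx⟩ := ih _ (Nat.le_of_ble_eq_true hpar) (lt_trans (Nat.le_of_ble_eq_true hpar) hj)
    set w := ws.getD (O.ent.at j >>> 32) [] with hwdef
    have hw : w ∈ ws := by
      rw [hwdef, List.getD_eq_getElem _ _ (Nat.le_of_ble_eq_true hlen)]
      exact List.getElem_mem _
    refine ⟨ev g w * y, mul_mem (mem_val hw) hy, ?_⟩
    rw [map_mul, Equiv.Perm.mul_apply, hπ.apply_ev w (Act.lt_of_lettersOk h.letters hw), hyx]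
    exact Nat.eq_of_beq_eq_true he

/-- Listed points lie in the orbit. -/
theorem Ok.mem_orbit (h : O.Ok A ws x) (hπ : A.Hom g π) (x' : Fin A.N) (hx : (x' : ℕ) = x) {p : Fin A.N}
    (hp : O.mem p = true) : ∃ y ∈ val g ws, π y x' = p := by
  simp only [mem, force_eq, Bool.and_eq_true] at hp
  obtain ⟨y, hy, e⟩ := h.reach hπ x' hx _ (Nat.le_of_ble_eq_true hp.1)
  exact ⟨y, hy, Fin.ext (e.trans (Nat.eq_of_beq_eq_true hp.2))⟩

theorem Ok.mem_pt (h : O.Ok A ws x) {j : ℕ} (hj : j < O.m) : O.mem (O.pt j) = true := by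
  simp only [mem, force_eq, (h.pt_lt hj).2, Bool.and_eq_true]
  exact ⟨Nat.ble_eq_true_of_le hj, Nat.beq_refl _⟩

theorem Ok.ncard_mem (h : O.Ok A ws x) : {p : Fin A.N | O.mem p = true}.ncard = O.m := by
  let f : Fin O.m → Fin A.N := fun j => ⟨O.pt j, (h.pt_lt j.2).1⟩
  have hf : Function.Injective f := fun i j e => by
    have := congrArg (fun p : Fin A.N => O.pos.at p) e
    simp only [f, (h.pt_lt i.2).2, (h.pt_lt j.2).2] at this
    exact Fin.ext this
  have e : {p : Fin A.N | O.mem p = true} = Set.range f := by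
    ext p
    constructor
    · intro hp
      simp only [Set.mem_setOf_eq, mem, force_eq, Bool.and_eq_true] at hp
      exact ⟨⟨_, Nat.le_of_ble_eq_true hp.1⟩, Fin.ext (Nat.eq_of_beq_eq_true hp.2)⟩
    · rintro ⟨j, rfl⟩
      exact h.mem_pt j.2
  rw [e, Set.ncard_range_of_injective hf, Nat.card_fin]

/-- The orbit of a closed list. -/
theorem Ok.orbit_eq (h : O.Ok A ws x) (hc : ∀ j < O.m, O.chkClosed A ws j = true) (hπ : A.Hom g π)
    (x' : Fin A.N) (hx : (x' : ℕ) = x) :
    {p | ∃ y ∈ val g ws, π y x' = p} = {p : Fin A.N | O.mem p = true} := by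
  set S := {p : Fin A.N | O.mem p = true}
  have hS : ∀ y ∈ val g ws, π y '' S = S := by
    intro y hy
    induction hy using Subgroup.closure_induction with
    | mem y hy =>
      obtain ⟨w, hw, rfl⟩ := hy
      refine Set.eq_of_subset_of_ncard_le ?_ (Set.ncard_image_of_injective S (π (ev g w)).injective).ge
      rintro _ ⟨p, hp, rfl⟩
      have hp' : O.mem p = true := hp
      simp only [mem, force_eq, Bool.and_eq_true] at hp'
      have h2 := hc _ (Nat.le_of_ble_eq_true hp'.1)
      simp only [chkClosed, force_eq, List.all_eq_true] at h2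
      have h3 := h2 w hw
      rw [Nat.eq_of_beq_eq_true hp'.2, ← hπ.apply_ev w (Act.lt_of_lettersOk h.letters hw)] at h3
      exact h3
    | one => simp
    | mul a b _ _ ha hb => rw [map_mul, Equiv.Perm.coe_mul, Set.image_comp, hb, ha]
    | inv a _ ha =>
      conv_lhs => rw [← ha]
      rw [← Set.image_comp, ← Equiv.Perm.coe_mul, ← map_mul, inv_mul_cancel, map_one, Equiv.Perm.coe_one,
        Set.image_id]
  ext p
  constructor
  · rintro ⟨y, hy, rfl⟩
    have h0 : x' ∈ S := by
      show O.mem x' = true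
      rw [hx, ← h.pt_zero]
      exact h.mem_pt h.pos
    exact hS y hy ▸ Set.mem_image_of_mem _ h0
  · exact h.mem_orbit hπ x' hx

end Orb

/-- A lower bound of the order of a subgroup, attained only if a condition forces the identity. -/
structure Lev {G : Type*} [Group G] (g : ℕ → G) (ws : List (List ℕ)) (k : ℕ) (P : G → Prop) : Prop where
  pos : 0 < k
  le : k ≤ Nat.card (val g ws)
  fix : Nat.card (val g ws) ≤ k → ∀ y ∈ val g ws, P y → y = 1

section

variable {G : Type*} [Group G] [Finite G] {g : ℕ → G}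

theorem Lev.nil : Lev g [] 1 fun _ => True :=
  ⟨one_pos, Nat.card_pos, fun _ y hy _ => by rw [val_nil, Subgroup.mem_bot] at hy; exact hy⟩

/-- The condition that the next words are words in the previous ones. -/
def wordsIn (ws' ws : List (List ℕ)) : Bool := ws'.all fun w => ws.contains w || w.all fun s => ws.contains [s]

theorem mem_val_of_wordsIn {ws' ws : List (List ℕ)} (h : wordsIn ws' ws = true) {w : List ℕ} (hw : w ∈ ws') :
    ev g w ∈ val g ws := by
  have := List.all_eq_true.1 h w hw
  rcases Bool.or_eq_true_iff.1 this with h1 | h1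
  · exact mem_val (List.contains_iff_mem.1 h1)
  · refine ev_mem w fun s hs => ?_
    have := mem_val (g := g) (List.contains_iff_mem.1 (List.all_eq_true.1 h1 s hs))
    simpa [ev] using this

/-- One more orbit. -/
theorem Lev.step {A : Act} {π : G →* Equiv.Perm (Fin A.N)} (hπ : A.Hom g π) {ws ws' : List (List ℕ)} {k x : ℕ}
    {P : G → Prop} (h' : Lev g ws' k P) {O : Orb} (hO : O.Ok A ws x) (hin : wordsIn ws' ws = true)
    (hl : Act.lettersOk A.n ws' = true) (hfix : A.chkFix ws' x = true) :
    Lev g ws (O.m * k) (fun y => π y ⟨x, hO.root_lt⟩ = ⟨x, hO.root_lt⟩ ∧ P y) := by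
  set x' : Fin A.N := ⟨x, hO.root_lt⟩
  set K := val g ws
  let f : K →* Equiv.Perm (Fin A.N) := π.comp K.subtype
  letI : MulAction K (Fin A.N) := MulAction.compHom (Fin A.N) f
  have key : (MulAction.orbit K x').ncard * Nat.card (MulAction.stabilizer K x') = Nat.card K := by
    rw [← Nat.card_coe_set_eq, ← Nat.card_prod]
    exact Nat.card_congr (MulAction.orbitProdStabilizerEquivGroup K x')
  have horb : O.m ≤ (MulAction.orbit K x').ncard := by
    rw [← hO.ncard_mem]
    refine Set.ncard_le_ncard ?_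
    intro p hp
    obtain ⟨y, hy, e⟩ := hO.mem_orbit hπ x' rfl hp
    exact ⟨⟨y, hy⟩, e⟩
  have hsub : val g ws' ≤ (MulAction.stabilizer K x').map K.subtype := by
    refine (Subgroup.closure_le _).2 ?_
    rintro _ ⟨w, hw, rfl⟩
    exact ⟨⟨_, mem_val_of_wordsIn hin hw⟩, hπ.apply_ev_eq hl hfix hw, rfl⟩
  have hstab : Nat.card (val g ws') ≤ Nat.card (MulAction.stabilizer K x') :=
    (Subgroup.card_le_of_le hsub).trans_eq
      (Nat.card_congr (Subgroup.equivMapOfInjective _ _ K.subtype_injective).toEquiv).symm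
  have hle : O.m * k ≤ Nat.card K := key ▸ Nat.mul_le_mul horb (h'.le.trans hstab)
  refine ⟨Nat.mul_pos hO.pos h'.pos, hle, fun hK y hy hP => ?_⟩
  have hst : Nat.card (MulAction.stabilizer K x') ≤ k := by
    refine Nat.le_of_mul_le_mul_left ?_ hO.pos
    exact ((Nat.mul_le_mul_right _ horb).trans_eq key).trans hK
  have heq : val g ws' = (MulAction.stabilizer K x').map K.subtype := by
    refine SetLike.coe_injective (Set.eq_of_subset_of_ncard_le hsub ?_)
    rw [← Nat.card_coe_set_eq, ← Nat.card_coe_set_eq]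
    refine le_trans ?_ (h'.le)
    exact (Nat.card_congr (Subgroup.equivMapOfInjective _ _ K.subtype_injective).toEquiv).symm.trans_le hst
  refine h'.fix (hstab.trans hst) y ?_ hP.2
  rw [heq]
  exact ⟨⟨y, hy⟩, hP.1, rfl⟩

/-- The bound when the order is known to be no larger. -/
theorem Lev.card_eq {ws : List (List ℕ)} {k : ℕ} {P : G → Prop} (h : Lev g ws k P)
    (hle : Nat.card (val g ws) ≤ k) : Nat.card (val g ws) = k := le_antisymm hle h.le

end

end Cfsg.Agent.Spor.Cos
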