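import Cfsg.Agent.Lib.Spor.Cos.Tree

/-!
Search trees for lookups in the kernel, the keys left untouched on the way down.
-/

set_option autoImplicit false

namespace Cfsg.Agent.Spor.Cos

/-- Trees with numbers at the leaves and thresholds at the nodes. -/
inductive Bst where
  | leaf (E : ℕ)
  | node (m : ℕ) (l r : Bst)

/-- The leaf of a key. -/
noncomputable def Bst.get (t : Bst) : ℕ → ℕ :=
  Bst.rec (motive := fun _ => ℕ → ℕ) (fun E _ => E)
    (fun m _ _ fl fr k => Bool.rec (fr k) (fl k) (Nat.blt k m)) t

/-- A table of fields of `w` bits, `2 ^ c` of them in each leaf. -/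
structure Tab where
  /-- the tree -/
  tree : Bst
  /-- bits of a field -/
  w : ℕ
  /-- logarithm of the fields in a leaf -/
  c : ℕ

/-- The field at index `k`. -/
noncomputable def Tab.at (T : Tab) (k : ℕ) : ℕ :=
  force (k >>> T.c) fun j => (T.tree.get j >>> (T.w * (k % 2 ^ T.c))) % 2 ^ T.w

end Cfsg.Agent.Spor.Cos
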