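import Cfsg.Agent.Lib.Spor.Cos.CentCert

/-!
Bounds of centralisers from suborbits along cycles, and subgroups listed in order of keys.
-/

set_option autoImplicit false

namespace Cfsg.Agent.Spor.Cos

/-- The word carrying the base point to a point. -/
noncomputable def trWord (O : Orb) (ws : List (List ℕ)) (fuel a : ℕ) : List ℕ :=
  O.tword ws fuel (O.pos.at a)

/-- The suborbit of a second point seen from a first. -/
noncomputable def relId (A : Act) (O : Orb) (ws : List (List ℕ)) (fuel : ℕ) (T : Tab) (a b : ℕ) : ℕ :=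
  T.at (A.go (trWord O ws fuel a).reverse b)

/-- The transporter of a point works. -/
noncomputable def chkTr (A : Act) (O : Orb) (ws : List (List ℕ)) (fuel x a : ℕ) : Bool :=
  (fun w : List ℕ => (w.all fun s => Nat.blt s A.n) && Nat.beq (A.go w x) a) (trWord O ws fuel a)

/-- The suborbit numbers are invariant. -/
noncomputable def chkSub (A : Act) (T : Tab) (H : List (List ℕ)) (p : ℕ) : Bool :=
  H.all fun w => Nat.beq (T.at (A.go w p)) (T.at p)

/-- A point whose cycle is related as that of the base point is listed. -/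
noncomputable def chkCycle (A : Act) (O : Orb) (ws : List (List ℕ)) (fuel : ℕ) (T : Tab) (u : List ℕ) (x D : ℕ)
    (L : List ℕ) (a : ℕ) : Bool :=
  !((List.range D).all fun d => (fun v : List ℕ =>
      Nat.beq (relId A O ws fuel T a (A.go v a)) (relId A O ws fuel T x (A.go v x)))
    (List.replicate (d + 1) u).flatten) || L.any (Nat.beq a)

section

variable {G : Type*} [Group G] [Finite G] {g : ℕ → G} {A : Act} {π : G →* Equiv.Perm (Fin A.N)}

theorem relId_invariant (hπ : A.Hom g π) (hinv : ∀ s < A.n, g s * g s = 1) {O : Orb} {ws : List (List ℕ)}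
    {fuel : ℕ} {T : Tab} {x : Fin A.N} {H : List (List ℕ)} (hH : val g H = stab π x)
    (hl : Act.lettersOk A.n H = true) (htr : ∀ a < A.N, chkTr A O ws fuel x a = true)
    (hT : ∀ p < A.N, chkSub A T H p = true) (c : G) (a b : Fin A.N) :
    relId A O ws fuel T (π c a : ℕ) (π c b : ℕ) = relId A O ws fuel T a b := by
  have tr : ∀ p : Fin A.N, (∀ s ∈ trWord O ws fuel p, s < A.n) ∧ π (ev g (trWord O ws fuel p)) x = p := fun p => by
    have := htr p p.2
    simp only [chkTr, Bool.and_eq_true, List.all_eq_true] at this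
    have hl' : ∀ s ∈ trWord O ws fuel p, s < A.n := fun s hs => Nat.le_of_ble_eq_true (this.1 s hs)
    exact ⟨hl', Fin.ext ((hπ.apply_ev _ hl' x).trans (Nat.eq_of_beq_eq_true this.2))⟩
  have rel : ∀ p q : Fin A.N, relId A O ws fuel T p q = T.at (π (ev g (trWord O ws fuel p))⁻¹ q : ℕ) := fun p q => by
    rw [relId, ← ev_reverse hinv _ (tr p).1,
      hπ.apply_ev _ (fun s hs => (tr p).1 s (List.mem_reverse.1 hs))]
  have inv : ∀ h ∈ val g H, ∀ p : Fin A.N, T.at (π h p : ℕ) = T.at p := by
    intro h hh
    induction hh using Subgroup.closure_induction with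
    | mem y hy =>
      obtain ⟨w, hw, rfl⟩ := hy
      intro p
      rw [hπ.apply_ev w (Act.lt_of_lettersOk hl hw)]
      exact Nat.eq_of_beq_eq_true (List.all_eq_true.1 (hT p p.2) w hw)
    | one => intro p; simp
    | mul a b _ _ ha hb => intro p; rw [map_mul, Equiv.Perm.mul_apply, ha, hb]
    | inv a _ ha =>
      intro p
      have := ha (π a⁻¹ p)
      rw [← Equiv.Perm.mul_apply, ← map_mul, mul_inv_cancel, map_one, Equiv.Perm.one_apply] at this
      exact this.symm
  rw [rel, rel]
  set ta := ev g (trWord O ws fuel (a : ℕ))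
  set tc := ev g (trWord O ws fuel (π c a : ℕ))
  have hm : tc⁻¹ * c * ta ∈ val g H := by
    rw [hH, mem_stab, map_mul, map_mul, Equiv.Perm.mul_apply, Equiv.Perm.mul_apply, (tr a).2, map_inv,
      Equiv.Perm.inv_eq_iff_eq, (tr (π c a)).2]
  rw [← inv _ hm (π ta⁻¹ b)]
  simp only [map_mul, map_inv, Equiv.Perm.mul_apply, Equiv.Perm.coe_inv, Equiv.apply_symm_apply, Equiv.symm_apply_apply]

theorem card_centralizer_le_cycle (hπ : A.Hom g π) (hinv : ∀ s < A.n, g s * g s = 1) {O : Orb} {ws : List (List ℕ)}
    {fuel : ℕ} {T : Tab} {x : Fin A.N} {H : List (List ℕ)} (hH : val g H = stab π x)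
    (hl : Act.lettersOk A.n H = true) (htr : ∀ a < A.N, chkTr A O ws fuel x a = true)
    (hT : ∀ p < A.N, chkSub A T H p = true) {u : List ℕ} (hu : Act.lettersOk A.n [u] = true) {D : ℕ} {L : List ℕ}
    (hcyc : ∀ a < A.N, chkCycle A O ws fuel T u x D L a = true)
    (hdet : ∀ y : G, (∀ d : ℕ, π y (π (ev g u ^ d) x) = π (ev g u ^ d) x) → y = 1) :
    Nat.card (Subgroup.centralizer ({ev g u} : Set G)) ≤ L.length := by
  classical
  have hul : ∀ s ∈ u, s < A.n := Act.lt_of_lettersOk hu (List.mem_singleton_self _)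
  have pw : ∀ d : ℕ, ∀ p : Fin A.N, A.go (List.replicate d u).flatten p = (π (ev g u ^ d) p : ℕ) := fun d p => by
    rw [← ev_power, hπ.apply_ev]
    intro s hs
    obtain ⟨l, hl', hsl⟩ := List.mem_flatten.1 hs
    exact hul s (List.eq_of_mem_replicate hl' ▸ hsl)
  let f : Subgroup.centralizer ({ev g u} : Set G) → Fin A.N := fun c => π c.1 x
  have comm : ∀ (c : Subgroup.centralizer ({ev g u} : Set G)) (d : ℕ),
      π c.1 (π (ev g u ^ d) x) = π (ev g u ^ d) (f c) := fun c d => by
    have h : Commute c.1 (ev g u ^ d) := (show Commute c.1 (ev g u) from Subgroup.mem_centralizer_singleton_iff.1 c.2).pow_right d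
    rw [← Equiv.Perm.mul_apply, ← map_mul, h.eq, map_mul, Equiv.Perm.mul_apply]
  have hf : Function.Injective f := by
    intro c c' e
    refine Subtype.ext (inv_mul_eq_one.1 (hdet _ fun d => ?_))
    rw [map_mul, map_inv, Equiv.Perm.mul_apply, Equiv.Perm.inv_eq_iff_eq, comm, comm, e]
  have hrange : ∀ c, (f c : ℕ) ∈ L := by
    intro c
    have := hcyc (f c) (f c).2
    rw [chkCycle, Bool.or_eq_true] at this
    rcases this with h | h
    · exfalso
      have hall : ((List.range D).all fun d => (fun v : List ℕ =>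
          Nat.beq (relId A O ws fuel T (f c) (A.go v (f c))) (relId A O ws fuel T x (A.go v x)))
          (List.replicate (d + 1) u).flatten) = true := List.all_eq_true.2 fun d _ => by
        show Nat.beq _ _ = true
        rw [pw, pw, ← comm, show relId A O ws fuel T (f c : ℕ) (π c.1 (π (ev g u ^ (d + 1)) x) : ℕ) =
          relId A O ws fuel T x (π (ev g u ^ (d + 1)) x : ℕ) from relId_invariant hπ hinv hH hl htr hT _ _ _]
        exact Nat.beq_refl _
      rw [hall] at h
      exact Bool.noConfusion h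
    · obtain ⟨b, hb, e⟩ := List.any_eq_true.1 h
      rw [Nat.eq_of_beq_eq_true e]
      exact hb
  calc Nat.card (Subgroup.centralizer ({ev g u} : Set G))
      ≤ Nat.card L.toFinset := Nat.card_le_card_of_injective (fun c => ⟨(f c : ℕ), List.mem_toFinset.2 (hrange c)⟩)
        fun a b e => hf (Fin.ext (congrArg Subtype.val e))
    _ ≤ L.length := by rw [Nat.card_eq_fintype_card, Fintype.card_coe]; exact List.toFinset_card_le L

/-- A list closed under some generators, sorted by keys. -/
noncomputable def chkClosedList (A : Act) (pts : List ℕ) (fuel : ℕ) (U K step : Tab) (G' : List (List ℕ))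
    (m i : ℕ) : Bool :=
  (fun w : List ℕ => force (K.at i) fun k => (w.all fun s => Nat.blt s A.n) && Nat.beq (imKey A w pts) k &&
    (Nat.ble m (i + 1) || Nat.blt k (K.at (i + 1))) &&
    (List.range G'.length).all fun t => force (step.at (t * m + i)) fun j => Nat.blt j m &&
      ((G'.getD t []).all fun s => Nat.blt s A.n) && ((decWord fuel (U.at j)).all fun s => Nat.blt s A.n) &&
      agree A pts (G'.getD t [] ++ w) (decWord fuel (U.at j))) (decWord fuel (U.at i))

theorem closedList (hπ : A.Hom g π) {pts : List ℕ} (hpts : ∀ p ∈ pts, p < A.N)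
    (hdet : ∀ y : G, (∀ q : Fin A.N, (q : ℕ) ∈ pts → π y q = q) → y = 1) {fuel : ℕ} {U K step : Tab}
    {G' : List (List ℕ)} {m i0 : ℕ} (h : ∀ i < m, chkClosedList A pts fuel U K step G' m i = true) (hi0 : i0 < m)
    (hone : ev g (decWord fuel (U.at i0)) = 1) :
    (∀ y ∈ val g G', ∃ i < m, ev g (decWord fuel (U.at i)) = y) ∧
      ((∀ i < m, ev g (decWord fuel (U.at i)) ∈ val g G') → Nat.card (val g G') = m) := by
  have hw : ∀ i < m, (∀ s ∈ decWord fuel (U.at i), s < A.n) ∧ imKey A (decWord fuel (U.at i)) pts = K.at i ∧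
      (i + 1 < m → K.at i < K.at (i + 1)) ∧ ∀ t < G'.length, ∃ j < m,
        ev g (G'.getD t []) * ev g (decWord fuel (U.at i)) = ev g (decWord fuel (U.at j)) := fun i hi => by
    have := h i hi
    simp only [chkClosedList, force_eq, Bool.and_eq_true, Bool.or_eq_true, List.all_eq_true, List.mem_range] at this
    obtain ⟨⟨⟨h1, h2⟩, h3⟩, h4⟩ := this
    refine ⟨fun s hs => Nat.le_of_ble_eq_true (h1 s hs), Nat.eq_of_beq_eq_true h2, fun hlt => ?_, fun t ht => ?_⟩
    · rcases h3 with h3 | h3
      · exact absurd (Nat.le_of_ble_eq_true h3) (by omega)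
      · exact Nat.le_of_ble_eq_true h3
    · obtain ⟨⟨⟨hj, ha⟩, hb⟩, hag⟩ := h4 t ht
      refine ⟨_, Nat.le_of_ble_eq_true hj, ?_⟩
      rw [← ev_append]
      refine ev_eq_of_agree hπ hdet ?_ ?_ hag
      · simp only [Act.lettersOk, List.all_cons, List.all_nil, Bool.and_true, List.all_append, Bool.and_eq_true,
          List.all_eq_true]
        exact ⟨ha, h1⟩
      · simp only [Act.lettersOk, List.all_cons, List.all_nil, Bool.and_true, List.all_eq_true]
        exact hb
  have mem : ∀ y ∈ val g G', ∃ i < m, ev g (decWord fuel (U.at i)) = y := by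
    suffices key : ∀ y ∈ val g G', ∀ i < m, ∃ j < m,
        y * ev g (decWord fuel (U.at i)) = ev g (decWord fuel (U.at j)) from fun y hy => by
      obtain ⟨j, hj, e⟩ := key y hy i0 hi0
      exact ⟨j, hj, by rw [← e, hone, mul_one]⟩
    intro y hy
    replace hy : y ∈ Subgroup.closure {x | ∃ w ∈ G', ev g w = x} := hy
    rw [← Subgroup.mem_toSubmonoid, Subgroup.closure_toSubmonoid_of_finite] at hy
    induction hy using Submonoid.closure_induction with
    | mem y hy =>
      obtain ⟨w, hw', rfl⟩ := hy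
      obtain ⟨t, ht, rfl⟩ := List.mem_iff_getElem.1 hw'
      intro i hi
      have := (hw i hi).2.2.2 t ht
      rwa [List.getD_eq_getElem _ _ ht] at this
    | one => intro i hi; exact ⟨i, hi, one_mul _⟩
    | mul a b _ _ ha hb =>
      intro i hi
      obtain ⟨j, hj, e⟩ := hb i hi
      obtain ⟨k, hk, e'⟩ := ha j hj
      exact ⟨k, hk, by rw [mul_assoc, e, e']⟩
  refine ⟨mem, fun hin => ?_⟩
  have mono : ∀ j, j < m → ∀ i < j, K.at i < K.at j := by
    intro j
    induction j with
    | zero => intro _ i hi; omega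
    | succ j ih =>
      intro hj i hi
      have hstep := (hw j (by omega)).2.2.1 hj
      rcases Nat.lt_or_ge i j with h' | h'
      · exact (ih (by omega) i h').trans hstep
      · rwa [show i = j by omega]
  let f : Fin m → val g G' := fun i => ⟨_, hin i i.2⟩
  have hf : Function.Bijective f := by
    refine ⟨fun i j e => ?_, fun y => ?_⟩
    · have e' : ev g (decWord fuel (U.at i)) = ev g (decWord fuel (U.at j)) := congrArg Subtype.val e
      have hk : K.at i = K.at j := by
        rw [← (hw i i.2).2.1, ← (hw j j.2).2.1]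
        refine imKey_congr fun p hp => ?_
        have := congrArg (fun y : G => (π y ⟨p, hpts p hp⟩ : ℕ)) e'
        simpa only [hπ.apply_ev _ (hw i i.2).1, hπ.apply_ev _ (hw j j.2).1] using this
      rcases Nat.lt_trichotomy i j with h' | h' | h'
      · exact absurd hk (mono j j.2 i h').ne
      · exact Fin.ext h'
      · exact absurd hk (mono i i.2 j h').ne'
    · obtain ⟨i, hi, e⟩ := mem y.1 y.2
      exact ⟨⟨i, hi⟩, Subtype.ext e⟩
  rw [← Nat.card_eq_of_bijective f hf, Nat.card_fin]

end

end Cfsg.Agent.Spor.Cos
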