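import Cfsg.Agent.Lib.Spor.Cos.OutTree
import Cfsg.Agent.Lib.Spor.Cos.SubInv

/-!
A central involution of a Sylow 2-subgroup: its class is fixed by automorphisms, and the conjugates commuting with it
are found from a list of the Sylow subgroup.
-/

set_option autoImplicit false

namespace Cfsg.Agent.Spor.Cos.Central

open Triple

/-- Letters packed four bits each. -/
noncomputable def decNibbles (fuel E : ℕ) : List ℕ :=
  Nat.rec (motive := fun _ => ℕ → List ℕ) (fun _ => [])
    (fun _ r E => bif Nat.beq E 0 then [] else (E % 16 - 1) :: r (E >>> 4)) fuel E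

/-- A listed subgroup: generators, words, keys, products, paths and the index of the identity. -/
structure ListData where
  /-- the generators -/
  gens : List (List ℕ)
  /-- the words -/
  U : Tab
  /-- the keys -/
  K : Tab
  /-- the products with generators -/
  step : Tab
  /-- the paths -/
  path : Tab
  /-- the order -/
  m : ℕ
  /-- the identity -/
  one : ℕ
  /-- a bound of the lengths of the words -/
  fuel : ℕ

/-- The word of an element. -/
noncomputable def ListData.word (D : ListData) (i : ℕ) : List ℕ := decWord D.fuel (D.U.at i)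

/-- An element of a list is a product of generators and closed. -/
noncomputable def chkList (A : Act) (pts : List ℕ) (D : ListData) (i : ℕ) : Bool :=
  chkClosedList A pts D.fuel D.U D.K D.step D.gens D.m i &&
    (fun L : List ℕ => (L.all fun t => Nat.blt t D.gens.length) &&
      sameW A pts (D.word i) (L.map fun t => D.gens.getD t []).flatten) (decNibbles 64 (D.path.at i))

/-- An element is the identity, the first generator of the group, or not central. -/
noncomputable def chkCentral (A : Act) (pts : List ℕ) (D : ListData) (i : ℕ) : Bool :=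
  (fun w : List ℕ => Nat.beq i D.one || sameW A pts w [0] ||
    D.gens.any fun v => (w.all fun s => Nat.blt s A.n) && (v.all fun s => Nat.blt s A.n) &&
      !(agree A pts (w ++ v) (v ++ w))) (D.word i)

/-- An involution is listed or conjugate to the given one. -/
noncomputable def chkInvol (A : Act) (pts : List ℕ) (D : ListData) (inv : List (List ℕ)) (idx conj : Tab)
    (fuel : ℕ) (tw : List ℕ) (i : ℕ) : Bool :=
  (fun w : List ℕ => ((w.all fun s => Nat.blt s A.n) && !(agree A pts (w ++ w) [])) || Nat.beq i D.one ||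
    (force (idx.at i) fun j => Nat.blt j inv.length && sameW A pts w (inv.getD j [])) ||
    (fun c : List ℕ => sameW A pts (c ++ (tw ++ c.reverse)) w) (decWord fuel (conj.at i))) (D.word i)

section

variable {G : Type*} [Group G] [Finite G] {g : ℕ → G} {A : Act} {π : G →* Equiv.Perm (Fin A.N)} {pts : List ℕ}

theorem listed (hπ : A.Hom g π) (hpts : ∀ p ∈ pts, p < A.N)
    (hdet : ∀ y : G, (∀ q : Fin A.N, (q : ℕ) ∈ pts → π y q = q) → y = 1) {D : ListData}
    (h : ∀ i < D.m, chkList A pts D i = true) (h0 : D.one < D.m) (hone : sameW A pts (D.word D.one) [] = true) :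
    (∀ y ∈ val g D.gens, ∃ i < D.m, ev g (D.word i) = y) ∧ Nat.card (val g D.gens) = D.m := by
  have hh : ∀ i < D.m, chkClosedList A pts D.fuel D.U D.K D.step D.gens D.m i = true := fun i hi => by
    have := h i hi
    rw [chkList, Bool.and_eq_true] at this
    exact this.1
  obtain ⟨mem, hcard⟩ := closedList hπ hpts hdet hh h0 (eq_of_sameW hπ hdet (w := []) hone)
  refine ⟨mem, hcard fun i hi => ?_⟩
  have hp := h i hi
  simp only [chkList, Bool.and_eq_true, List.all_eq_true] at hp
  show ev g (D.word i) ∈ _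
  rw [eq_of_sameW hπ hdet hp.2.2, ev_flatten, List.map_map]
  refine list_prod_mem fun y hy => ?_
  obtain ⟨k, hk, rfl⟩ := List.mem_map.1 hy
  have hk' : k < D.gens.length := Nat.le_of_ble_eq_true (hp.2.1 k hk)
  exact mem_val (w := D.gens.getD k []) (by rw [List.getD_eq_getElem _ _ hk']; exact List.getElem_mem _)

theorem ne_of_agree (hπ : A.Hom g π) (hpts : ∀ p ∈ pts, p < A.N) {v w : List ℕ} (hv : ∀ s ∈ v, s < A.n)
    (hw : ∀ s ∈ w, s < A.n) (h : agree A pts v w = false) : ev g v ≠ ev g w := fun e => by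
  have := agree_of_eq (g := g) hπ hpts hv hw e
  rw [this] at h
  exact Bool.noConfusion h

/-- An automorphism sends an involution central in a Sylow subgroup to a conjugate, if no other is central. -/
theorem cls_core {S0 : Subgroup G} (hm : Nat.card S0 = 2 ^ (Nat.card G).factorization 2)
    (hzc : ∀ u ∈ S0, g 0 * u = u * g 0) (hcen : ∀ y ∈ S0, y ≠ 1 → (∀ u ∈ S0, y * u = u * y) → y = g 0)
    (hz2 : g 0 * g 0 = 1) (hz1 : g 0 ≠ 1) (φ : MulAut G) : IsConj (g 0) (φ (g 0)) := by
  have : Fact (Nat.Prime 2) := ⟨Nat.prime_two⟩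
  let S : Sylow 2 G := Sylow.ofCard S0 hm
  let T : Sylow 2 G := φ • S
  obtain ⟨c, hcT⟩ := MulAction.exists_smul_eq G T S
  set y := c * φ (g 0) * c⁻¹ with hy
  have hyc : ∀ u ∈ S0, y * u = u * y := by
    intro u hu
    have : u ∈ (c • T : Sylow 2 G) := hcT ▸ hu
    obtain ⟨v, ⟨v', hv', rfl⟩, rfl⟩ := this
    show y * (c * φ v' * c⁻¹) = c * φ v' * c⁻¹ * y
    have e : φ (g 0) * φ v' = φ v' * φ (g 0) := by rw [← map_mul, ← map_mul, hzc _ hv']
    calc y * (c * φ v' * c⁻¹) = c * (φ (g 0) * φ v') * c⁻¹ := by rw [hy]; group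
      _ = _ := by rw [e, hy]; group
  have hy2 : y * y = 1 := by
    rw [hy, show c * φ (g 0) * c⁻¹ * (c * φ (g 0) * c⁻¹) = c * (φ (g 0) * φ (g 0)) * c⁻¹ by group, ← map_mul, hz2,
      map_one]
    group
  have hy1 : y ≠ 1 := fun e => hz1 (φ.injective (by
    rw [map_one, show φ (g 0) = c⁻¹ * y * c by rw [hy]; group, e]; group))
  have hmem : y ∈ S0 := by
    have hpy : IsPGroup 2 (Subgroup.zpowers y) := IsPGroup.of_card (n := 1)
      (by rw [Nat.card_zpowers, orderOf_eq_prime (by rw [sq, hy2]) hy1, pow_one])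
    have hle : Subgroup.zpowers y ≤ Subgroup.normalizer (S0 : Set G) := by
      rw [Subgroup.zpowers_le, Subgroup.mem_normalizer_iff]
      intro u
      constructor
      · intro hu
        rwa [hyc u hu, mul_inv_cancel_right]
      · intro hu
        have e := hyc _ hu
        have : y * u * y⁻¹ = u := by
          calc y * u * y⁻¹ = y⁻¹ * (y * (y * u * y⁻¹)) := by group
            _ = y⁻¹ * ((y * u * y⁻¹) * y) := by rw [e]
            _ = u := by group
        rwa [this] at hu
    have hsup := hpy.to_sup_of_normal_right' S.isPGroup' hle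
    have := S.is_maximal' hsup le_sup_right
    have hin : y ∈ (S : Subgroup G) := this ▸ (Subgroup.mem_sup_left (Subgroup.mem_zpowers y) :
      y ∈ Subgroup.zpowers y ⊔ (S : Subgroup G))
    exact hin
  have e' := hcen y hmem hy1 hyc
  refine isConj_iff.2 ⟨c⁻¹, ?_⟩
  calc c⁻¹ * g 0 * c⁻¹⁻¹ = c⁻¹ * y * c := by rw [← e', inv_inv]
    _ = φ (g 0) := by rw [hy]; group

/-- The conjugates of an involution commuting with it are listed, if those of a Sylow subgroup of the centraliser are. -/
theorem invol_core {C S0 : Subgroup G} (hC : C = Subgroup.centralizer ({g 0} : Set G)) (hle : S0 ≤ C)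
    (hm : Nat.card S0 = 2 ^ (Nat.card C).factorization 2) {inv : List (List ℕ)}
    (hlist : ∀ y ∈ S0, IsConj (g 0) y → y * y = 1 → y ≠ 1 → ∃ j < inv.length, y = ev g (inv.getD j []))
    (hclosed : ∀ c ∈ C, ∀ j < inv.length, ∃ k < inv.length, c * ev g (inv.getD j []) * c⁻¹ = ev g (inv.getD k []))
    (x : G) (hxz : IsConj (g 0) x) (hx : x * x = 1) (hne : x ≠ 1) (hcx : x * g 0 = g 0 * x) :
    ∃ j < inv.length, x = ev g (inv.getD j []) := by
  have : Fact (Nat.Prime 2) := ⟨Nat.prime_two⟩
  let S : Sylow 2 C := Sylow.ofCard (S0.subgroupOf C)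
    (by rw [Nat.card_congr (Subgroup.subgroupOfEquivOfLe hle).toEquiv, hm])
  let xC : C := ⟨x, hC ▸ Subgroup.mem_centralizer_singleton_iff.2 hcx⟩
  have hx2 : orderOf xC = 2 :=
    orderOf_eq_prime (by rw [sq]; exact Subtype.ext hx) fun e => hne (congrArg Subtype.val e)
  obtain ⟨R, hR⟩ := (IsPGroup.of_card (n := 1) (by rw [Nat.card_zpowers, hx2, pow_one]) :
    IsPGroup 2 (Subgroup.zpowers xC)).exists_le_sylow
  obtain ⟨c, hc⟩ := MulAction.exists_smul_eq C R S
  have hm' : (c : G) * x * (c : G)⁻¹ ∈ S0 := by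
    have : MulAut.conj c xC ∈ (c • R : Sylow 2 C) := ⟨xC, hR (Subgroup.mem_zpowers xC), rfl⟩
    rw [hc] at this
    exact this
  obtain ⟨j, hj, e⟩ := hlist _ hm' (hxz.trans (isConj_iff.2 ⟨(c : G), rfl⟩))
    (by rw [show (c : G) * x * (c : G)⁻¹ * (c * x * (c : G)⁻¹) = c * (x * x) * (c : G)⁻¹ by group, hx]; group)
    (fun e1 => hne (by rw [show x = (c : G)⁻¹ * (c * x * (c : G)⁻¹) * c by group, e1]; group))
  obtain ⟨k, hk, e'⟩ := hclosed _ (inv_mem c.2) j hj
  exact ⟨k, hk, by rw [← e', ← e]; group⟩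

/-- An automorphism sends an involution central in a Sylow subgroup to a conjugate. -/
theorem cls (hπ : A.Hom g π) (hpts : ∀ p ∈ pts, p < A.N)
    (hdet : ∀ y : G, (∀ q : Fin A.N, (q : ℕ) ∈ pts → π y q = q) → y = 1)
    {D : ListData} (h : ∀ i < D.m, chkList A pts D i = true) (h0 : D.one < D.m)
    (hone : sameW A pts (D.word D.one) [] = true) (hc : ∀ i < D.m, chkCentral A pts D i = true)
    (hm : D.m = 2 ^ (Nat.card G).factorization 2) (hz : (D.gens.all fun w => sameW A pts (w ++ [0]) ([0] ++ w)) = true)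
    (hz2 : g 0 * g 0 = 1) (hz1 : g 0 ≠ 1) (φ : MulAut G) : IsConj (g 0) (φ (g 0)) := by
  obtain ⟨mem, hcard⟩ := listed hπ hpts hdet h h0 hone
  have hzc : ∀ u ∈ val g D.gens, g 0 * u = u * g 0 := by
    intro u hu
    have hle : val g D.gens ≤ Subgroup.centralizer ({g 0} : Set G) := by
      refine (Subgroup.closure_le _).2 ?_
      rintro _ ⟨w, hw, rfl⟩
      have e := eq_of_sameW (g := g) hπ hdet (List.all_eq_true.1 hz w hw)
      rw [ev_append, ev_append, show ev g [0] = g 0 by simp [ev]] at e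
      exact Subgroup.mem_centralizer_singleton_iff.2 e
    exact (Subgroup.mem_centralizer_singleton_iff.1 (hle hu)).symm
  refine cls_core (hcard.trans hm) hzc (fun y hmem hy1 hyc => ?_) hz2 hz1 φ
  obtain ⟨i, hi, e⟩ := mem y hmem
  have hh := hc i hi
  simp only [chkCentral, Bool.or_eq_true, List.any_eq_true, Bool.and_eq_true, Bool.not_eq_true', List.all_eq_true] at hh
  rcases hh with (hh | hh) | ⟨v, hv, ⟨hwl, hvl⟩, hh⟩
  · exfalso
    rw [Nat.eq_of_beq_eq_true hh] at e
    exact hy1 (e.symm.trans (eq_of_sameW hπ hdet (w := []) hone))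
  · have e' := (eq_of_sameW hπ hdet hh).symm.trans e
    rw [show ev g [0] = g 0 by simp [ev]] at e'
    exact e'.symm
  · exfalso
    have hwl' : ∀ s ∈ D.word i, s < A.n := fun s hs => Nat.le_of_ble_eq_true (hwl s hs)
    have hvl' : ∀ s ∈ v, s < A.n := fun s hs => Nat.le_of_ble_eq_true (hvl s hs)
    refine ne_of_agree hπ hpts (fun s hs => (List.mem_append.1 hs).elim (hwl' s) (hvl' s))
      (fun s hs => (List.mem_append.1 hs).elim (hvl' s) (hwl' s)) hh ?_
    rw [ev_append, ev_append, e]
    exact hyc _ (mem_val hv)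

/-- The conjugates of the first generator commuting with it are listed. -/
theorem invol (hπ : A.Hom g π) (hpts : ∀ p ∈ pts, p < A.N)
    (hdet : ∀ y : G, (∀ q : Fin A.N, (q : ℕ) ∈ pts → π y q = q) → y = 1) (hsq : ∀ s, g s * g s = 1)
    {D : ListData} (h : ∀ i < D.m, chkList A pts D i = true) (h0 : D.one < D.m)
    (hone : sameW A pts (D.word D.one) [] = true)
    {C : Subgroup G} (hC : C = Subgroup.centralizer ({g 0} : Set G))
    (hle : val g D.gens ≤ C) (hm : D.m = 2 ^ (Nat.card C).factorization 2)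
    {inv : List (List ℕ)} {idx conj : Tab} {fuel : ℕ} {tw : List ℕ}
    (hi : ∀ i < D.m, chkInvol A pts D inv idx conj fuel tw i = true) (htw : ¬ IsConj (g 0) (ev g tw))
    (hclosed : ∀ c ∈ C, ∀ j < inv.length, ∃ k < inv.length, c * ev g (inv.getD j []) * c⁻¹ = ev g (inv.getD k []))
    (x : G) (hxz : IsConj (g 0) x) (hx : x * x = 1) (hne : x ≠ 1) (hcx : x * g 0 = g 0 * x) :
    ∃ j < inv.length, x = ev g (inv.getD j []) := by
  obtain ⟨mem, hcard⟩ := listed hπ hpts hdet h h0 hone
  refine invol_core hC hle (hcard.trans hm) (fun y hy hzy hy2 hy1 => ?_) hclosed x hxz hx hne hcx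
  obtain ⟨i, hil, e⟩ := mem y hy
  have hh := hi i hil
  simp only [chkInvol, force_eq, Bool.or_eq_true, Bool.and_eq_true, Bool.not_eq_true', List.all_eq_true] at hh
  rcases hh with ((⟨hl, hh⟩ | hh) | hh) | hh
  · refine absurd ?_ (ne_of_agree hπ hpts (fun s hs => Nat.le_of_ble_eq_true
      (hl s ((List.mem_append.1 hs).elim id id))) (by simp) hh)
    rw [ev_append, e]
    exact hy2
  · refine absurd ?_ hy1
    rw [← e, Nat.eq_of_beq_eq_true hh]
    exact eq_of_sameW hπ hdet (w := []) hone
  · exact ⟨_, Nat.le_of_ble_eq_true hh.1, e.symm.trans (eq_of_sameW hπ hdet hh.2)⟩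
  · exfalso
    have hl : ∀ s ∈ decWord fuel (conj.at i), s < A.n := fun s hs => by
      simp only [sameW, Bool.and_eq_true, List.all_append, List.all_eq_true] at hh
      exact Nat.le_of_ble_eq_true (hh.1.1.1 s hs)
    have e' := eq_of_sameW (g := g) hπ hdet hh
    rw [ev_append, ev_append, ev_reverse (fun s _ => hsq s) _ hl, ← mul_assoc, e] at e'
    exact htw (hzy.trans (isConj_iff.2 ⟨_, e'⟩ : IsConj (ev g tw) y).symm)

end

end Cfsg.Agent.Spor.Cos.Central
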