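import Cfsg.Agent.Lib.Spor.Cos.OutTriple

/-!
An upper bound of the order of a 2-group from a series of generators, each normalising the group of the later ones
with square in it.
-/

set_option autoImplicit false

namespace Cfsg.Agent.Spor.Cos

open Triple

/-- The check of a generator against the later ones, with the words of the products. -/
noncomputable def chkPc (A : Act) (pts : List ℕ) (W : List (List ℕ)) (E : List (List (List ℕ))) (k : ℕ) : Bool :=
  (fun (a : List ℕ) (R : List (List ℕ)) (e : List (List ℕ)) =>
    (e.all fun l => l.all fun t => Nat.blt t R.length) &&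
    sameW A pts (a ++ a) (subW R (e.getD 0 [])) &&
    (List.range R.length).all fun j => (R.getD j []).all (fun s => Nat.blt s A.n) &&
      sameW A pts (a ++ (R.getD j [] ++ a.reverse)) (subW R (e.getD (j + 1) [])))
    (W.getD k []) (W.drop (k + 1)) (E.getD k [])

theorem card_val_le_pc {G : Type*} [Group G] [Finite G] {g : ℕ → G} {A : Act} {π : G →* Equiv.Perm (Fin A.N)}
    (hπ : A.Hom g π) (hsq : ∀ s, g s * g s = 1) {pts : List ℕ}
    (hdet : ∀ y : G, (∀ q : Fin A.N, (q : ℕ) ∈ pts → π y q = q) → y = 1) {W : List (List ℕ)}
    {E : List (List (List ℕ))} (h : ∀ k < W.length, chkPc A pts W E k = true) :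
    Nat.card (val g W) ≤ 2 ^ W.length := by
  suffices key : ∀ n k, k + n = W.length → Nat.card (val g (W.drop k)) ≤ 2 ^ n by
    simpa using key W.length 0 (Nat.zero_add _)
  intro n
  induction n with
  | zero =>
    intro k hk
    rw [List.drop_eq_nil_iff.2 (by omega), val_nil, Subgroup.card_bot, pow_zero]
  | succ n ih =>
    intro k hk
    set R := W.drop (k + 1) with hR
    set P := val g R
    set a := ev g (W.getD k []) with ha
    have hdrop : W.drop k = W.getD k [] :: R := by
      rw [List.drop_eq_getElem_cons (by omega), List.getD_eq_getElem _ _ (by omega)]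
    have hh := h k (by omega)
    simp only [chkPc, Bool.and_eq_true, List.all_eq_true, List.mem_range] at hh
    obtain ⟨⟨hE, hsq'⟩, hconj⟩ := hh
    have hsub : ∀ j, ev g (subW R ((E.getD k []).getD j [])) ∈ P := by
      intro j
      rw [ev_subW]
      refine ev_mem _ fun t ht => ?_
      rcases Nat.lt_or_ge t R.length with hlt | hge
      · refine mem_val ?_
        rw [List.getD_eq_getElem _ _ hlt]
        exact List.getElem_mem _
      · rw [List.getD_eq_default _ _ hge]
        exact one_mem _
    have hal : ∀ s ∈ W.getD k [], s < A.n := fun s hs => by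
      have := hsq'
      simp only [sameW, Bool.and_eq_true, List.all_append, List.all_eq_true] at this
      exact Nat.le_of_ble_eq_true (this.1.1.1 s hs)
    have haa : a * a ∈ P := by
      rw [ha, ← ev_append, eq_of_sameW hπ hdet hsq']
      exact hsub 0
    have hnorm : ∀ p ∈ P, a * p * a⁻¹ ∈ P := by
      intro p hp
      refine (show P ≤ P.comap (MulAut.conj a).toMonoidHom from (Subgroup.closure_le _).2 ?_) hp
      rintro _ ⟨w, hw, rfl⟩
      obtain ⟨j, hj, rfl⟩ := List.mem_iff_getElem.1 hw
      have e := eq_of_sameW (g := g) hπ hdet (hconj j hj).2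
      rw [ev_append, ev_append, ev_reverse (fun s _ => hsq s) _ hal, ← mul_assoc, List.getD_eq_getElem _ _ hj] at e
      show a * ev g R[j] * a⁻¹ ∈ P
      rw [e]
      exact hsub (j + 1)
    have key : ∀ y ∈ val g (W.drop k), y ∈ P ∨ a⁻¹ * y ∈ P := by
      intro y hy
      rw [hdrop] at hy
      replace hy : y ∈ Subgroup.closure {x | ∃ w ∈ W.getD k [] :: R, ev g w = x} := hy
      rw [← Subgroup.mem_toSubmonoid, Subgroup.closure_toSubmonoid_of_finite] at hy
      induction hy using Submonoid.closure_induction with
      | mem x hx =>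
        obtain ⟨w, hw, rfl⟩ := hx
        rcases List.mem_cons.1 hw with rfl | hw
        · exact Or.inr (by rw [← ha, inv_mul_cancel]; exact one_mem _)
        · exact Or.inl (mem_val hw)
      | one => exact Or.inl (one_mem _)
      | mul x y _ _ hx hy =>
        have hn : ∀ p ∈ P, a⁻¹ * p * a ∈ P := fun p hp => by
          have e : a⁻¹ * p * a = (a * a)⁻¹ * (a * p * a⁻¹) * (a * a) := by group
          rw [e]
          exact mul_mem (mul_mem (inv_mem haa) (hnorm p hp)) haa
        rcases hx with hx | hx <;> rcases hy with hy | hy
        · exact Or.inl (mul_mem hx hy)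
        · refine Or.inr ?_
          rw [show a⁻¹ * (x * y) = a⁻¹ * x * a * (a⁻¹ * y) by group]
          exact mul_mem (hn x hx) hy
        · exact Or.inr (by rw [← mul_assoc]; exact mul_mem hx hy)
        · refine Or.inl ?_
          rw [show x * y = a * (a⁻¹ * x) * a⁻¹ * (a * a) * (a⁻¹ * y) by group]
          exact mul_mem (mul_mem (hnorm _ hx) haa) hy
    classical
    let f : val g (W.drop k) → Bool × P := fun y =>
      if hy : (y : G) ∈ P then (false, ⟨y, hy⟩) else (true, ⟨a⁻¹ * y, (key y y.2).resolve_left hy⟩)
    have hf : Function.Injective f := by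
      intro x y e
      by_cases hx : (x : G) ∈ P <;> by_cases hy : (y : G) ∈ P <;>
        simp only [f, dif_pos, dif_neg, hx, hy, not_false_eq_true, Prod.mk.injEq, Subtype.mk.injEq, mul_right_inj,
          true_and, false_and, reduceCtorEq] at e
      all_goals exact Subtype.ext e
    have h2 := Nat.card_le_card_of_injective f hf
    rw [Nat.card_prod, Nat.card_eq_fintype_card (α := Bool), Fintype.card_bool] at h2
    rw [pow_succ']
    exact h2.trans (Nat.mul_le_mul_left _ (ih (k + 1) (by omega)))

end Cfsg.Agent.Spor.Cos
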