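import Cfsg.Agent.Lib.Spor.Cos.PairLog
import Cfsg.Agent.Lib.Spor.Cos.Bound

/-!
Derived words and chain steps for letters in pairs of inverse elements.
-/

set_option autoImplicit false

namespace Cfsg.Agent.Spor.Cos

variable {G : Type*} [Group G]

/-- Letters `2 * k` and `2 * k + 1` are inverse to each other. -/
def Paired (g : ℕ → G) : Prop := ∀ s, g (s ^^^ 1) = (g s)⁻¹

/-- The inverse word. -/
def invWord (w : List ℕ) : List ℕ := (w.map fun s => Nat.xor s 1).reverse

theorem ev_invWord {g : ℕ → G} (hg : Paired g) : ∀ w : List ℕ, ev g (invWord w) = (ev g w)⁻¹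
  | [] => by simp [invWord, ev]
  | s :: w => by
    rw [invWord, List.map_cons, List.reverse_cons, ev_append, ← invWord, ev_invWord hg w]
    simp [ev, hg s]

/-- Trivial words from some base words: empty, a letter and its inverse, or rotations of a base word or its inverse. -/
def derivedP (base : List (List ℕ)) (w : List ℕ) : Bool :=
  w.isEmpty || (match w with | [s, t] => Nat.beq t (Nat.xor s 1) | _ => false) ||
    base.any fun r => (List.range (w.length + 1)).any fun k =>
      w.drop k ++ w.take k == r || w.drop k ++ w.take k == invWord r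

theorem ev_derivedP {g : ℕ → G} (hg : Paired g) {base : List (List ℕ)} (hb : ∀ r ∈ base, ev g r = 1)
    {w : List ℕ} (h : derivedP base w = true) : ev g w = 1 := by
  simp only [derivedP, Bool.or_eq_true, List.isEmpty_iff, List.any_eq_true, List.mem_range, beq_iff_eq] at h
  rcases h with (rfl | h) | ⟨r, hr, k, -, e | e⟩
  · rfl
  · rcases w with _ | ⟨s, _ | ⟨t, _ | ⟨u, w⟩⟩⟩
    · exact absurd h Bool.false_ne_true
    · exact absurd h Bool.false_ne_true
    · obtain rfl : t = Nat.xor s 1 := Nat.eq_of_beq_eq_true h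
      simp [ev, hg s]
    · exact absurd h Bool.false_ne_true
  · exact ev_rotate g w k (e ▸ hb r hr)
  · exact ev_rotate g w k (by rw [e, ev_invWord hg, hb r hr, inv_one])

/-- Letters standing for some words and their inverses. -/
def fromWords (g : ℕ → G) (L : List (List ℕ)) (s : ℕ) : G :=
  bif Nat.beq (s % 2) 0 then ev g (L.getD (s / 2) []) else (ev g (L.getD (s / 2) []))⁻¹

theorem fromWords_paired (g : ℕ → G) (L : List (List ℕ)) : Paired (fromWords g L) := by
  intro s
  rcases Nat.mod_two_eq_zero_or_one s with h | h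
  · rw [Nat.xor_one_of_even (Nat.even_iff.2 h)]
    simp [fromWords, h, show (s + 1) % 2 = 1 by omega, show (s + 1) / 2 = s / 2 by omega, show Nat.beq 1 0 = false from rfl]
  · rw [Nat.xor_one_of_odd (Nat.odd_iff.2 h)]
    simp [fromWords, h, show (s - 1) % 2 = 0 by omega, show (s - 1) / 2 = s / 2 by omega, show Nat.beq 1 0 = false from rfl]

theorem fromWords_mem {g : ℕ → G} {L : List (List ℕ)} (s : ℕ) : fromWords g L s ∈ val g L := by
  have h : ev g (L.getD (s / 2) []) ∈ val g L := by
    rcases Nat.lt_or_ge (s / 2) L.length with h | h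
    · rw [List.getD_eq_getElem _ _ h]; exact mem_val (List.getElem_mem h)
    · rw [List.getD_eq_default _ _ h]; exact one_mem _
  unfold fromWords
  cases Nat.beq (s % 2) 0
  · exact inv_mem h
  · exact h

theorem ev_fromWords (g : ℕ → G) (L : List (List ℕ)) (h : Paired g) :
    ∀ w : List ℕ, ev (fromWords g L) w = ev g (w.map fun s =>
      bif Nat.beq (s % 2) 0 then L.getD (s / 2) [] else invWord (L.getD (s / 2) [])).flatten
  | [] => rfl
  | s :: w => by
    rw [List.map_cons, List.flatten_cons, ev_append, ev, ev_fromWords g L h w, fromWords]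
    cases Nat.beq (s % 2) 0
    · rw [Bool.cond_false, Bool.cond_false, ev_invWord h]
    · rw [Bool.cond_true, Bool.cond_true]

/-- The subgroup on some words is finite of at most the given order. -/
def BoundW (g : ℕ → G) (L : List (List ℕ)) (k : ℕ) : Prop := Finite (val g L) ∧ Nat.card (val g L) ≤ k

theorem BoundW.nil (g : ℕ → G) : BoundW g [] 1 := by
  rw [BoundW, val_nil]
  exact ⟨inferInstance, by simp⟩

/-- One coset enumeration in a chain. -/
theorem BoundW.step {g : ℕ → G} {L : List (List ℕ)} {K : Subgroup G} [Finite K] {k : ℕ} (hk : Nat.card K ≤ k)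
    (C : Log) (hc : C.ChecksP) (hn : C.n = 2 * L.length)
    (hrels : ∀ w ∈ C.rels, ev (fromWords g L) w = 1) (hsub : ∀ w ∈ C.sub, ev (fromWords g L) w ∈ K) :
    BoundW g L (C.N * k) := by
  set V := val g L
  let g' : ℕ → V := fun s => ⟨fromWords g L s, fromWords_mem s⟩
  have hp : Paired g' := fun s => Subtype.ext (fromWords_paired g L s)
  have hlift : ∀ w, ((ev g' w : V) : G) = ev (fromWords g L) w := fun w => ev_map V.subtype g' w
  have hgen : Subgroup.closure {x | ∃ s < C.n, g' s = x} = ⊤ := by
    rw [← (Subgroup.map_injective V.subtype_injective).eq_iff, ← MonoidHom.range_eq_map, V.range_subtype,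
      MonoidHom.map_closure]
    refine le_antisymm ((Subgroup.closure_le _).2 ?_) ((Subgroup.closure_le _).2 ?_)
    · rintro _ ⟨_, ⟨s, -, rfl⟩, rfl⟩
      exact (g' s).2
    · rintro _ ⟨w, hw, rfl⟩
      obtain ⟨i, hi, rfl⟩ := List.getElem_of_mem hw
      exact Subgroup.subset_closure ⟨g' (2 * i), ⟨2 * i, by omega, rfl⟩, by
        simp [g', fromWords, List.getElem?_eq_getElem hi]⟩
  obtain ⟨hfi, hle⟩ := C.index_leP hc (by omega) (H := K.subgroupOf V) hp hgen
    (fun w hw => Subtype.ext (by rw [hlift]; exact hrels w hw))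
    (fun w hw => Subgroup.mem_subgroupOf.2 (by rw [hlift]; exact hsub w hw))
  let f : K.subgroupOf V → K := fun x => ⟨_, Subgroup.mem_subgroupOf.1 x.2⟩
  have hf : Function.Injective f := fun x y h =>
    Subtype.ext (Subtype.ext (congrArg (fun z : K => (z : G)) h))
  have : Finite (K.subgroupOf V) := Finite.of_injective f hf
  have : Finite V := (Subgroup.finite_iff_finite_and_finiteIndex (H := K.subgroupOf V)).2 ⟨inferInstance, hfi⟩
  refine ⟨‹_›, ?_⟩
  show Nat.card V ≤ _
  rw [← (K.subgroupOf V).index_mul_card]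
  exact Nat.mul_le_mul hle ((Nat.card_le_card_of_injective f hf).trans hk)

end Cfsg.Agent.Spor.Cos
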