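import Cfsg.Agent.Lib.Spor.Cos.CentCert
import Cfsg.Prelude.Def_Transfer
import Cfsg.Agent.Lib.Grp.Frattini

/-!
Small subgroups listed by words with a table of products.
-/

set_option autoImplicit false

namespace Cfsg.Agent.Spor.Cos

open scoped commutatorElement

/-- A listed subgroup: words, and the index of each product. -/
structure ListGrp where
  /-- the words, the empty word first -/
  W : List (List ℕ)
  /-- the products -/
  mt : Tab

/-- The number of elements. -/
def ListGrp.m (L : ListGrp) : ℕ := L.W.length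

/-- The index of a product. -/
noncomputable def ListGrp.prod (L : ListGrp) (i j : ℕ) : ℕ := L.mt.at (i * L.m + j)

/-- The checks of a listed subgroup. -/
noncomputable def ListGrp.chk (L : ListGrp) (A : Act) (pts : List ℕ) : Bool :=
  Act.lettersOk A.n L.W && (L.W.getD 0 [0]).isEmpty && decide ((L.W.map fun w => imKey A w pts).Nodup) &&
    (List.range L.m).all fun i => (List.range L.m).all fun j => force (L.prod i j) fun q =>
      Nat.blt q L.m && agree A pts (L.W.getD i [] ++ L.W.getD j []) (L.W.getD q [])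

section

variable {G : Type*} [Group G] [Finite G] {g : ℕ → G} {A : Act} {π : G →* Equiv.Perm (Fin A.N)} {pts : List ℕ}

/-- An element of a listed subgroup. -/
noncomputable def ListGrp.el (L : ListGrp) (g : ℕ → G) (i : ℕ) : G := ev g (L.W.getD i [])

/-- The conditions proved by the checks. -/
structure ListGrp.Ok (L : ListGrp) (g : ℕ → G) : Prop where
  pos : 0 < L.m
  zero : L.el g 0 = 1
  lt : ∀ i < L.m, ∀ j < L.m, L.prod i j < L.m
  mul : ∀ i < L.m, ∀ j < L.m, L.el g i * L.el g j = L.el g (L.prod i j)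
  inj : ∀ i < L.m, ∀ j < L.m, L.el g i = L.el g j → i = j

theorem ListGrp.ok_of_chk (L : ListGrp) (hπ : A.Hom g π) (hpts : ∀ p ∈ pts, p < A.N)
    (hdet : ∀ y : G, (∀ q : Fin A.N, (q : ℕ) ∈ pts → π y q = q) → y = 1) (h : L.chk A pts = true) : L.Ok g := by
  simp only [ListGrp.chk, Bool.and_eq_true, decide_eq_true_eq, List.all_eq_true, List.mem_range, force_eq] at h
  obtain ⟨⟨⟨hl, h0⟩, hnd⟩, hm⟩ := h
  have hget : ∀ i < L.m, L.W.getD i [] ∈ L.W := fun i hi => by
    rw [List.getD_eq_getElem _ _ (show i < L.W.length from hi)]; exact List.getElem_mem _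
  have pos : 0 < L.m := by
    rcases hW : L.W with _ | ⟨w, W⟩
    · simp [hW] at h0
    · simp [ListGrp.m, hW]
  have hw : ∀ i < L.m, Act.lettersOk A.n [L.W.getD i []] = true := fun i hi =>
    List.all_eq_true.2 fun w hw' => by
      rw [List.mem_singleton.1 hw']; exact List.all_eq_true.1 hl _ (hget i hi)
  refine ⟨pos, ?_, fun i hi j hj => Nat.le_of_ble_eq_true (hm i hi j hj).1, fun i hi j hj => ?_,
    fun i hi j hj e => ?_⟩
  · rw [List.getD_eq_getElem _ _ (show 0 < L.W.length from pos)] at h0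
    rw [ListGrp.el, List.getD_eq_getElem _ _ (show 0 < L.W.length from pos), List.isEmpty_iff.1 h0]
    rfl
  · obtain ⟨hlt, ha⟩ := hm i hi j hj
    rw [ListGrp.el, ListGrp.el, ← ev_append]
    refine ev_eq_of_agree hπ hdet ?_ (hw _ (Nat.le_of_ble_eq_true hlt)) ha
    have a := hw i hi
    have b := hw j hj
    simp only [Act.lettersOk, List.all_cons, List.all_nil, Bool.and_true, List.all_append] at a b ⊢
    rw [a, b]; rfl
  · have hi' : i < L.W.length := hi
    have hj' : j < L.W.length := hj
    refine (List.Nodup.getElem_inj_iff hnd (hi := by simpa using hi') (hj := by simpa using hj')).1 ?_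
    simp only [List.getElem_map]
    refine imKey_congr fun p hp => ?_
    have := congrArg (fun y : G => (π y ⟨p, hpts p hp⟩ : ℕ)) e
    simp only [ListGrp.el, List.getD_eq_getElem _ _ hi', List.getD_eq_getElem _ _ hj'] at this
    rwa [hπ.apply_ev _ (Act.lt_of_lettersOk hl (List.getElem_mem hi')),
      hπ.apply_ev _ (Act.lt_of_lettersOk hl (List.getElem_mem hj'))] at this

theorem isGroup_carrier {L : ListGrp} (h : L.Ok g) :
    ∀ y ∈ Subgroup.closure {y : G | ∃ i < L.m, L.el g i = y}, ∃ i < L.m, L.el g i = y := by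
  intro y hy
  rw [← Subgroup.mem_toSubmonoid, Subgroup.closure_toSubmonoid_of_finite] at hy
  induction hy using Submonoid.closure_induction with
  | mem y hy => exact hy
  | one => exact ⟨0, h.pos, h.zero⟩
  | mul a b _ _ ha hb =>
    obtain ⟨i, hi, rfl⟩ := ha
    obtain ⟨j, hj, rfl⟩ := hb
    exact ⟨_, h.lt i hi j hj, (h.mul i hi j hj).symm⟩

/-- The subgroup. -/
noncomputable def ListGrp.grp (L : ListGrp) (g : ℕ → G) : Subgroup G :=
  Subgroup.closure {y : G | ∃ i < L.m, L.el g i = y}

theorem ListGrp.mem_grp {L : ListGrp} (h : L.Ok g) {y : G} : y ∈ L.grp g ↔ ∃ i < L.m, L.el g i = y :=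
  ⟨isGroup_carrier h y, fun hy => Subgroup.subset_closure hy⟩

/-- The elements by number. -/
noncomputable def ListGrp.fin (L : ListGrp) (g : ℕ → G) (i : Fin L.m) : L.grp g :=
  ⟨L.el g i, Subgroup.subset_closure ⟨i, i.2, rfl⟩⟩

theorem ListGrp.fin_bijective {L : ListGrp} (h : L.Ok g) : Function.Bijective (L.fin g) := by
  refine ⟨fun i j e => Fin.ext (h.inj i i.2 j j.2 (congrArg Subtype.val e)), fun y => ?_⟩
  obtain ⟨i, hi, e⟩ := (ListGrp.mem_grp h).1 y.2
  exact ⟨⟨i, hi⟩, Subtype.ext e⟩

theorem ListGrp.card_grp {L : ListGrp} (h : L.Ok g) : Nat.card (L.grp g) = L.m := by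
  rw [← Nat.card_eq_of_bijective _ (ListGrp.fin_bijective h), Nat.card_fin]

theorem ListGrp.fin_mul {L : ListGrp} (h : L.Ok g) (i j : Fin L.m) :
    L.fin g i * L.fin g j = L.fin g ⟨L.prod i j, h.lt i i.2 j j.2⟩ :=
  Subtype.ext (h.mul i i.2 j j.2)

theorem ListGrp.fin_zero {L : ListGrp} (h : L.Ok g) : L.fin g ⟨0, h.pos⟩ = 1 := Subtype.ext h.zero

/-- A listed subgroup isomorphic to a group with the same table. -/
theorem ListGrp.nonempty_mulEquiv {L : ListGrp} (h : L.Ok g) {K : Type*} [Group K] (f : Fin L.m → K)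
    (hf : Function.Injective f) (hcard : Nat.card K ≤ L.m) [Finite K]
    (hmul : ∀ i j : Fin L.m, f i * f j = f ⟨L.prod i j, h.lt i i.2 j j.2⟩) : Nonempty (L.grp g ≃* K) := by
  let e := Equiv.ofBijective _ (ListGrp.fin_bijective h)
  have hb : Function.Bijective f := hf.bijective_of_nat_card_le (by rwa [Nat.card_fin])
  refine ⟨{ toEquiv := e.symm.trans (Equiv.ofBijective f hb), map_mul' := fun x y => ?_ }⟩
  obtain ⟨i, rfl⟩ := e.surjective x
  obtain ⟨j, rfl⟩ := e.surjective y
  have : e i * e j = e ⟨_, h.lt i i.2 j j.2⟩ := ListGrp.fin_mul h i j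
  simp only [Equiv.toFun_as_coe, Equiv.trans_apply, this, Equiv.symm_apply_apply]
  exact (hmul i j).symm

end

/-- The checks on a table of order 32: centre `{0, z}`, squares and commutators in it, no three commuting
independent involutions. -/
noncomputable def chkExtra (p : ℕ → ℕ → ℕ) (z : ℕ) : Bool :=
  (List.range 32).all fun i => force (p i i) fun s => (Nat.beq s 0 || Nat.beq s z) && Nat.beq (p i z) (p z i) &&
    ((List.range 32).all fun j => Nat.beq (p i j) (p j i) || Nat.beq (p i j) (p z (p j i))) &&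
    (Nat.beq i 0 || Nat.beq i z || !((List.range 32).all fun j => Nat.beq (p i j) (p j i))) &&
    (!(Nat.beq s 0) || Nat.beq i 0 || (List.range 32).all fun j =>
      !(Nat.beq (p j j) 0 && Nat.beq (p i j) (p j i)) || Nat.beq j 0 || Nat.beq j i || (List.range 32).all fun k =>
        !(Nat.beq (p k k) 0 && Nat.beq (p i k) (p k i) && Nat.beq (p j k) (p k j)) || Nat.beq k 0 || Nat.beq k i ||
          Nat.beq k j || Nat.beq k (p i j))

theorem extraspecial_of_table {Q : Type*} [Group Q] [Finite Q] (f : Fin 32 → Q) (hf : Function.Bijective f)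
    (h0 : f 0 = 1) (p : ℕ → ℕ → ℕ) (hp : ∀ i < 32, ∀ j < 32, p i j < 32)
    (hmul : ∀ i j : Fin 32, f i * f j = f ⟨p i j, hp i i.2 j j.2⟩) {z : Fin 32} (hz0 : z ≠ 0)
    (h : chkExtra p z = true) :
    Cfsg.IsExtraspecial 2 Q ∧ ∀ E : Subgroup Q, Cfsg.IsElementaryAbelian 2 E → Nat.card E ≤ 4 := by
  simp only [chkExtra, List.all_eq_true, List.mem_range, force_eq, Bool.and_eq_true, Bool.or_eq_true,
    Bool.not_eq_true', Nat.beq_eq] at h
  have bt : ∀ {a b : ℕ}, a = b → Nat.beq a b = true := fun {a b} e => e ▸ Nat.beq_refl a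
  have eqf : ∀ a b c d : Fin 32, f a * f b = f c * f d ↔ p a b = p c d := fun a b c d => by
    rw [hmul, hmul, hf.1.eq_iff, Fin.ext_iff]
  have zc : ∀ x : Q, x ∈ Subgroup.center Q ↔ x = 1 ∨ x = f z := by
    intro x
    obtain ⟨i, rfl⟩ := hf.2 x
    rw [Subgroup.mem_center_iff]
    constructor
    · intro hc
      rcases (h i i.2).1.2 with (e | e) | e
      · exact Or.inl (h0 ▸ congrArg f (Fin.ext e))
      · exact Or.inr (congrArg f (Fin.ext e))
      · exfalso
        have : (List.range 32).all (fun j => Nat.beq (p i j) (p j i)) = true :=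
          List.all_eq_true.2 fun j hj => bt ((eqf i ⟨j, List.mem_range.1 hj⟩ ⟨j, List.mem_range.1 hj⟩ i).1
            (hc _).symm)
        rw [this] at e
        exact Bool.noConfusion e
    · intro hi y
      obtain ⟨j, rfl⟩ := hf.2 y
      rcases hi with e | e
      · rw [e, mul_one, one_mul]
      · rw [e]
        exact (eqf j z z j).2 ((h j j.2).1.1.1.2)
  have hsq : ∀ x : Q, x ^ 2 ∈ Subgroup.center Q := fun x => by
    obtain ⟨i, rfl⟩ := hf.2 x
    rw [zc, sq, hmul]
    exact (h i i.2).1.1.1.1.imp (fun e => h0 ▸ congrArg f (Fin.ext e)) fun e => congrArg f (Fin.ext e)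
  have hcomm : ∀ x y : Q, ⁅x, y⁆ ∈ Subgroup.center Q := fun x y => by
    obtain ⟨i, rfl⟩ := hf.2 x
    obtain ⟨j, rfl⟩ := hf.2 y
    rw [zc, commutatorElement_def]
    rcases (h i i.2).1.1.2 j j.2 with e | e
    · left
      rw [(eqf i j j i).2 e]
      group
    · right
      have hji := hp j j.2 i i.2
      rw [show f i * f j = f z * (f j * f i) by
        rw [hmul j i, hmul, hmul]
        exact congrArg f (Fin.ext e)]
      group
  have hcard : Nat.card Q = 32 := by rw [← Nat.card_eq_of_bijective f hf, Nat.card_fin]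
  have hZ : Nat.card (Subgroup.center Q) = 2 := by
    rw [show (Subgroup.center Q : Subgroup Q) = Subgroup.center Q from rfl, ← SetLike.coe_sort_coe,
      Nat.card_coe_set_eq, show (Subgroup.center Q : Set Q) = {1, f z} from Set.ext fun x => zc x,
      Set.ncard_pair]
    intro e
    exact hz0 (hf.1 (e.symm.trans h0.symm))
  refine ⟨?_, fun E hE => ?_⟩
  · haveI : Fact (Nat.Prime 2) := ⟨Nat.prime_two⟩
    have hp2 : IsPGroup 2 Q := IsPGroup.of_card (n := 5) (by rw [hcard]; norm_num)
    have h1 : commutator Q ≤ Subgroup.center Q := by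
      rw [commutator_eq_closure, Subgroup.closure_le]
      rintro _ ⟨x, y, rfl⟩
      exact hcomm x y
    have hne : commutator Q ≠ ⊥ := fun e => by
      have : Subgroup.center Q = ⊤ := eq_top_iff.2 fun x _ => Subgroup.mem_center_iff.2 fun y => by
        have hy : ⁅y, x⁆ ∈ commutator Q := Subgroup.commutator_mem_commutator (Subgroup.mem_top _) (Subgroup.mem_top _)
        rw [e, Subgroup.mem_bot] at hy
        exact commutatorElement_eq_one_iff_mul_comm.1 hy
      rw [this, Subgroup.card_top, hcard] at hZ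
      norm_num at hZ
    have hc : commutator Q = Subgroup.center Q := by
      refine Subgroup.eq_of_le_of_card_ge h1 ?_
      rw [hZ]
      have := (Subgroup.one_lt_card_iff_ne_bot _).2 hne
      omega
    refine ⟨⟨hp2, le_antisymm ?_ ?_, hc⟩, hZ⟩
    · exact Grp.frattini_le_of_elementary Nat.prime_two h1 hsq
    · exact hc ▸ Grp.pGroup_commutator_le_frattini hp2
  · classical
    by_cases ha : ∃ a ∈ E, a ≠ 1
    swap
    · have : E = ⊥ := (Subgroup.eq_bot_iff_forall E).2 fun a haE => not_not.1 fun hne => ha ⟨a, haE, hne⟩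
      simp [this]
    obtain ⟨a, haE, ha1⟩ := ha
    by_cases hb : ∃ b ∈ E, b ≠ 1 ∧ b ≠ a
    swap
    · have hs : (E : Set Q) ⊆ {1, a} := fun b hbE => by
        by_contra hn
        simp only [Set.mem_insert_iff, Set.mem_singleton_iff, not_or] at hn
        exact hb ⟨b, hbE, hn.1, hn.2⟩
      rw [← SetLike.coe_sort_coe, Nat.card_coe_set_eq]
      refine (Set.ncard_le_ncard hs).trans ((Set.ncard_insert_le _ _).trans ?_)
      simp
    obtain ⟨b, hbE, hb1, hba⟩ := hb
    have hs : (E : Set Q) ⊆ {1, a, b, a * b} := fun c hcE => by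
      obtain ⟨i, rfl⟩ := hf.2 a
      obtain ⟨j, rfl⟩ := hf.2 b
      obtain ⟨k, rfl⟩ := hf.2 c
      haveI := hE.1
      have sqz : ∀ y : Fin 32, f y ∈ E → p y y = 0 := fun y hy => by
        have := hE.2 _ hy
        rw [sq, hmul, ← h0] at this
        exact congrArg Fin.val (hf.1 this)
      have com : ∀ u v : Fin 32, f u ∈ E → f v ∈ E → p u v = p v u := fun u v hu hv =>
        (eqf u v v u).1 (congrArg Subtype.val (mul_comm' (⟨_, hu⟩ : E) ⟨_, hv⟩))
      have ne : ∀ u : Fin 32, f u ≠ 1 → (u : ℕ) ≠ 0 := fun u hu e => hu (h0 ▸ congrArg f (Fin.ext e))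
      have hi := (h i i.2).2
      rcases hi with (hi | hi) | hi
      · rw [bt (sqz i haE)] at hi; exact Bool.noConfusion hi
      · exact absurd hi (ne i ha1)
      rcases hi j j.2 with ((hj | hj) | hj) | hj
      · simp [sqz j hbE, com i j haE hbE] at hj
      · exact absurd hj (ne j hb1)
      · exact absurd (congrArg f (Fin.ext hj)) hba
      rcases hj k k.2 with ((((hk | hk) | hk) | hk) | hk)
      · simp [sqz k hcE, com i k haE hcE, com j k hbE hcE] at hk
      · exact Or.inl (h0 ▸ congrArg f (Fin.ext hk))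
      · exact Or.inr (Or.inl (congrArg f (Fin.ext hk)))
      · exact Or.inr (Or.inr (Or.inl (congrArg f (Fin.ext hk))))
      · refine Or.inr (Or.inr (Or.inr ?_))
        rw [hmul]
        exact congrArg f (Fin.ext hk)
    rw [← SetLike.coe_sort_coe, Nat.card_coe_set_eq]
    refine (Set.ncard_le_ncard hs).trans ?_
    refine (Set.ncard_insert_le _ _).trans ?_
    refine Nat.add_le_add_right ((Set.ncard_insert_le _ _).trans (Nat.add_le_add_right ((Set.ncard_insert_le _ _).trans ?_) 1)) 1
    simp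

end Cfsg.Agent.Spor.Cos
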