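import Cfsg.Agent.Lib.Spor.Cos.OutTree
import Cfsg.Agent.Lib.Spor.Cos.CentCert

/-!
A class of involutions from a list of distinct conjugates, when the centraliser is large enough to show it complete.
-/

set_option autoImplicit false

namespace Cfsg.Agent.Spor.Cos.ClassList

open Triple

/-- The word of a listed conjugate. -/
noncomputable def conjW (fuel : ℕ) (U : Tab) (j : ℕ) : List ℕ :=
  (fun u : List ℕ => u ++ ([0] ++ u.reverse)) (decWord fuel (U.at j))

/-- A conjugate is before the next one, and is listed if it commutes with the first generator. -/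
noncomputable def chk (A : Act) (pts : List ℕ) (fuel : ℕ) (U idx : Tab) (inv : List (List ℕ)) (m j : ℕ) : Bool :=
  (fun w : List ℕ => (w.all fun s => Nat.blt s A.n) &&
    (Nat.ble m (j + 1) || Nat.blt (imKey A w pts) (imKey A (conjW fuel U (j + 1)) pts)) &&
    (!(agree A pts (w ++ [0]) ([0] ++ w)) || force (idx.at j) fun i => Nat.blt i inv.length && sameW A pts w (inv.getD i [])))
    (conjW fuel U j)

theorem facts {G : Type*} [Group G] [Finite G] {g : ℕ → G} {A : Act} {π : G →* Equiv.Perm (Fin A.N)}
    (hπ : A.Hom g π) {pts : List ℕ} (hpts : ∀ p ∈ pts, p < A.N)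
    (hdet : ∀ y : G, (∀ q : Fin A.N, (q : ℕ) ∈ pts → π y q = q) → y = 1) (hsq : ∀ s, g s * g s = 1) (hn : 0 < A.n)
    {fuel : ℕ} {U idx : Tab} {inv : List (List ℕ)} {m : ℕ} (h : ∀ j < m, chk A pts fuel U idx inv m j = true)
    (hbig : Nat.card G ≤ m * Nat.card (Subgroup.centralizer ({g 0} : Set G))) :
    Nat.card (Subgroup.centralizer ({g 0} : Set G)) * m = Nat.card G ∧
      ∀ x : G, IsConj (g 0) x → x * g 0 = g 0 * x → ∃ j < inv.length, x = ev g (inv.getD j []) := by
  let w : ℕ → List ℕ := conjW fuel U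
  have hw : ∀ j < m, (∀ s ∈ w j, s < A.n) ∧ (j + 1 < m → imKey A (w j) pts < imKey A (w (j + 1)) pts) ∧
      (agree A pts (w j ++ [0]) ([0] ++ w j) = true → ∃ i < inv.length, ev g (w j) = ev g (inv.getD i [])) := by
    intro j hj
    have := h j hj
    simp only [chk, force_eq, Bool.and_eq_true, Bool.or_eq_true, Bool.not_eq_true', List.all_eq_true] at this
    obtain ⟨⟨hl, hk⟩, hi⟩ := this
    refine ⟨fun s hs => Nat.le_of_ble_eq_true (hl s hs), fun hlt => ?_, fun ha => ?_⟩
    · rcases hk with h' | h'
      · exact absurd (Nat.le_of_ble_eq_true h') (by omega)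
      · exact Nat.le_of_ble_eq_true h'
    · rcases hi with h' | h'
      · exact absurd ((h'.symm.trans ha)) Bool.false_ne_true
      · exact ⟨_, Nat.le_of_ble_eq_true h'.1, eq_of_sameW hπ hdet h'.2⟩
  have mono : ∀ j, j < m → ∀ i < j, imKey A (w i) pts < imKey A (w j) pts := by
    intro j
    induction j with
    | zero => intro _ i hi; omega
    | succ j ih =>
      intro hj i hi
      have hstep := (hw j (by omega)).2.1 hj
      rcases Nat.lt_or_ge i j with h' | h'
      · exact (ih (by omega) i h').trans hstep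
      · rwa [show i = j by omega]
  have hconj : ∀ j < m, IsConj (g 0) (ev g (w j)) := by
    intro j hj
    refine isConj_iff.2 ⟨ev g (decWord fuel (U.at j)), ?_⟩
    show _ = ev g (decWord fuel (U.at j) ++ ([0] ++ (decWord fuel (U.at j)).reverse))
    rw [ev_append, ev_append, show ev g [0] = g 0 by simp [ev],
      ev_reverse (fun s _ => hsq s) _ (fun s hs => (hw j hj).1 s (List.mem_append_left _ hs)), mul_assoc]
  have hinj : Function.Injective fun j : Fin m => ev g (w j) := by
    intro i j e
    have hk : imKey A (w i) pts = imKey A (w j) pts := by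
      refine imKey_congr fun p hp => ?_
      have := congrArg (fun y => (π y ⟨p, hpts p hp⟩ : ℕ)) e
      simpa only [hπ.apply_ev _ (hw i i.2).1, hπ.apply_ev _ (hw j j.2).1] using this
    refine Fin.ext ?_
    rcases lt_trichotomy (i : ℕ) j with hl | hl | hl
    · exact absurd hk (mono _ j.2 _ hl).ne
    · exact hl
    · exact absurd hk (mono _ i.2 _ hl).ne'
  set O := MulAction.orbit (ConjAct G) (g 0)
  have hO : ∀ x, x ∈ O ↔ IsConj (g 0) x := fun x => (ConjAct.mem_orbit_conjAct).trans isConj_comm
  have hmul : O.ncard * Nat.card (Subgroup.centralizer ({g 0} : Set G)) = Nat.card G := by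
    rw [← Nat.card_coe_set_eq, ← Nat.card_congr (ConjAct.toConjAct (G := G)).toEquiv.symm,
      ← Nat.card_congr (MulAction.orbitProdStabilizerEquivGroup (ConjAct G) (g 0)), Nat.card_prod]
    congr 1
    rw [Subgroup.centralizer_eq_comap_stabilizer]
    exact Nat.card_congr ((ConjAct.toConjAct (G := G)).toEquiv.subtypeEquiv fun y => Iff.rfl)
  have hsub : Set.range (fun j : Fin m => ev g (w j)) ⊆ O := by
    rintro _ ⟨j, rfl⟩
    exact (hO _).2 (hconj j j.2)
  have hle : m ≤ O.ncard := by
    have := Set.ncard_le_ncard hsub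
    rwa [Set.ncard_range_of_injective hinj, Nat.card_fin] at this
  have hge : O.ncard ≤ m :=
    Nat.le_of_mul_le_mul_right (hmul.trans_le hbig) Nat.card_pos
  have heq : Set.range (fun j : Fin m => ev g (w j)) = O :=
    Set.eq_of_subset_of_ncard_le hsub (by rwa [Set.ncard_range_of_injective hinj, Nat.card_fin])
  refine ⟨by rw [Nat.mul_comm, ← hmul, le_antisymm hge hle], fun x hx hcx => ?_⟩
  obtain ⟨j, rfl⟩ := heq.symm ▸ (hO x).2 hx
  refine (hw j j.2).2.2 (agree_of_eq hπ hpts (fun s hs => ?_) (fun s hs => ?_) ?_)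
  · exact (List.mem_append.1 hs).elim ((hw j j.2).1 s) (fun h' => by rw [List.mem_singleton] at h'; omega)
  · exact (List.mem_append.1 hs).elim (fun h' => by rw [List.mem_singleton] at h'; omega) ((hw j j.2).1 s)
  · rw [ev_append, ev_append, show ev g [0] = g 0 by simp [ev]]
    exact hcx

end Cfsg.Agent.Spor.Cos.ClassList
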