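import Cfsg.Agent.Lib.Spor.Cos.OutTriple

/-!
Classification of automorphisms by a tree of tuples of involutions, each commuting with the one before.
-/

set_option autoImplicit false

namespace Cfsg.Agent.Spor.Cos.Tree5

open Triple

/-- The data: tuples, conjugators from the first involution to their last entries, involutions commuting with the
first involution, conjugating words, relations by length and the edges. -/
structure Data where
  /-- the tuples -/
  nodes : List (List (List ℕ))
  /-- conjugators -/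
  ds : List (List ℕ)
  /-- involutions commuting with the first -/
  inv : List (List ℕ)
  /-- conjugating words -/
  conj : List (List ℕ)
  /-- relations -/
  rels : List (List (List ℕ × ℕ))
  /-- the edges -/
  edge : Tab

/-- The candidate following a tuple. -/
def Data.next (D : Data) (i j : ℕ) : List ℕ :=
  D.ds.getD i [] ++ (D.inv.getD j [] ++ (D.ds.getD i []).reverse)

/-- The check of an edge. -/
noncomputable def chkEdge (D : Data) (A : Act) (pts : List ℕ) (e : ℕ) : Bool :=
  (fun (i : ℕ) (j : ℕ) => (fun (T : List (List ℕ)) =>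
    Nat.ble 1 T.length && sameW A pts (D.ds.getD i [] ++ ([0] ++ (D.ds.getD i []).reverse)) (T.getD (T.length - 1) []) &&
    (fun Y : List (List ℕ) => (Y.all fun w => w.all fun s => Nat.blt s A.n) &&
      force (D.edge.at e) fun E => bif Nat.beq E 0 then
          (D.rels.getD Y.length []).any fun r => (fun R : List ℕ =>
            (R.all fun s => Nat.blt s Y.length) && sameW A pts R [] && !(agree A pts (subW Y R) []))
              (List.replicate r.2 r.1).flatten
        else force (E - 1) fun E' => (fun (c : List ℕ) (U : List (List ℕ)) =>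
          (c.all fun s => Nat.blt s A.n) && Nat.beq U.length Y.length &&
            (List.range Y.length).all fun s => sameW A pts (c ++ (U.getD s [] ++ c.reverse)) (Y.getD s []))
          (D.conj.getD (E' / D.nodes.length) []) (D.nodes.getD (E' % D.nodes.length) []))
      (T ++ [D.next i j]))
    (D.nodes.getD i [])) (e / D.inv.length) (e % D.inv.length)

theorem ev_congr {G : Type*} [Group G] {f f' : ℕ → G} :
    ∀ w : List ℕ, (∀ s ∈ w, f s = f' s) → ev f w = ev f' w
  | [], _ => rfl
  | s :: w, h => by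
    rw [ev, ev, h s (List.mem_cons_self ..), ev_congr w fun t ht => h t (List.mem_cons_of_mem _ ht)]

section

variable {G : Type*} [Group G] [Finite G] {g : ℕ → G} {A : Act} {π : G →* Equiv.Perm (Fin A.N)}

theorem exists_node_class (hπ : A.Hom g π) {pts : List ℕ} (hpts : ∀ p ∈ pts, p < A.N)
    (hdet : ∀ y : G, (∀ q : Fin A.N, (q : ℕ) ∈ pts → π y q = q) → y = 1) (hsq : ∀ s, g s * g s = 1) {D : Data}
    (hstart : D.nodes.getD 0 [] = [[0]]) (hne : ∀ s < A.n, g s ≠ 1)
    (hcomm : ∀ s, s + 1 < A.n → g (s + 1) * g s = g s * g (s + 1))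
    {P : G → Prop} (hP : ∀ (ψ : MulAut G), ∀ k < A.n, P (ψ (g k)))
    (hinv : ∀ x : G, P x → x * x = 1 → x ≠ 1 → x * g 0 = g 0 * x → ∃ j < D.inv.length, x = ev g (D.inv.getD j []))
    (hcls : ∀ φ : MulAut G, IsConj (g 0) (φ (g 0)))
    (hchk : ∀ i < D.nodes.length, (D.nodes.getD i []).length < A.n →
      ∀ j < D.inv.length, chkEdge D A pts (i * D.inv.length + j) = true)
    (hlen : 0 < D.nodes.length) (φ : MulAut G) :
    ∀ k, 1 ≤ k → k ≤ A.n → ∃ (c : G) (i : ℕ), i < D.nodes.length ∧ (D.nodes.getD i []).length = k ∧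
      ∀ s < k, φ (g s) = c * ev g ((D.nodes.getD i []).getD s []) * c⁻¹ := by
  intro k hk
  induction k, hk using Nat.le_induction with
  | base =>
    intro _
    obtain ⟨c, hc⟩ := isConj_iff.1 (hcls φ)
    refine ⟨c, 0, hlen, by rw [hstart]; rfl, fun s hs => ?_⟩
    obtain rfl : s = 0 := by omega
    rw [hstart]
    show φ (g 0) = c * (g 0 * 1) * c⁻¹
    rw [mul_one, hc]
  | succ k hk ih =>
    intro hkn
    obtain ⟨c, i, hi, hik, hT⟩ := ih (by omega)
    set φ' : MulAut G := MulAut.conj c⁻¹ * φ with hφ'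
    have hT' : ∀ s < k, φ' (g s) = ev g ((D.nodes.getD i []).getD s []) := fun s hs => by
      simp only [hφ', MulAut.mul_apply, MulAut.conj_apply, hT s hs]
      group
    set d := ev g (D.ds.getD i []) with hd
    have pick : ∀ j < D.inv.length, _ := fun j hj => hchk i hi (by omega) j hj
    have parts : ∀ j < D.inv.length, (∀ s ∈ D.ds.getD i [], s < A.n) ∧
        d * g 0 * d⁻¹ = ev g ((D.nodes.getD i []).getD (k - 1) []) := fun j hj => by
      have h := pick j hj
      rw [chkEdge, show (i * D.inv.length + j) / D.inv.length = i by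
          rw [Nat.mul_comm, Nat.mul_add_div (by omega), Nat.div_eq_of_lt hj, Nat.add_zero],
        show (i * D.inv.length + j) % D.inv.length = j by
          rw [Nat.mul_comm, Nat.mul_add_mod, Nat.mod_eq_of_lt hj]] at h
      simp only [Bool.and_eq_true] at h
      have h2 := h.1.2
      have hl : ∀ s ∈ D.ds.getD i [], s < A.n := fun s hs => by
        simp only [sameW, Bool.and_eq_true, List.all_append, List.all_eq_true] at h2
        exact Nat.le_of_ble_eq_true (h2.1.1.1 s hs)
      have e := eq_of_sameW hπ hdet h2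
      rw [ev_append, ev_append, ev_reverse (fun s _ => hsq s) _ hl, ← mul_assoc, hik,
        show ev g [0] = g 0 by simp [ev]] at e
      exact ⟨hl, e⟩
    have hfix : φ' (g (k - 1)) = ev g ((D.nodes.getD i []).getD (k - 1) []) := hT' _ (by omega)
    obtain ⟨j, hj, hx⟩ : ∃ j < D.inv.length, d⁻¹ * φ' (g k) * d = ev g (D.inv.getD j []) := by
      obtain ⟨j0, hj0, -⟩ := hinv (g 0) (by simpa using hP 1 0 (by omega)) (hsq 0) (hne 0 (by omega)) rfl
      obtain ⟨hl, he⟩ := parts j0 hj0
      refine hinv _ ?_ ?_ ?_ ?_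
      · have e : (MulAut.conj d⁻¹ * φ') (g k) = d⁻¹ * φ' (g k) * d := by simp
        exact e ▸ hP _ k (by omega)
      · calc d⁻¹ * φ' (g k) * d * (d⁻¹ * φ' (g k) * d) = d⁻¹ * (φ' (g k) * φ' (g k)) * d := by group
          _ = 1 := by rw [← map_mul, hsq, map_one]; group
      · intro e
        have h1 : φ' (g k) = 1 := by
          calc φ' (g k) = d * (d⁻¹ * φ' (g k) * d) * d⁻¹ := by group
            _ = 1 := by rw [e]; group
        exact hne k (by omega) (φ'.injective (h1.trans (map_one φ').symm))
      · have hk1 : k - 1 + 1 = k := by omega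
        have hc1 := hcomm (k - 1) (by omega)
        rw [hk1] at hc1
        have h0 : g 0 = d⁻¹ * φ' (g (k - 1)) * d := by rw [hfix, ← he]; group
        rw [h0]
        calc d⁻¹ * φ' (g k) * d * (d⁻¹ * φ' (g (k - 1)) * d) = d⁻¹ * (φ' (g k) * φ' (g (k - 1))) * d := by group
          _ = d⁻¹ * (φ' (g (k - 1)) * φ' (g k)) * d := by rw [← map_mul, hc1, map_mul]
          _ = d⁻¹ * φ' (g (k - 1)) * d * (d⁻¹ * φ' (g k) * d) := by group
    have hnext : φ' (g k) = ev g (D.next i j) := by
      rw [Data.next, ev_append, ev_append, ev_reverse (fun s _ => hsq s) _ (parts j hj).1, ← hx, ← hd]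
      group
    have h := pick j hj
    rw [chkEdge, show (i * D.inv.length + j) / D.inv.length = i by
        rw [Nat.mul_comm, Nat.mul_add_div (by omega), Nat.div_eq_of_lt hj, Nat.add_zero],
      show (i * D.inv.length + j) % D.inv.length = j by
        rw [Nat.mul_comm, Nat.mul_add_mod, Nat.mod_eq_of_lt hj]] at h
    simp only [Bool.and_eq_true, force_eq] at h
    obtain ⟨hYl, hE⟩ := h.2
    set Y := D.nodes.getD i [] ++ [D.next i j] with hY
    have hYlen : Y.length = k + 1 := by rw [hY, List.length_append, hik]; rfl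
    have hYv : ∀ s < k + 1, φ' (g s) = ev g (Y.getD s []) := fun s hs => by
      rcases Nat.lt_or_ge s k with hs' | hs'
      · rw [hY, List.getD_append _ _ _ _ (hik.symm ▸ hs'), hT' s hs']
      · obtain rfl : s = k := by omega
        rw [hY, List.getD_append_right _ _ _ _ hik.le, hik, Nat.sub_self]
        exact hnext
    cases hz : Nat.beq (D.edge.at (i * D.inv.length + j)) 0
    · rw [hz, Bool.cond_false] at hE
      simp only [Bool.and_eq_true, force_eq] at hE
      obtain ⟨⟨hcl, hU⟩, hall⟩ := hE
      set E' := D.edge.at (i * D.inv.length + j) - 1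
      set w := D.conj.getD (E' / D.nodes.length) []
      refine ⟨c * ev g w, E' % D.nodes.length, Nat.mod_lt _ hlen, (Nat.eq_of_beq_eq_true hU).trans hYlen,
        fun s hs => ?_⟩
      have e := eq_of_sameW hπ hdet (List.all_eq_true.1 hall s (List.mem_range.2 (hYlen.symm ▸ hs)))
      rw [ev_append, ev_append,
        ev_reverse (fun s _ => hsq s) _ (fun t ht => Nat.le_of_ble_eq_true (List.all_eq_true.1 hcl t ht)),
        ← mul_assoc, ← hYv s hs] at e
      calc φ (g s) = c * φ' (g s) * c⁻¹ := by simp only [hφ', MulAut.mul_apply, MulAut.conj_apply]; group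
        _ = _ := by rw [← e]; group
    · rw [hz, Bool.cond_true] at hE
      exfalso
      obtain ⟨r, -, hr⟩ := List.any_eq_true.1 hE
      simp only [Bool.and_eq_true, Bool.not_eq_true'] at hr
      obtain ⟨⟨hlt, hR⟩, hbad⟩ := hr
      set R := (List.replicate r.2 r.1).flatten
      have hR1 : ev g R = 1 := eq_of_sameW hπ hdet (w := []) hR
      have hY1 : ev g (subW Y R) = 1 := by
        rw [ev_subW, ev_congr (f' := fun s => φ'.toMonoidHom (g s)) R fun s hs => (hYv s (hYlen ▸
          Nat.le_of_ble_eq_true (List.all_eq_true.1 hlt s hs))).symm, ← ev_map]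
        show φ' (ev g R) = 1
        rw [hR1, map_one]
      refine Bool.eq_false_iff.1 hbad (agree_of_eq hπ hpts (fun s hs => ?_) (by simp) hY1)
      obtain ⟨_, hl', hsl⟩ := List.mem_flatten.1 hs
      obtain ⟨a, -, rfl⟩ := List.mem_map.1 hl'
      rcases Nat.lt_or_ge a Y.length with ha | ha
      · rw [List.getD_eq_getElem _ _ ha] at hsl
        exact Nat.le_of_ble_eq_true (List.all_eq_true.1 (List.all_eq_true.1 hYl _ (List.getElem_mem _)) s hsl)
      · rw [List.getD_eq_default _ _ ha] at hsl; simp at hsl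

/-- The case of all involutions. -/
theorem exists_node (hπ : A.Hom g π) {pts : List ℕ} (hpts : ∀ p ∈ pts, p < A.N)
    (hdet : ∀ y : G, (∀ q : Fin A.N, (q : ℕ) ∈ pts → π y q = q) → y = 1) (hsq : ∀ s, g s * g s = 1) {D : Data}
    (hstart : D.nodes.getD 0 [] = [[0]]) (hne : ∀ s < A.n, g s ≠ 1)
    (hcomm : ∀ s, s + 1 < A.n → g (s + 1) * g s = g s * g (s + 1))
    (hinv : ∀ x : G, x * x = 1 → x ≠ 1 → x * g 0 = g 0 * x → ∃ j < D.inv.length, x = ev g (D.inv.getD j []))
    (hcls : ∀ φ : MulAut G, IsConj (g 0) (φ (g 0)))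
    (hchk : ∀ i < D.nodes.length, (D.nodes.getD i []).length < A.n →
      ∀ j < D.inv.length, chkEdge D A pts (i * D.inv.length + j) = true)
    (hlen : 0 < D.nodes.length) (φ : MulAut G) :
    ∀ k, 1 ≤ k → k ≤ A.n → ∃ (c : G) (i : ℕ), i < D.nodes.length ∧ (D.nodes.getD i []).length = k ∧
      ∀ s < k, φ (g s) = c * ev g ((D.nodes.getD i []).getD s []) * c⁻¹ :=
  exists_node_class hπ hpts hdet hsq hstart hne hcomm (P := fun _ => True) (fun _ _ _ => trivial)
    (fun x _ => hinv x) hcls hchk hlen φ

end

end Cfsg.Agent.Spor.Cos.Tree5
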