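import Cfsg.Agent.Lib.Spor.Cos.Act
import Cfsg.Agent.Lib.Spor.Cos.PairStep

/-!
Permutations given by tables for letters in pairs of inverse elements: a row holds the images of a point under the
letters acting from the right, so a letter acts from the left as its partner does in the table.
-/

set_option autoImplicit false

namespace Cfsg.Agent.Spor.Cos

namespace Act

variable (A : Act)

/-- Apply a word, its last letter first. -/
noncomputable def goP (w : List ℕ) (p : ℕ) : ℕ :=
  List.rec (motive := fun _ => ℕ) p (fun s _ r => force r fun q => A.im q (Nat.xor s 1)) w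

/-- The letters of a pair give inverse maps at a point. -/
noncomputable def chkInvP (p : ℕ) : Bool :=
  (List.range A.n).all fun s => force (A.im p s) fun q => Nat.blt q A.N && Nat.beq (A.im q (Nat.xor s 1)) p

/-- A point is fixed by some words. -/
noncomputable def chkFixP (ws : List (List ℕ)) (p : ℕ) : Bool := ws.all fun w => Nat.beq (A.goP w p) p

theorem goP_nil (p : ℕ) : A.goP [] p = p := rfl

theorem goP_cons (s : ℕ) (w : List ℕ) (p : ℕ) : A.goP (s :: w) p = A.im (A.goP w p) (Nat.xor s 1) := by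
  simp only [goP, force_eq]

/-- The images of a point under a pair. -/
def GoodAt (s : ℕ) : Prop :=
  s < A.n ∧ (s ^^^ 1) < A.n ∧ ∀ p < A.N, A.im p s < A.N ∧ A.im p (s ^^^ 1) < A.N ∧
    A.im (A.im p s) (s ^^^ 1) = p ∧ A.im (A.im p (s ^^^ 1)) s = p

theorem xor_one_one (s : ℕ) : (s ^^^ 1) ^^^ 1 = s := by
  rw [Nat.xor_assoc, Nat.xor_self, Nat.xor_zero]

theorem goodAt_flip {s : ℕ} (h : A.GoodAt s) : A.GoodAt (s ^^^ 1) := by
  refine ⟨h.2.1, ?_, fun p hp => ?_⟩
  · rw [xor_one_one]; exact h.1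
  · obtain ⟨a, b, c, d⟩ := h.2.2 p hp
    rw [xor_one_one]
    exact ⟨b, a, d, c⟩

open Classical in
/-- The permutation of a letter. -/
noncomputable def permP (s : ℕ) : Equiv.Perm (Fin A.N) :=
  if h : A.GoodAt s then
    { toFun := fun p => ⟨A.im p (s ^^^ 1), (h.2.2 p p.2).2.1⟩
      invFun := fun p => ⟨A.im p s, (h.2.2 p p.2).1⟩
      left_inv := fun p => Fin.ext (h.2.2 p p.2).2.2.2
      right_inv := fun p => Fin.ext (h.2.2 p p.2).2.2.1 }
  else 1

theorem permP_paired : Paired A.permP := by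
  intro s
  by_cases h : A.GoodAt s
  · unfold permP
    rw [dif_pos h, dif_pos (A.goodAt_flip h)]
    refine Equiv.ext fun p => Fin.ext ?_
    show A.im p ((s ^^^ 1) ^^^ 1) = A.im p s
    rw [xor_one_one]
  · have h' : ¬ A.GoodAt (s ^^^ 1) := fun h' => h (by simpa [xor_one_one] using A.goodAt_flip h')
    unfold permP
    rw [dif_neg h, dif_neg h', inv_one]

theorem goodAt_of_chk (hn : A.n % 2 = 0) (hA : ∀ p < A.N, A.chkInvP p = true) {s : ℕ} (hs : s < A.n) :
    A.GoodAt s := by
  have h : ∀ q < A.N, ∀ t < A.n, A.im q t < A.N ∧ A.im (A.im q t) (t ^^^ 1) = q := fun q hq t ht => by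
    have := List.all_eq_true.1 (hA q hq) t (List.mem_range.2 ht)
    rw [force_eq, Bool.and_eq_true] at this
    exact ⟨Nat.le_of_ble_eq_true this.1, Nat.eq_of_beq_eq_true this.2⟩
  have hf : (s ^^^ 1) < A.n := Log.xor_one_lt hn hs
  refine ⟨hs, hf, fun p hp => ⟨(h p hp s hs).1, (h p hp _ hf).1, (h p hp s hs).2, ?_⟩⟩
  simpa [xor_one_one] using (h p hp _ hf).2

theorem evP_apply (hn : A.n % 2 = 0) (hA : ∀ p < A.N, A.chkInvP p = true) (w : List ℕ) (h : ∀ s ∈ w, s < A.n)
    (p : Fin A.N) : (ev A.permP w p : ℕ) = A.goP w p := by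
  induction w with
  | nil => rfl
  | cons s w ih =>
    have hg := A.goodAt_of_chk hn hA (h s (List.mem_cons_self ..))
    rw [ev, Equiv.Perm.mul_apply, goP_cons, ← ih fun t ht => h t (List.mem_cons_of_mem _ ht)]
    unfold permP
    rw [dif_pos hg]
    rfl

/-- The relations hold for the permutations. -/
theorem evP_rels (hn : A.n % 2 = 0) (hA : ∀ p < A.N, A.chkInvP p = true) {base : List (List ℕ)}
    (hl : lettersOk A.n base = true) (hB : ∀ p < A.N, A.chkFixP base p = true) : ∀ w ∈ base, ev A.permP w = 1 := by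
  intro w hw
  refine Equiv.ext fun p => Fin.ext ?_
  rw [A.evP_apply hn hA w (lt_of_lettersOk hl hw)]
  exact Nat.eq_of_beq_eq_true (List.all_eq_true.1 (hB p p.2) w hw)

/-- The action of a group through a table. -/
structure HomP {G : Type*} [Group G] (g : ℕ → G) (π : G →* Equiv.Perm (Fin A.N)) : Prop where
  even : A.n % 2 = 0
  inv : ∀ p < A.N, A.chkInvP p = true
  gen : ∀ s, π (g s) = A.permP s

theorem HomP.apply_ev {A : Act} {G : Type*} [Group G] {g : ℕ → G} {π : G →* Equiv.Perm (Fin A.N)}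
    (h : A.HomP g π) (w : List ℕ) (hw : ∀ s ∈ w, s < A.n) (p : Fin A.N) : (π (ev g w) p : ℕ) = A.goP w p := by
  rw [ev_map π g w, show (fun s => π (g s)) = A.permP from funext h.gen]
  exact A.evP_apply h.even h.inv w hw p

end Act

end Cfsg.Agent.Spor.Cos
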