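import Cfsg.Agent.Lib.Spor.Cos.Sift
import Cfsg.Agent.Lib.Spor.Cos.OutTriple

/-!
The order of a subgroup of a product of two groups from products that sift in both, and the homomorphism it gives.
-/

set_option autoImplicit false

open Cfsg.Agent.Spor.Cos.Triple

namespace Cfsg.Agent.Spor.Cos.PairBound

/-- The data of a level. -/
structure PLev where
  /-- generators -/
  X : List (List ℕ)
  /-- representatives in the generators -/
  reps : List (List ℕ)
  /-- generators below -/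
  next : List (List ℕ)
  /-- for a representative and a generator, the representative of the product and the rest in the generators below -/
  ent : List (ℕ × List ℕ)

/-- Two words agree in both actions. -/
noncomputable def agree2 (A B : Act) (pa pb : List ℕ) (v w : List ℕ) : Bool :=
  (v.all fun s => Nat.blt s A.n && Nat.blt s B.n) && (w.all fun s => Nat.blt s A.n && Nat.blt s B.n) &&
    agree A pa v w && agree B pb v w

/-- The check of the products of one representative. -/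
noncomputable def PLev.chk (L : PLev) (A B : Act) (pa pb : List ℕ) (j : ℕ) : Bool :=
  (List.range L.X.length).all fun i =>
    (fun e : ℕ × List ℕ => Nat.blt e.1 L.reps.length &&
      agree2 A B pa pb (L.X.getD i [] ++ subW L.X (L.reps.getD j []))
        (subW L.X (L.reps.getD e.1 []) ++ subW L.next e.2))
      (L.ent.getD (j * L.X.length + i) (L.reps.length, []))

variable {G₁ G₂ : Type*} [Group G₁] [Group G₂] {g₁ : ℕ → G₁} {g₂ : ℕ → G₂} {A B : Act}
  {π₁ : G₁ →* Equiv.Perm (Fin A.N)} {π₂ : G₂ →* Equiv.Perm (Fin B.N)} {pa pb : List ℕ}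

theorem ev_pair (w : List ℕ) : ev (fun k => (g₁ k, g₂ k)) w = (ev g₁ w, ev g₂ w) := by
  induction w with
  | nil => rfl
  | cons s w ih => rw [ev, ih]; rfl

theorem eq_of_agree2 (h₁ : A.Hom g₁ π₁) (d₁ : ∀ y : G₁, (∀ q : Fin A.N, (q : ℕ) ∈ pa → π₁ y q = q) → y = 1)
    (h₂ : B.Hom g₂ π₂) (d₂ : ∀ y : G₂, (∀ q : Fin B.N, (q : ℕ) ∈ pb → π₂ y q = q) → y = 1) {v w : List ℕ}
    (h : agree2 A B pa pb v w = true) : ev (fun k => (g₁ k, g₂ k)) v = ev (fun k => (g₁ k, g₂ k)) w := by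
  simp only [agree2, Bool.and_eq_true, List.all_eq_true] at h
  obtain ⟨⟨⟨hv, hw⟩, ha⟩, hb⟩ := h
  rw [ev_pair, ev_pair, ev_eq_of_agree h₁ d₁ (v := v) (w := w) ?_ ?_ ha, ev_eq_of_agree h₂ d₂ (v := v) (w := w) ?_ ?_ hb]
  all_goals simp only [Act.lettersOk, List.all_cons, List.all_nil, Bool.and_true, List.all_eq_true]
  exacts [fun s hs => (hv s hs).2, fun s hs => (hw s hs).2, fun s hs => (hv s hs).1, fun s hs => (hw s hs).1]

theorem subW_mem {G : Type*} [Group G] {g : ℕ → G} (X : List (List ℕ)) (u : List ℕ) :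
    ev g (subW X u) ∈ val g X := by
  rw [ev_subW]
  exact ev_mem _ fun s _ => ev_getD_mem X s

theorem PLev.card_le [Finite G₁] [Finite G₂] (L : PLev) (h₁ : A.Hom g₁ π₁)
    (d₁ : ∀ y : G₁, (∀ q : Fin A.N, (q : ℕ) ∈ pa → π₁ y q = q) → y = 1) (h₂ : B.Hom g₂ π₂)
    (d₂ : ∀ y : G₂, (∀ q : Fin B.N, (q : ℕ) ∈ pb → π₂ y q = q) → y = 1) {k : ℕ}
    (hk : Nat.card (val (fun k => (g₁ k, g₂ k)) L.next) ≤ k) (hm : 0 < L.reps.length)
    (h0 : L.reps.getD 0 [] = []) (h : ∀ j < L.reps.length, L.chk A B pa pb j = true) :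
    Nat.card (val (fun k => (g₁ k, g₂ k)) L.X) ≤ L.reps.length * k := by
  refine card_val_le hk (fun j => ev (fun k => (g₁ k, g₂ k)) (subW L.X (L.reps.getD j []))) hm (by rw [h0]; rfl) fun j hj w hw => ?_
  obtain ⟨i, hi, rfl⟩ := List.mem_iff_getElem.1 hw
  have := List.all_eq_true.1 (h j hj) i (List.mem_range.2 hi)
  rw [Bool.and_eq_true] at this
  refine ⟨_, Nat.le_of_ble_eq_true this.1, _,
    subW_mem L.next (L.ent.getD (j * L.X.length + i) (L.reps.length, [])).2, ?_⟩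
  rw [← List.getD_eq_getElem _ [] hi, ← ev_append, ← ev_append]
  exact eq_of_agree2 h₁ d₁ h₂ d₂ this.2

theorem val_union_le [Finite G₁] [Finite G₂] (h₁ : A.Hom g₁ π₁)
    (d₁ : ∀ y : G₁, (∀ q : Fin A.N, (q : ℕ) ∈ pa → π₁ y q = q) → y = 1) (h₂ : B.Hom g₂ π₂)
    (d₂ : ∀ y : G₂, (∀ q : Fin B.N, (q : ℕ) ∈ pb → π₂ y q = q) → y = 1) {X Y mem : List (List ℕ)}
    (h : ∀ i < Y.length, agree2 A B pa pb (Y.getD i []) (subW X (mem.getD i [])) = true) :
    val (fun k => (g₁ k, g₂ k)) (X ++ Y) ≤ val (fun k => (g₁ k, g₂ k)) X := by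
  refine (Subgroup.closure_le _).2 ?_
  rintro _ ⟨w, hw, rfl⟩
  rcases List.mem_append.1 hw with hw | hw
  · exact mem_val hw
  · obtain ⟨i, hi, rfl⟩ := List.mem_iff_getElem.1 hw
    rw [← List.getD_eq_getElem _ [] hi, eq_of_agree2 h₁ d₁ h₂ d₂ (h i hi)]
    exact subW_mem X _

/-- A subgroup of a product no larger than the first group, mapping onto it, is the graph of a homomorphism. -/
theorem exists_hom_of_card_le [Finite G₁] [Finite G₂] (R : Subgroup (G₁ × G₂)) (hR : Nat.card R ≤ Nat.card G₁)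
    (hs : ∀ x : G₁, ∃ y : G₂, (x, y) ∈ R) : ∃ f : G₁ →* G₂, ∀ p ∈ R, f p.1 = p.2 := by
  let f₁ : R →* G₁ := (MonoidHom.fst G₁ G₂).comp R.subtype
  have hsur : Function.Surjective f₁ := fun x => by
    obtain ⟨y, hy⟩ := hs x
    exact ⟨⟨(x, y), hy⟩, rfl⟩
  have hb : Function.Bijective f₁ := hsur.bijective_of_nat_card_le hR
  refine ⟨((MonoidHom.snd G₁ G₂).comp R.subtype).comp (MulEquiv.ofBijective f₁ hb).symm.toMonoidHom, fun p hp => ?_⟩
  have : (MulEquiv.ofBijective f₁ hb).symm p.1 = ⟨p, hp⟩ :=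
    (MulEquiv.ofBijective f₁ hb).injective ((MulEquiv.apply_symm_apply _ _).trans rfl)
  show (((MulEquiv.ofBijective f₁ hb).symm p.1 : R) : G₁ × G₂).2 = p.2
  rw [this]

end Cfsg.Agent.Spor.Cos.PairBound
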