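import Cfsg.Agent.Lib.Spor.Cos.Log

/-!
Certificates for coset enumerations whose letters come in pairs `2 * k`, `2 * k + 1` of inverse elements.
-/

set_option autoImplicit false

namespace Cfsg.Agent.Spor.Cos

namespace Log

variable (C : Log)

/-- Read a word along earlier facts. -/
def walkP (i tgt : ℕ) : ℕ → ℕ → ℕ → List ℕ → Bool
  | 0, _, c, w => Nat.beq c tgt && w.isEmpty
  | cnt + 1, R, c, w =>
    force (R % 2097152) fun r => Nat.blt (r / 2) i && force (C.facts.at (r / 2)) fun F =>
      bif Nat.beq (bif Nat.beq (r % 2) 0 then F % 1048576 else (F >>> 20) % 1048576) c then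
        force (bif Nat.beq (r % 2) 0 then (F >>> 20) % 1048576 else F % 1048576) fun y =>
        bif Nat.beq (F >>> 40) C.n then force (R >>> 21) fun R' => walkP i tgt cnt R' y w
        else match w with
          | [] => false
          | t :: w' => Nat.beq (Nat.xor t (r % 2)) (F >>> 40) && force (R >>> 21) fun R' => walkP i tgt cnt R' y w'
      else false

/-- A fact obtained by a scan. -/
def chkFactP (i J : ℕ) : Bool :=
  force (C.facts.at i) fun F => force (J % 1024) fun j => force ((J >>> 10) % 512) fun k =>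
  force ((J >>> 19) % 1048576) fun a0 => force ((J >>> 39) % 512) fun c1 => force ((J >>> 48) % 512) fun c2 =>
    Nat.ble (F >>> 40) C.n && (Nat.blt j C.rels.length || (Nat.blt j (C.rels.length + C.sub.length) && Nat.beq a0 0)) &&
      (fun w : List ℕ =>
        (Nat.beq (F >>> 40) C.n || (Nat.blt k w.length && Nat.beq (w.getD k C.n) (F >>> 40))) &&
        force (J >>> 57) fun R => force (F % 1048576) fun a => force ((F >>> 20) % 1048576) fun b =>
        force (R >>> (21 * c1)) fun R2 =>
          C.walkP i a c1 R a0 (w.take k) &&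
          C.walkP i a0 c2 R2 b (w.drop (bif Nat.beq (F >>> 40) C.n then k else k + 1)))
        ((C.rels ++ C.sub).getD j [])

/-- Some facts in a row with their scans in one number. -/
def chkFactsP : ℕ → ℕ → ℕ → Bool
  | 0, _, _ => true
  | cnt + 1, i, J => force i fun i => force J fun J =>
      C.chkFactP i J &&
        chkFactsP cnt (i + 1) (J >>> (57 + 21 * ((J >>> 39) % 512 + (J >>> 48) % 512)))

/-- The entry of a coset and a letter. -/
def chkFinalP (k : ℕ) : Bool :=
  force (C.final.at k) fun r => Nat.blt (r / 2) C.nF && force (C.facts.at (r / 2)) fun F =>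
    Nat.beq (bif Nat.beq (r % 2) 0 then F % 1048576 else (F >>> 20) % 1048576) (k / C.n) &&
      Nat.beq (F >>> 40) (Nat.xor (k % C.n) (r % 2)) &&
      Nat.blt (bif Nat.beq (r % 2) 0 then (F >>> 20) % 1048576 else F % 1048576) C.N

theorem xor_one_lt {n s : ℕ} (hn : n % 2 = 0) (hs : s < n) : Nat.xor s 1 < n := by
  rcases Nat.mod_two_eq_zero_or_one s with h | h
  · have e : Nat.xor s 1 = s + 1 := Nat.xor_one_of_even (Nat.even_iff.2 h)
    omega
  · have e : Nat.xor s 1 = s - 1 := Nat.xor_one_of_odd (Nat.odd_iff.2 h)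
    omega

theorem xor_zero' (t : ℕ) : Nat.xor t 0 = t := Nat.xor_zero t

variable {G : Type*} [Group G] {g : ℕ → G}

theorem walk_soundP {H : Subgroup G} (hinv : ∀ s, g (s ^^^ 1) = (g s)⁻¹) {i tgt : ℕ}
    (hgood : ∀ j < i, C.Good g H j) (hsmall : ∀ j < i, C.facts.at j >>> 40 ≤ C.n) :
    ∀ (cnt R c : ℕ) (w : List ℕ), C.walkP i tgt cnt R c w = true →
      C.rep g c * ev g w * (C.rep g tgt)⁻¹ ∈ H
  | 0, R, c, w, h => by
    simp only [walkP, Bool.and_eq_true, Nat.beq_eq, List.isEmpty_iff] at h
    obtain ⟨rfl, rfl⟩ := h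
    simp [ev]
  | cnt + 1, R, c, w, h => by
    simp only [walkP, force_eq, Bool.and_eq_true, Nat.blt_eq] at h
    obtain ⟨hlt, h⟩ := h
    set F := C.facts.at (R % 2097152 / 2) with hF
    cases hx : Nat.beq (bif Nat.beq (R % 2097152 % 2) 0 then F % 1048576 else (F >>> 20) % 1048576) c
    · rw [hx] at h; exact absurd h (by simp)
    rw [hx, Bool.cond_true] at h
    rw [Nat.beq_eq] at hx
    have hg := hgood _ hlt
    unfold Good at hg
    rw [← hF] at hg
    have hle : F >>> 40 ≤ C.n := hsmall _ hlt
    generalize hy : (bif Nat.beq (R % 2097152 % 2) 0 then (F >>> 20) % 1048576 else F % 1048576) = y at h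
    have hstep : C.rep g c * (bif Nat.beq (R % 2097152 % 2) 0 then C.gl g (F >>> 40) else (C.gl g (F >>> 40))⁻¹) *
        (C.rep g y)⁻¹ ∈ H := by
      cases hb : Nat.beq (R % 2097152 % 2) 0 <;> rw [hb] at hx hy
      · simp only [Bool.cond_false] at hx hy ⊢
        subst hx hy
        have := H.inv_mem hg
        simpa [mul_assoc] using this
      · simp only [Bool.cond_true] at hx hy ⊢
        subst hx hy
        exact hg
    cases hn : Nat.beq (F >>> 40) C.n <;> rw [hn] at h
    · simp only [Bool.cond_false] at h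
      have hne : F >>> 40 ≠ C.n := fun e => by rw [Nat.beq_eq.mpr e] at hn; exact absurd hn (by simp)
      rcases w with _ | ⟨t, w⟩
      · exact absurd h (by simp)
      simp only [Bool.and_eq_true, Nat.beq_eq] at h
      obtain ⟨ht, h⟩ := h
      have h2 := walk_soundP hinv hgood hsmall cnt _ _ _ h
      have e : (bif Nat.beq (R % 2097152 % 2) 0 then C.gl g (F >>> 40) else (C.gl g (F >>> 40))⁻¹) = g t := by
        rw [gl, if_neg hne, ← ht]
        rcases Nat.mod_two_eq_zero_or_one (R % 2097152) with hb | hb <;> rw [hb]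
        · simp
        · show (g (t ^^^ 1))⁻¹ = g t
          rw [hinv t, inv_inv]
      rw [e] at hstep
      have := H.mul_mem hstep h2
      simp only [ev]
      simpa [mul_assoc] using this
    · simp only [Bool.cond_true] at h
      have h2 := walk_soundP hinv hgood hsmall cnt _ _ _ h
      have := H.mul_mem hstep h2
      simpa [gl, Nat.beq_eq.mp hn, mul_assoc] using this

/-- All checks. -/
structure ChecksP : Prop where
  pos : 0 < C.N ∧ C.M ≤ C.nF + 1
  defs : ∀ i, i + 1 < C.M → C.chkDef i = true
  facts : ∀ i, C.M ≤ i + 1 → i < C.nF → ∃ J, C.chkFactP i J = true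
  final : ∀ k < C.N * C.n, C.chkFinalP k = true

theorem exists_scanP : ∀ (cnt i J k : ℕ), C.chkFactsP cnt i J = true → i ≤ k → k < i + cnt →
    ∃ J', C.chkFactP k J' = true
  | 0, i, J, k, _, h1, h2 => by omega
  | cnt + 1, i, J, k, h, h1, h2 => by
    simp only [chkFactsP, force_eq, Bool.and_eq_true] at h
    rcases Nat.lt_or_ge i k with hlt | hge
    · exact exists_scanP cnt _ _ k h.2 (by omega) (by omega)
    · obtain rfl : i = k := by omega
      exact ⟨J, h.1⟩

/-- Several runs of facts, each with its count and its scans. -/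
def chkPartP : ℕ → ℕ → List (ℕ × ℕ) → Bool
  | i, stop, [] => Nat.beq i stop
  | i, stop, (cnt, J) :: L => C.chkFactsP cnt i J && force (i + cnt) fun i' => chkPartP i' stop L

/-- All facts in a range have scans. -/
def CoversP (a b : ℕ) : Prop := ∀ i, a ≤ i → i < b → ∃ J, C.chkFactP i J = true

theorem covers_of_partP : ∀ (L : List (ℕ × ℕ)) (a b : ℕ), C.chkPartP a b L = true → C.CoversP a b
  | [], a, b, h, i, h1, h2 => by
    simp only [chkPartP, Nat.beq_eq] at h
    omega
  | (cnt, J) :: L, a, b, h, i, h1, h2 => by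
    simp only [chkPartP, force_eq, Bool.and_eq_true] at h
    rcases Nat.lt_or_ge i (a + cnt) with hlt | hge
    · exact C.exists_scanP _ _ _ i h.1 h1 hlt
    · exact covers_of_partP L _ _ h.2 i hge h2

theorem CoversP.trans {a b c : ℕ} (h : C.CoversP a b) (h' : C.CoversP b c) : C.CoversP a c := fun i h1 h2 =>
  (Nat.lt_or_ge i b).elim (h i h1) fun hb => h' i hb h2

theorem facts_of_coversP {first stop : ℕ} (h : C.CoversP first stop) (hf : first + 1 = C.M) (hs : stop = C.nF) :
    ∀ i, C.M ≤ i + 1 → i < C.nF → ∃ J, C.chkFactP i J = true :=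
  fun i h1 h2 => h i (by omega) (by omega)

theorem good_allP (hinv : ∀ s, g (s ^^^ 1) = (g s)⁻¹) (hd : ∀ i, i + 1 < C.M → C.chkDef i = true)
    {nF : ℕ} (hf : ∀ i, C.M ≤ i + 1 → i < nF → ∃ J, C.chkFactP i J = true) {H : Subgroup G}
    (hrels : ∀ w ∈ C.rels, ev g w = 1) (hsub : ∀ w ∈ C.sub, ev g w ∈ H) :
    ∀ i < nF, C.Good g H i ∧ C.facts.at i >>> 40 ≤ C.n := by
  intro i
  induction i using Nat.strong_induction_on with
  | _ i ih =>
    intro hi
    rcases Nat.lt_or_ge (i + 1) C.M with hdef | hscan
    · have h := hd i hdef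
      simp only [chkDef, force_eq, Bool.and_eq_true, Nat.ble_eq, Nat.beq_eq, Nat.blt_eq] at h
      obtain ⟨⟨ha, hb⟩, hs⟩ := h
      refine ⟨?_, hs.le⟩
      unfold Good Holds
      rw [hb]
      have e : C.rep g (i + 1) = C.rep g (C.facts.at i % 1048576) * g (C.facts.at i >>> 40) := by
        show C.repAux g (i + 1) (i + 1) = _
        rw [repAux, if_neg (Nat.add_one_ne_zero i), Nat.add_sub_cancel,
          C.repAux_eq g hd i _ (by omega) ha]
        rfl
      rw [e, gl, if_neg hs.ne, mul_inv_cancel]
      exact H.one_mem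
    · obtain ⟨J, h⟩ := hf i hscan hi
      have hgood : ∀ j < i, C.Good g H j := fun j hj => (ih j hj (by omega)).1
      have hsmall : ∀ j < i, C.facts.at j >>> 40 ≤ C.n := fun j hj => (ih j hj (by omega)).2
      simp only [chkFactP, force_eq, Bool.and_eq_true, Bool.or_eq_true, Nat.beq_eq, Nat.blt_eq, Nat.ble_eq] at h
      obtain ⟨⟨hle, hj⟩, hs, hw1, hw2⟩ := h
      refine ⟨?_, hle⟩
      generalize hw : (C.rels ++ C.sub).getD (J % 1024) [] = w at hs hw1 hw2
      generalize (J >>> 10) % 512 = k at hs hw1 hw2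
      generalize (J >>> 19) % 1048576 = a0 at hj hw1 hw2
      have e1 := C.walk_soundP hinv hgood hsmall _ _ _ _ hw1
      have e2 := C.walk_soundP hinv hgood hsmall _ _ _ _ hw2
      have hev : C.rep g a0 * ev g w * (C.rep g a0)⁻¹ ∈ H := by
        by_cases hjr : J % 1024 < C.rels.length
        · have : ev g w = 1 := hrels _ (by
            rw [← hw, List.getD_eq_getElem?_getD, List.getElem?_append_left hjr, List.getElem?_eq_getElem hjr]
            exact List.getElem_mem hjr)
          rw [this]; simp
        · obtain ⟨hj', rfl⟩ := hj.resolve_left hjr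
          rw [C.rep_zero g, one_mul, inv_one, mul_one]
          refine hsub _ ?_
          rw [← hw, List.getD_eq_getElem?_getD, List.getElem?_append_right (by omega),
            List.getElem?_eq_getElem (by omega)]
          exact List.getElem_mem _
      unfold Good Holds
      generalize C.facts.at i % 1048576 = a at e1 ⊢
      generalize (C.facts.at i >>> 20) % 1048576 = b at e2 ⊢
      generalize C.facts.at i >>> 40 = s at hs e2 hle ⊢
      rcases hs with rfl | ⟨hk, hks⟩
      · simp only [show Nat.beq C.n C.n = true from Nat.beq_eq.mpr rfl, Bool.cond_true] at e2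
        rw [← List.take_append_drop k w, ev_append] at hev
        have := H.mul_mem (H.mul_mem (H.inv_mem e1) hev) (H.inv_mem e2)
        simpa [gl, mul_assoc] using this
      · by_cases hsn : s = C.n
        · subst hsn
          simp only [show Nat.beq C.n C.n = true from Nat.beq_eq.mpr rfl, Bool.cond_true] at e2
          rw [← List.take_append_drop k w, ev_append] at hev
          have := H.mul_mem (H.mul_mem (H.inv_mem e1) hev) (H.inv_mem e2)
          simpa [gl, mul_assoc] using this
        · rw [show Nat.beq s C.n = false from Bool.eq_false_iff.mpr fun e => hsn (Nat.beq_eq.mp e),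
            Bool.cond_false] at e2
          have hdec : w = w.take k ++ s :: w.drop (k + 1) := by
            rw [List.getD_eq_getElem _ _ hk] at hks
            rw [← hks, List.getElem_cons_drop, List.take_append_drop]
          rw [hdec, ev_append] at hev
          simp only [ev] at hev
          have := H.mul_mem (H.mul_mem (H.inv_mem e1) hev) (H.inv_mem e2)
          simpa [gl, hsn, mul_assoc] using this

/-- A word read along facts from node 0 back to node 0 gives a member of the subgroup. -/
theorem loop_memP (hinv : ∀ s, g (s ^^^ 1) = (g s)⁻¹) (hd : ∀ i, i + 1 < C.M → C.chkDef i = true)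
    (hf : ∀ i, C.M ≤ i + 1 → i < C.nF → ∃ J, C.chkFactP i J = true) {H : Subgroup G}
    (hrels : ∀ w ∈ C.rels, ev g w = 1) (hsub : ∀ w ∈ C.sub, ev g w ∈ H) {cnt R : ℕ} {w : List ℕ}
    (h : C.walkP C.nF 0 cnt R 0 w = true) : ev g w ∈ H := by
  have hall := C.good_allP hinv hd hf hrels hsub
  have := C.walk_soundP hinv (fun j hj => (hall j hj).1) (fun j hj => (hall j hj).2) _ _ _ _ h
  simpa [C.rep_zero g] using this

/-- Every element lies in one of the cosets. -/
theorem exists_repP (hc : C.ChecksP) (hev : C.n % 2 = 0) {H : Subgroup G} (hinv : ∀ s, g (s ^^^ 1) = (g s)⁻¹)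
    (hgen : Subgroup.closure {x | ∃ s < C.n, g s = x} = ⊤)
    (hrels : ∀ w ∈ C.rels, ev g w = 1) (hsub : ∀ w ∈ C.sub, ev g w ∈ H) (x : G) :
    ∃ b < C.N, x * (C.rep g b)⁻¹ ∈ H := by
  have hall := C.good_allP hinv hc.defs hc.facts hrels hsub
  have hne : ∀ s < C.n, Nat.xor s 1 ≠ C.n := fun s hs => (xor_one_lt hev hs).ne
  have step : ∀ y s, s < C.n → (∃ b < C.N, y * (C.rep g b)⁻¹ ∈ H) →
      ∃ b < C.N, y * g s * (C.rep g b)⁻¹ ∈ H := by
    rintro y s hs ⟨a, ha, hy⟩
    have hk : a * C.n + s < C.N * C.n :=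
      calc a * C.n + s < (a + 1) * C.n := by rw [Nat.add_mul, Nat.one_mul]; omega
        _ ≤ C.N * C.n := Nat.mul_le_mul_right _ ha
    have h := hc.final _ hk
    have ea : (a * C.n + s) / C.n = a := by
      rw [Nat.mul_comm, Nat.mul_add_div (by omega), Nat.div_eq_of_lt hs, Nat.add_zero]
    have es : (a * C.n + s) % C.n = s := by
      rw [Nat.mul_comm, Nat.mul_add_mod, Nat.mod_eq_of_lt hs]
    simp only [chkFinalP, force_eq, Bool.and_eq_true, Nat.blt_eq, Nat.beq_eq, ea, es] at h
    obtain ⟨hr, ⟨hea, hes⟩, hb⟩ := h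
    refine ⟨_, hb, ?_⟩
    have hg := (hall _ hr).1
    unfold Good Holds at hg
    generalize C.facts.at (C.final.at (a * C.n + s) / 2) = F at hea hes hb hg ⊢
    rcases Nat.mod_two_eq_zero_or_one (C.final.at (a * C.n + s)) with hd' | hd' <;> rw [hd'] at hea hes hb ⊢ <;>
      simp only [show Nat.beq 0 0 = true from rfl, show Nat.beq 1 0 = false from rfl, Bool.cond_false,
        Bool.cond_true] at hea hb ⊢ <;> rw [hea, hes] at hg
    · simp only [xor_zero', gl, if_neg hs.ne] at hg
      simpa [mul_assoc] using H.mul_mem hy hg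
    · have hx1 : Nat.xor s 1 ≠ C.n := fun e => (hne s hs) e
      simp only [gl, if_neg hx1] at hg
      rw [show Nat.xor s 1 = s ^^^ 1 from rfl, hinv s] at hg
      simpa [mul_assoc] using H.mul_mem hy (H.inv_mem hg)
  have hx : x ∈ Subgroup.closure {x | ∃ s < C.n, g s = x} := hgen ▸ Subgroup.mem_top x
  induction hx using Subgroup.closure_induction_right with
  | one => exact ⟨0, hc.pos.1, by simp [C.rep_zero g]⟩
  | mul_right y _ z hz ih =>
    obtain ⟨s, hs, rfl⟩ := hz
    exact step y s hs ih
  | mul_inv_cancel y _ z hz ih =>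
    obtain ⟨s, hs, rfl⟩ := hz
    rw [← hinv s]
    exact step y _ (xor_one_lt hev hs) ih

/-- The index is positive and at most the number of cosets. -/
theorem index_leP (hc : C.ChecksP) (hev : C.n % 2 = 0) {H : Subgroup G} (hinv : ∀ s, g (s ^^^ 1) = (g s)⁻¹)
    (hgen : Subgroup.closure {x | ∃ s < C.n, g s = x} = ⊤)
    (hrels : ∀ w ∈ C.rels, ev g w = 1) (hsub : ∀ w ∈ C.sub, ev g w ∈ H) :
    H.FiniteIndex ∧ H.index ≤ C.N := by
  let f : Fin C.N → G ⧸ H := fun b => QuotientGroup.mk (C.rep g b)⁻¹
  have hf : Function.Surjective f := by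
    intro q
    induction q using QuotientGroup.induction_on with
    | _ x =>
      obtain ⟨b, hb, h⟩ := C.exists_repP hc hev hinv hgen hrels hsub x⁻¹
      refine ⟨⟨b, hb⟩, (QuotientGroup.eq).mpr ?_⟩
      have := H.inv_mem h
      simpa using this
  have : Finite (G ⧸ H) := Finite.of_surjective f hf
  refine ⟨Subgroup.finiteIndex_of_finite_quotient, ?_⟩
  rw [Subgroup.index]
  exact (Nat.card_le_card_of_surjective f hf).trans_eq (by simp)

end Log

end Cfsg.Agent.Spor.Cos
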