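import Cfsg.Agent.Lib.Spor.Cos.Sift

/-!
Every element as a product of one word from each level of a stabiliser chain, and a search through these products
for the elements commuting with a given one.
-/

set_option autoImplicit false

namespace Cfsg.Agent.Spor.Cos.RepSearch

/-- A level: its point, a link to an earlier point and representatives with their images of the point. -/
structure RLev where
  /-- the point -/
  b : ℕ
  /-- an earlier point sent to this one by the given element -/
  link : Option ℕ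
  /-- images and words -/
  reps : List (ℕ × List ℕ)

/-- A list increases strictly. -/
def incr : List ℕ → Bool
  | [] => true
  | [_] => true
  | a :: b :: l => Nat.blt a b && incr (b :: l)

theorem incr_pairwise : ∀ {l : List ℕ}, incr l = true → l.Pairwise (· < ·)
  | [], _ => List.Pairwise.nil
  | [_], _ => List.pairwise_singleton _ _
  | a :: b :: l, h => by
    simp only [incr, Bool.and_eq_true, Nat.blt_eq] at h
    have ih := incr_pairwise h.2
    refine List.pairwise_cons.2 ⟨fun x hx => ?_, ih⟩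
    rcases List.mem_cons.1 hx with rfl | hx
    · exact h.1
    · exact h.1.trans (List.rel_of_pairwise_cons ih hx)

/-- The check of a representative. -/
noncomputable def chkRep (A : Act) (b : ℕ) (fixed : List ℕ) (r : ℕ × List ℕ) : Bool :=
  (r.2.all fun s => Nat.blt s A.n) && Nat.beq (A.go r.2 b) r.1 && fixed.all fun p => Nat.beq (A.go r.2 p) p

/-- The levels are well formed. -/
noncomputable def chkLevs (A : Act) : List RLev → List ℕ → Bool
  | [], _ => true
  | L :: Ls, fixed => Nat.blt L.b A.N && incr (L.reps.map Prod.fst) && L.reps.all (chkRep A L.b fixed) &&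
      chkLevs A Ls (L.b :: fixed)

variable {G : Type*} [Group G]

/-- A product of one representative from each level. -/
def Rep (g : ℕ → G) : List RLev → G → Prop
  | [], y => y = 1
  | L :: Ls, y => ∃ r ∈ L.reps, ∃ z, Rep g Ls z ∧ y = ev g r.2 * z

variable {g : ℕ → G} {A : Act} {π : G →* Equiv.Perm (Fin A.N)}

theorem chkRep_spec {b : ℕ} {fixed : List ℕ} {r : ℕ × List ℕ} (h : chkRep A b fixed r = true) :
    (∀ s ∈ r.2, s < A.n) ∧ A.go r.2 b = r.1 ∧ ∀ p ∈ fixed, A.go r.2 p = p := by
  simp only [chkRep, Bool.and_eq_true, List.all_eq_true, Nat.blt_eq] at h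
  exact ⟨h.1.1, Nat.eq_of_beq_eq_true h.1.2, fun p hp => Nat.eq_of_beq_eq_true (h.2 p hp)⟩

theorem chkLevs_cons {L : RLev} {Ls : List RLev} {fixed : List ℕ} (h : chkLevs A (L :: Ls) fixed = true) :
    L.b < A.N ∧ (L.reps.map Prod.fst).Pairwise (· < ·) ∧ (∀ r ∈ L.reps, chkRep A L.b fixed r = true) ∧
      chkLevs A Ls (L.b :: fixed) = true := by
  simp only [chkLevs, Bool.and_eq_true, List.all_eq_true, Nat.blt_eq] at h
  exact ⟨h.1.1.1, incr_pairwise h.1.1.2, h.1.2, h.2⟩

theorem rep_fix (hπ : A.Hom g π) : ∀ {Ls : List RLev} {fixed : List ℕ} {z : G}, chkLevs A Ls fixed = true →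
    Rep g Ls z → ∀ p : Fin A.N, (p : ℕ) ∈ fixed → π z p = p
  | [], _, z, _, (h : z = 1), p, _ => by rw [h, map_one]; rfl
  | L :: Ls, fixed, z, hc, ⟨r, hr, z', hz, e⟩, p, hp => by
    obtain ⟨-, -, hreps, hrest⟩ := chkLevs_cons hc
    obtain ⟨hl, -, hf⟩ := chkRep_spec (hreps r hr)
    rw [e, map_mul, Equiv.Perm.mul_apply, rep_fix hπ hrest hz p (List.mem_cons_of_mem _ hp)]
    exact Fin.ext ((hπ.apply_ev _ hl p).trans (hf _ hp))

theorem card_rep (hπ : A.Hom g π) : ∀ {Ls : List RLev} {fixed : List ℕ}, chkLevs A Ls fixed = true →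
    Nat.card {y : G // Rep g Ls y} = (Ls.map fun L => L.reps.length).prod
  | [], _, _ => by
    rw [show {y : G // Rep g [] y} = {y : G // y = 1} from rfl]
    simp
  | L :: Ls, fixed, hc => by
    obtain ⟨hb, hp, hreps, hrest⟩ := chkLevs_cons hc
    rw [List.map_cons, List.prod_cons, ← card_rep hπ hrest,
      show L.reps.length * Nat.card {y : G // Rep g Ls y} = Nat.card (Fin L.reps.length × {y : G // Rep g Ls y}) by
        rw [Nat.card_prod, Nat.card_fin]]
    refine (Nat.card_eq_of_bijective (fun x : Fin L.reps.length × {y : G // Rep g Ls y} =>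
      (⟨ev g (L.reps[x.1]).2 * x.2.1, _, List.getElem_mem x.1.2, x.2.1, x.2.2, rfl⟩ : {y : G // Rep g (L :: Ls) y}))
      ⟨?_, ?_⟩).symm
    · rintro ⟨i, z, hz⟩ ⟨j, w, hw⟩ e
      have e' : ev g (L.reps[i.1]).2 * z = ev g (L.reps[j.1]).2 * w := congrArg Subtype.val e
      have e1 := congrArg (fun y : G => π y ⟨L.b, hb⟩) e'
      simp only [map_mul, Equiv.Perm.mul_apply, rep_fix hπ hrest hz ⟨L.b, hb⟩ (List.mem_cons_self ..),
        rep_fix hπ hrest hw ⟨L.b, hb⟩ (List.mem_cons_self ..)] at e1
      obtain ⟨li, bi, -⟩ := chkRep_spec (hreps _ (List.getElem_mem i.2))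
      obtain ⟨lj, bj, -⟩ := chkRep_spec (hreps _ (List.getElem_mem j.2))
      have e2 := congrArg Fin.val e1
      rw [hπ.apply_ev _ li, hπ.apply_ev _ lj] at e2
      have e3 : (L.reps[i.1]).1 = (L.reps[j.1]).1 := bi.symm.trans (e2.trans bj)
      obtain rfl : i = j := by
        have hn := hp.nodup
        have := (hn.getElem_inj_iff (i := i.1) (hi := by simp) (j := j.1) (hj := by simp)).1 (by simpa using e3)
        exact Fin.ext this
      obtain rfl := mul_left_cancel e'
      rfl
    · rintro ⟨y, r, hr, z, hz, rfl⟩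
      obtain ⟨i, hi, rfl⟩ := List.mem_iff_getElem.1 hr
      exact ⟨(⟨i, hi⟩, ⟨z, hz⟩), rfl⟩

/-- Every element is such a product. -/
theorem rep_all [Finite G] (hπ : A.Hom g π) {Ls : List RLev} (hc : chkLevs A Ls [] = true)
    (hcard : (Ls.map fun L => L.reps.length).prod = Nat.card G) (y : G) : Rep g Ls y := by
  have hb := (Subtype.val_injective (p := fun y : G => Rep g Ls y)).bijective_of_nat_card_le
    (by rw [card_rep hπ hc, hcard])
  obtain ⟨⟨z, hz⟩, rfl⟩ := hb.2 y
  exact hz

/-- The search for the elements commuting with the element of a word. -/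
noncomputable def search (A : Act) (tw : List ℕ) (leaf : List ℕ → Bool) : List RLev → List ℕ → List ℕ → Bool
  | [], _, hh => leaf hh
  | L :: Ls, done, hh =>
    match L.link with
    | some j => (done.any (Nat.beq j)) && Nat.beq (A.go tw j) L.b &&
        force (A.go hh.reverse (A.go tw (A.go hh j))) fun q => L.reps.all fun r =>
          !(Nat.beq r.1 q) || search A tw leaf Ls (L.b :: done) (hh ++ r.2)
    | none => force (A.go tw L.b) fun u => L.reps.all fun r =>
        (force (A.go hh r.1) fun c => !(Nat.beq u L.b == Nat.beq (A.go tw c) c)) ||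
          search A tw leaf Ls (L.b :: done) (hh ++ r.2)

theorem exists_leaf (hπ : A.Hom g π) (hinv : ∀ s < A.n, g s * g s = 1) {tw : List ℕ} (htw : ∀ s ∈ tw, s < A.n)
    {leaf : List ℕ → Bool} : ∀ {Ls : List RLev} {done hh : List ℕ}, (∀ p ∈ done, p < A.N) →
    chkLevs A Ls done = true → search A tw leaf Ls done hh = true → (∀ s ∈ hh, s < A.n) → ∀ z : G, Rep g Ls z →
    Commute (ev g hh * z) (ev g tw) →
    ∃ h' : List ℕ, (∀ s ∈ h', s < A.n) ∧ leaf h' = true ∧ ev g hh * z = ev g h'
  | [], done, hh, _, _, hs, hhl, z, (hz : z = 1), _ => ⟨hh, hhl, hs, by rw [hz, mul_one]⟩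
  | L :: Ls, done, hh, hdone, hc, hs, hhl, _, ⟨r, hr, z, hz, rfl⟩, hcomm => by
    obtain ⟨hb, -, hreps, hrest⟩ := chkLevs_cons hc
    obtain ⟨hrl, hrb, -⟩ := chkRep_spec (hreps r hr)
    have hy : ev g hh * (ev g r.2 * z) = ev g (hh ++ r.2) * z := by rw [ev_append, mul_assoc]
    have hl2 : ∀ s ∈ hh ++ r.2, s < A.n := fun s h => (List.mem_append.1 h).elim (hhl s) (hrl s)
    have hyb : ∀ p : Fin A.N, (p : ℕ) ∈ L.b :: done → (π (ev g hh * (ev g r.2 * z)) p : ℕ) = A.go (hh ++ r.2) p :=
      fun p hp => by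
      rw [hy, map_mul, Equiv.Perm.mul_apply, rep_fix hπ hrest hz p hp, hπ.apply_ev _ hl2]
    have hsucc : search A tw leaf Ls (L.b :: done) (hh ++ r.2) = true →
        ∃ h' : List ℕ, (∀ s ∈ h', s < A.n) ∧ leaf h' = true ∧ ev g hh * (ev g r.2 * z) = ev g h' := fun h => by
      rw [hy] at hcomm ⊢
      exact exists_leaf hπ hinv htw (List.forall_mem_cons.2 ⟨hb, hdone⟩) hrest h hl2 z hz hcomm
    have hgo : A.go (hh ++ r.2) L.b = A.go hh r.1 := by
      have e1 := hπ.apply_ev (hh ++ r.2) hl2 ⟨L.b, hb⟩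
      rw [ev_append, map_mul, Equiv.Perm.mul_apply, hπ.apply_ev _ hhl, hπ.apply_ev _ hrl, hrb] at e1
      exact e1.symm
    have hct : ∀ p : Fin A.N, π (ev g hh * (ev g r.2 * z)) (π (ev g tw) p) =
        π (ev g tw) (π (ev g hh * (ev g r.2 * z)) p) := fun p => by
      rw [← Equiv.Perm.mul_apply, ← map_mul, hcomm.eq, map_mul, Equiv.Perm.mul_apply]
    have hq : (π (ev g hh * (ev g r.2 * z)) ⟨L.b, hb⟩ : ℕ) = A.go hh r.1 := by
      rw [hyb _ (List.mem_cons_self ..), hgo]
    cases hlk : L.link with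
    | some j =>
      simp only [search, hlk, force_eq, Bool.and_eq_true, List.any_eq_true, List.all_eq_true, Bool.or_eq_true,
        Bool.not_eq_true'] at hs
      obtain ⟨⟨⟨j', hj', ej⟩, ejb⟩, hall⟩ := hs
      obtain rfl := Nat.eq_of_beq_eq_true ej
      refine (hall r hr).elim (fun hne => absurd ?_ (Bool.eq_false_iff.1 hne)) hsucc
      have ejb' : π (ev g tw) ⟨j, hdone j hj'⟩ = ⟨L.b, hb⟩ :=
        Fin.ext ((hπ.apply_ev _ htw _).trans (Nat.eq_of_beq_eq_true ejb))
      have ej2 : (π (ev g hh * (ev g r.2 * z)) ⟨j, hdone j hj'⟩ : ℕ) = A.go hh j := by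
        rw [map_mul, Equiv.Perm.mul_apply, show π (ev g r.2 * z) ⟨j, hdone j hj'⟩ = ⟨j, hdone j hj'⟩ by
          have := rep_fix hπ hc ⟨r, hr, z, hz, rfl⟩ ⟨j, hdone j hj'⟩ hj'
          exact this, hπ.apply_ev _ hhl]
      have e2 := hct ⟨j, hdone j hj'⟩
      rw [ejb'] at e2
      have e3 := congrArg Fin.val e2
      rw [hq, hπ.apply_ev _ htw, ej2] at e3
      have hr1 : r.1 < A.N := by
        rw [← hrb, ← hπ.apply_ev _ hrl ⟨L.b, hb⟩]; exact Fin.isLt _
      have e4 : A.go hh.reverse (A.go hh r.1) = r.1 := by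
        have := congrArg Fin.val (show π (ev g hh.reverse) (π (ev g hh) ⟨r.1, hr1⟩) = ⟨r.1, hr1⟩ by
          rw [← Equiv.Perm.mul_apply, ← map_mul, ev_reverse hinv hh hhl, inv_mul_cancel, map_one]; rfl)
        rw [hπ.apply_ev _ (fun s h => hhl s (List.mem_reverse.1 h)), hπ.apply_ev _ hhl] at this
        exact this
      rw [← e3, e4, Nat.beq_refl]
    | none =>
      simp only [search, hlk, force_eq, List.all_eq_true, Bool.or_eq_true, Bool.not_eq_true'] at hs
      refine (hs r hr).elim (fun hne => absurd ?_ (Bool.eq_false_iff.1 hne)) hsucc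
      have key : A.go tw L.b = L.b ↔ A.go tw (A.go hh r.1) = A.go hh r.1 := by
        set y := π (ev g hh * (ev g r.2 * z)) with hydef
        constructor <;> intro e
        · have e2 := hct ⟨L.b, hb⟩
          rw [show π (ev g tw) ⟨L.b, hb⟩ = ⟨L.b, hb⟩ from Fin.ext ((hπ.apply_ev _ htw _).trans e)] at e2
          have e3 := congrArg Fin.val e2
          rw [hq, hπ.apply_ev _ htw, hq] at e3
          exact e3.symm
        · have e2 := hct ⟨L.b, hb⟩
          rw [show π (ev g tw) (y ⟨L.b, hb⟩) = y ⟨L.b, hb⟩ from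
            Fin.ext ((hπ.apply_ev _ htw _).trans (by rw [hq, e]))] at e2
          have e3 := congrArg Fin.val (y.injective e2)
          rw [hπ.apply_ev _ htw] at e3
          exact e3
      rw [beq_iff_eq, Bool.eq_iff_iff]
      simpa using key

/-- A representative of a free level is out of question. -/
noncomputable def skip (A : Act) (tw : List ℕ) (L : RLev) (hh : List ℕ) (i : ℕ) : Bool :=
  (fun r : ℕ × List ℕ =>
    force (A.go tw L.b) fun u => force (A.go hh r.1) fun c => !(Nat.beq u L.b == Nat.beq (A.go tw c) c))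
    (L.reps.getD i (0, []))

/-- The search below a representative of a free level. -/
noncomputable def below (A : Act) (tw : List ℕ) (leaf : List ℕ → Bool) (L : RLev) (Ls : List RLev)
    (done hh : List ℕ) (i : ℕ) : Bool :=
  search A tw leaf Ls (L.b :: done) (hh ++ (L.reps.getD i (0, [])).2)

theorem search_of_children {tw : List ℕ} {leaf : List ℕ → Bool} {L : RLev} {Ls : List RLev} {done hh : List ℕ}
    (hl : L.link = none)
    (h : ∀ i < L.reps.length, (skip A tw L hh i || below A tw leaf L Ls done hh i) = true) :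
    search A tw leaf (L :: Ls) done hh = true := by
  simp only [search, hl, force_eq, List.all_eq_true]
  intro r hr
  obtain ⟨i, hi, rfl⟩ := List.mem_iff_getElem.1 hr
  have := h i hi
  simpa only [skip, below, force_eq, List.getD_eq_getElem _ _ hi] using this

end Cfsg.Agent.Spor.Cos.RepSearch
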