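import Cfsg.Agent.Lib.Spor.Cos.OutCentral

/-!
A listed subgroup in letters of its own: the words of the listed elements are words in some involutions.
-/

set_option autoImplicit false

namespace Cfsg.Agent.Spor.Cos.SubList

open Triple

/-- The data: involutions as words, their table, words in them with keys and products. -/
structure Data where
  /-- the involutions -/
  gens : List (List ℕ)
  /-- their table -/
  T : Tab
  /-- the words -/
  U : Tab
  /-- the keys -/
  K : Tab
  /-- the products -/
  step : Tab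
  /-- the order -/
  m : ℕ
  /-- the identity -/
  one : ℕ
  /-- a bound of the lengths of the words -/
  fuel : ℕ

/-- The action of the involutions. -/
def Data.act (D : Data) (N : ℕ) : Act := ⟨D.gens.length, N, D.T⟩

/-- The word of an element. -/
noncomputable def Data.word (D : Data) (i : ℕ) : List ℕ := decWord D.fuel (D.U.at i)

/-- The word of an element in the first letters. -/
noncomputable def Data.long (D : Data) (i : ℕ) : List ℕ := subW D.gens (D.word i)

/-- The table shows the words at a point. -/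
noncomputable def chkRow (A : Act) (D : Data) (p : ℕ) : Bool :=
  (D.act A.N).chkInv p && (List.range D.gens.length).all fun t =>
    (fun w : List ℕ => (w.all fun s => Nat.blt s A.n) && Nat.beq ((D.act A.N).im p t) (A.go w p)) (D.gens.getD t [])

/-- The list is closed. -/
noncomputable def chkElem (N : ℕ) (pts : List ℕ) (D : Data) (i : ℕ) : Bool :=
  chkClosedList (D.act N) pts D.fuel D.U D.K D.step (singles (List.range D.gens.length)) D.m i

/-- An element is the identity, the first generator of the group, or not central. -/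
noncomputable def chkCentral (A : Act) (pts : List ℕ) (D : Data) (i : ℕ) : Bool :=
  (fun w : List ℕ => Nat.beq i D.one ||
    ((List.range D.gens.length).any fun t => !(agree (D.act A.N) pts (w ++ [t]) ([t] ++ w))) ||
      sameW A pts (D.long i) [0]) (D.word i)

/-- An involution is listed or conjugate to the given one. -/
noncomputable def chkInvol (A : Act) (pts : List ℕ) (D : Data) (inv : List (List ℕ)) (idx conj : Tab)
    (fuel : ℕ) (tw : List ℕ) (i : ℕ) : Bool :=
  (fun w : List ℕ => !(agree (D.act A.N) pts (w ++ w) []) || Nat.beq i D.one ||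
    (force (idx.at i) fun j => Nat.blt j inv.length && sameW A pts (D.long i) (inv.getD j [])) ||
    (fun c : List ℕ => sameW A pts (c ++ (tw ++ c.reverse)) (D.long i)) (decWord fuel (conj.at i))) (D.word i)

section

variable {G : Type*} [Group G] [Finite G] {g : ℕ → G} {A : Act} {π : G →* Equiv.Perm (Fin A.N)} {pts : List ℕ}
  {D : Data}

/-- The involutions as elements. -/
noncomputable def Data.gen (D : Data) (g : ℕ → G) (t : ℕ) : G := ev g (D.gens.getD t [])

omit [Finite G] in
theorem hom (hπ : A.Hom g π) (h : ∀ p < A.N, chkRow A D p = true) : (D.act A.N).Hom (D.gen g) π := by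
  have inv : ∀ p < A.N, (D.act A.N).chkInv p = true := fun p hp => by
    have := h p hp
    rw [chkRow, Bool.and_eq_true] at this
    exact this.1
  refine ⟨inv, fun t => ?_⟩
  rcases Nat.lt_or_ge t D.gens.length with ht | ht
  · refine Equiv.ext fun p => Fin.ext ?_
    have hp := h p p.2
    simp only [chkRow, Bool.and_eq_true, List.all_eq_true, List.mem_range] at hp
    obtain ⟨hl, e⟩ := hp.2 t ht
    have e1 := (D.act A.N).perm_apply inv (s := t) ht p
    rw [Nat.eq_of_beq_eq_true e] at e1
    exact (hπ.apply_ev _ (fun s hs => Nat.le_of_ble_eq_true (hl s hs)) p).trans e1.symm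
  · have e : D.gen g t = 1 := by rw [Data.gen, List.getD_eq_default _ _ ht]; rfl
    exact (congrArg π e).trans ((map_one π).trans ((D.act A.N).perm_out t ht).symm)

theorem long_eq (i : ℕ) : ev g (D.long i) = ev (D.gen g) (D.word i) := ev_subW _ _

theorem listed (hπ : A.Hom g π) (hrow : ∀ p < A.N, chkRow A D p = true) (hpts : ∀ p ∈ pts, p < A.N)
    (hdet : ∀ y : G, (∀ q : Fin A.N, (q : ℕ) ∈ pts → π y q = q) → y = 1)
    (h : ∀ i < D.m, chkElem A.N pts D i = true) (h0 : D.one < D.m)
    (hone : agree (D.act A.N) pts (D.word D.one) [] = true) :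
    (∀ y ∈ val g D.gens, ∃ i < D.m, ev (D.gen g) (D.word i) = y) ∧ Nat.card (val g D.gens) = D.m ∧
      (∀ i < D.m, ∀ s ∈ D.word i, s < D.gens.length) ∧ ev (D.gen g) (D.word D.one) = 1 := by
  have hl : ∀ i < D.m, ∀ s ∈ D.word i, s < D.gens.length := fun i hi s hs => by
    have := h i hi
    simp only [chkElem, chkClosedList, force_eq, Bool.and_eq_true, List.all_eq_true] at this
    exact Nat.le_of_ble_eq_true (this.1.1.1 s hs)
  have h1 : ev (D.gen g) (D.word D.one) = 1 :=
    ev_eq_of_agree (hom hπ hrow) (w := []) hdet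
      (by simp only [Act.lettersOk, List.all_cons, List.all_nil, Bool.and_true, List.all_eq_true]
          exact fun s hs => Nat.ble_eq_true_of_le (hl _ h0 s hs)) rfl hone
  obtain ⟨mem, hcard⟩ := closedList (A := D.act A.N) (hom hπ hrow) hpts hdet h h0 h1
  have e : val (D.gen g) (singles (List.range D.gens.length)) = val g D.gens := by
    refine le_antisymm ((Subgroup.closure_le _).2 ?_) ((Subgroup.closure_le _).2 ?_)
    · rintro _ ⟨w, hw, rfl⟩
      obtain ⟨t, ht, rfl⟩ := List.mem_map.1 hw
      show D.gen g t * 1 ∈ _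
      rw [mul_one]
      refine mem_val ?_
      rw [List.getD_eq_getElem _ _ (List.mem_range.1 ht)]
      exact List.getElem_mem _
    · rintro _ ⟨w, hw, rfl⟩
      obtain ⟨t, ht, rfl⟩ := List.mem_iff_getElem.1 hw
      have := mem_single (g := D.gen g) (List.mem_range.2 ht)
      rwa [Data.gen, List.getD_eq_getElem _ _ ht] at this
  rw [← e]
  refine ⟨mem, hcard fun i hi => ?_, hl, h1⟩
  exact ev_mem _ fun s hs => mem_single (List.mem_range.2 (hl i hi s hs))

theorem ne_of_agree' (hπ : (D.act A.N).Hom (D.gen g) π) (hpts : ∀ p ∈ pts, p < A.N) {v w : List ℕ}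
    (hv : ∀ s ∈ v, s < D.gens.length) (hw : ∀ s ∈ w, s < D.gens.length)
    (h : agree (D.act A.N) pts v w = false) : ev (D.gen g) v ≠ ev (D.gen g) w :=
  Central.ne_of_agree (A := D.act A.N) hπ hpts hv hw h

/-- An automorphism sends an involution central in a Sylow subgroup to a conjugate. -/
theorem cls (hπ : A.Hom g π) (hrow : ∀ p < A.N, chkRow A D p = true) (hpts : ∀ p ∈ pts, p < A.N)
    (hdet : ∀ y : G, (∀ q : Fin A.N, (q : ℕ) ∈ pts → π y q = q) → y = 1)
    (h : ∀ i < D.m, chkElem A.N pts D i = true) (h0 : D.one < D.m)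
    (hone : agree (D.act A.N) pts (D.word D.one) [] = true) (hc : ∀ i < D.m, chkCentral A pts D i = true)
    (hm : D.m = 2 ^ (Nat.card G).factorization 2) (hzc : ∀ u ∈ val g D.gens, g 0 * u = u * g 0)
    (hz2 : g 0 * g 0 = 1) (hz1 : g 0 ≠ 1) (φ : MulAut G) : IsConj (g 0) (φ (g 0)) := by
  obtain ⟨mem, hcard, hl, h1⟩ := listed hπ hrow hpts hdet h h0 hone
  refine Central.cls_core (hcard.trans hm) hzc (fun y hy hy1 hyc => ?_) hz2 hz1 φ
  obtain ⟨i, hi, e⟩ := mem y hy
  have hh := hc i hi
  simp only [chkCentral, Bool.or_eq_true, List.any_eq_true, List.mem_range, Bool.not_eq_true'] at hh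
  rcases hh with (hh | ⟨t, ht, hh⟩) | hh
  · exact absurd (by rw [← e, Nat.eq_of_beq_eq_true hh, h1]) hy1
  · exfalso
    refine ne_of_agree' (hom hπ hrow) hpts (fun s hs => ?_) (fun s hs => ?_) hh ?_
    · exact (List.mem_append.1 hs).elim (hl i hi s) (fun h' => by rw [List.mem_singleton] at h'; omega)
    · exact (List.mem_append.1 hs).elim (fun h' => by rw [List.mem_singleton] at h'; omega) (hl i hi s)
    rw [ev_append, ev_append, e, show ev (D.gen g) [t] = D.gen g t from mul_one _]
    refine hyc _ (mem_val ?_)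
    rw [List.getD_eq_getElem _ _ ht]
    exact List.getElem_mem _
  · have e' := eq_of_sameW (g := g) hπ hdet hh
    rwa [long_eq, e, show ev g [0] = g 0 from mul_one _] at e'

/-- The conjugates of the first generator commuting with it are listed. -/
theorem invol (hπ : A.Hom g π) (hrow : ∀ p < A.N, chkRow A D p = true) (hpts : ∀ p ∈ pts, p < A.N)
    (hdet : ∀ y : G, (∀ q : Fin A.N, (q : ℕ) ∈ pts → π y q = q) → y = 1) (hsq : ∀ s, g s * g s = 1)
    (h : ∀ i < D.m, chkElem A.N pts D i = true) (h0 : D.one < D.m)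
    (hone : agree (D.act A.N) pts (D.word D.one) [] = true)
    {C : Subgroup G} (hC : C = Subgroup.centralizer ({g 0} : Set G)) (hle : val g D.gens ≤ C)
    (hm : D.m = 2 ^ (Nat.card C).factorization 2)
    {inv : List (List ℕ)} {idx conj : Tab} {fuel : ℕ} {tw : List ℕ}
    (hi : ∀ i < D.m, chkInvol A pts D inv idx conj fuel tw i = true) (htw : ¬ IsConj (g 0) (ev g tw))
    (hclosed : ∀ c ∈ C, ∀ j < inv.length, ∃ k < inv.length, c * ev g (inv.getD j []) * c⁻¹ = ev g (inv.getD k []))
    (x : G) (hxz : IsConj (g 0) x) (hx : x * x = 1) (hne : x ≠ 1) (hcx : x * g 0 = g 0 * x) :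
    ∃ j < inv.length, x = ev g (inv.getD j []) := by
  obtain ⟨mem, hcard, hl, h1⟩ := listed hπ hrow hpts hdet h h0 hone
  refine Central.invol_core hC hle (hcard.trans hm) (fun y hy hzy hy2 hy1 => ?_) hclosed x hxz hx hne hcx
  obtain ⟨i, hil, e⟩ := mem y hy
  have hh := hi i hil
  simp only [chkInvol, force_eq, Bool.or_eq_true, Bool.and_eq_true, Bool.not_eq_true'] at hh
  rcases hh with ((hh | hh) | hh) | hh
  · refine absurd ?_ (ne_of_agree' (hom hπ hrow) hpts (fun s hs => hl i hil s ((List.mem_append.1 hs).elim id id))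
      (by simp) hh)
    rw [ev_append, e]
    exact hy2
  · exact absurd (by rw [← e, Nat.eq_of_beq_eq_true hh, h1]) hy1
  · exact ⟨_, Nat.le_of_ble_eq_true hh.1, e.symm.trans ((long_eq i).symm.trans (eq_of_sameW hπ hdet hh.2))⟩
  · exfalso
    have hl' : ∀ s ∈ decWord fuel (conj.at i), s < A.n := fun s hs => by
      simp only [sameW, Bool.and_eq_true, List.all_append, List.all_eq_true] at hh
      exact Nat.le_of_ble_eq_true (hh.1.1.1 s hs)
    have e' := eq_of_sameW (g := g) hπ hdet hh
    rw [ev_append, ev_append, ev_reverse (fun s _ => hsq s) _ hl', ← mul_assoc, long_eq, e] at e'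
    exact htw (hzy.trans (isConj_iff.2 ⟨_, e'⟩ : IsConj (ev g tw) y).symm)

end

end Cfsg.Agent.Spor.Cos.SubList
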